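import Cfsg.Agent.Bridge.BLemma.Cyclic

/-!
P4 of notes/helper76_bridge.md: some non-trivial element of `F` lies in `[F, z]` for every `z ≠ 1` in `B`, so
the characters of `F` fixed by non-trivial elements of `B` generate a proper subgroup.
-/

set_option autoImplicit false
set_option linter.unusedSectionVars false

namespace Cfsg.Agent.Bridge.BLemma

open Subgroup

variable {F B : Type*} [CommGroup F] [Finite F] [Group B] [Finite B] {φ : B →* MulAut F}

/-- In a cyclic group two elements of the same prime order generate the same subgroup. -/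
theorem zpowers_eq_of_orderOf {C : Type*} [Group C] [Finite C] [IsCyclic C] {x y : C}
    (h : orderOf x = orderOf y) : zpowers x = zpowers y := by
  classical
  let _ := Fintype.ofFinite C
  have key : ∀ u : C, orderOf u = orderOf x →
      ((zpowers u : Subgroup C) : Set C) = ↑(Finset.univ.filter fun v : C => v ^ orderOf x = 1) := by
    intro u hu
    refine Set.eq_of_subset_of_ncard_le (fun v hv => ?_) ?_ (Set.toFinite _)
    · obtain ⟨i, rfl⟩ := mem_zpowers_iff.mp hv
      simp only [Finset.coe_filter, Finset.mem_univ, true_and, Set.mem_ofPred_eq]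
      rw [← hu, ← zpow_natCast, ← zpow_mul, mul_comm, zpow_mul, zpow_natCast, pow_orderOf_eq_one, one_zpow]
    · rw [Set.ncard_coe_finset, ← Nat.card_coe_set_eq]
      refine (IsCyclic.card_pow_eq_one_le (n := orderOf x) (orderOf_pos x)).trans (le_of_eq ?_)
      rw [SetLike.coe_sort_coe, Nat.card_zpowers, hu]
  exact SetLike.coe_injective ((key x rfl).trans (key y h.symm).symm)

/-- Good elements of prime order lie in the cyclic derived group, and their fixed groups coincide. -/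
theorem fixBy_eq_of_good [Nontrivial F] (h : Hyp φ) {u v : B} {s t : ℕ} (hs : s.Prime) (ht : t.Prime)
    (hu : orderOf u = s) (hv : orderOf v = t) (hug : fixBy φ u ≠ ⊥) (hvg : fixBy φ v ≠ ⊥) :
    fixBy φ u ≤ fixBy φ v := by
  have hcy := isCyclic_commutator h
  have hu1 : u ≠ 1 := fun hh => hs.ne_one (by rw [← hu, hh, orderOf_one])
  have hv1 : v ≠ 1 := fun hh => ht.ne_one (by rw [← hv, hh, orderOf_one])
  have huc := h.goodPow u s 1 hs (by rw [pow_one]; exact hu) u (mem_zpowers _) hu1 hug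
  have hvc := h.goodPow v t 1 ht (by rw [pow_one]; exact hv) v (mem_zpowers _) hv1 hvg
  have hinv : ∀ g : B, ∀ a ∈ fixBy φ u, φ g a ∈ fixBy φ u := by
    intro g a ha
    have hmem : g * u * g⁻¹ ∈ commutator B := (commNormal (B := B)).conj_mem u huc g
    have h1 : zpowers (⟨g * u * g⁻¹, hmem⟩ : commutator B) = zpowers (⟨u, huc⟩ : commutator B) := by
      refine zpowers_eq_of_orderOf ?_
      rw [orderOf_mk, orderOf_mk, ← MulAut.conj_apply, (MulAut.conj g).orderOf_eq]
    obtain ⟨n, hn⟩ : ∃ n : ℕ, (g * u * g⁻¹) ^ n = u := by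
      have h2 : (⟨u, huc⟩ : commutator B) ∈ zpowers (⟨g * u * g⁻¹, hmem⟩ : commutator B) :=
        h1 ▸ mem_zpowers _
      obtain ⟨n, hn⟩ := mem_powers_iff_mem_zpowers.mpr h2
      exact ⟨n, congrArg Subtype.val hn⟩
    exact map_mem_fixBy_of_conj φ hn ha
  have := h.cyc u hu1
  exact fun a ha => commutator_le_of_cyclic φ hinv hvc ha

/-- **P4.** -/
theorem exists_singular_annihilator [Nontrivial F] (h : Hyp φ) :
    ∃ a : F, a ≠ 1 ∧ ∀ z : B, z ≠ 1 → a ∈ (delta φ z).range := by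
  classical
  have hcy := isCyclic_commutator h
  -- it suffices to treat good elements of prime order
  suffices hgood : ∃ a : F, a ≠ 1 ∧
      ∀ w : B, (orderOf w).Prime → fixBy φ w ≠ ⊥ → a ∈ (delta φ w).range by
    obtain ⟨a, ha, hgood⟩ := hgood
    refine ⟨a, ha, fun z hz => ?_⟩
    obtain ⟨p, hp, hpz⟩ := Nat.exists_prime_and_dvd (fun h1 => hz (orderOf_eq_one_iff.mp h1))
    have hw : orderOf (z ^ (orderOf z / p)) = p := orderOf_pow_orderOf_div (orderOf_pos z).ne' hpz
    refine range_delta_pow_le φ z (orderOf z / p) ?_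
    by_cases hf : fixBy φ (z ^ (orderOf z / p)) = ⊥
    · rw [range_delta_eq_top φ hf]; exact mem_top _
    · exact hgood _ (hw.symm ▸ hp) hf
  by_cases hne : ∃ w : B, (orderOf w).Prime ∧ fixBy φ w ≠ ⊥
  swap
  · obtain ⟨a, ha⟩ := exists_ne (1 : F)
    exact ⟨a, ha, fun w hw hf => absurd ⟨w, hw, hf⟩ hne⟩
  obtain ⟨u, hup, hug⟩ := hne
  set F₀ := fixBy φ u with hF₀
  have hall : ∀ w : B, (orderOf w).Prime → fixBy φ w ≠ ⊥ → fixBy φ w = F₀ := fun w hw hwg =>
    le_antisymm (fixBy_eq_of_good h hw hup rfl rfl hwg hug) (fixBy_eq_of_good h hup hw rfl rfl hug hwg)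
  -- a prime `ℓ` and an element of order `ℓ` modulo `F₀`
  obtain ⟨x₀, hx₀, hmin⟩ : ∃ x ∉ F₀, ∀ y ∉ F₀, orderOf x ≤ orderOf y := by
    obtain ⟨x, hx⟩ : ∃ x, x ∉ F₀ := by
      by_contra hall'
      push Not at hall'
      have := eq_one_of_fixBy_top h.inj (eq_top_iff.mpr fun x _ => hall' x : F₀ = ⊤)
      exact hup.ne_one (by rw [this, orderOf_one])
    exact Set.exists_min_image {x : F | x ∉ F₀} orderOf (Set.toFinite _) ⟨x, hx⟩
  obtain ⟨l, hl, hlx⟩ := Nat.exists_prime_and_dvd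
    (fun h1 => hx₀ (orderOf_eq_one_iff.mp h1 ▸ one_mem _) : orderOf x₀ ≠ 1)
  have hxl : x₀ ^ l ∈ F₀ := by
    by_contra hn
    have h1 := hmin _ hn
    rw [orderOf_pow_of_dvd hl.ne_zero hlx] at h1
    exact absurd h1 (not_le.mpr (Nat.div_lt_self (orderOf_pos x₀) hl.one_lt))
  -- one element for each prime
  have hgen : ∀ w w' : B, (orderOf w).Prime → fixBy φ w ≠ ⊥ → orderOf w' = orderOf w →
      fixBy φ w' ≠ ⊥ → (delta φ w).range ≤ (delta φ w').range := by
    intro w w' hw hwg hww hw'g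
    have hw1 : w ≠ 1 := fun hh => hw.ne_one (by rw [hh, orderOf_one])
    have hw'1 : w' ≠ 1 := fun hh => hw.ne_one (by rw [← hww, hh, orderOf_one])
    have hc := h.goodPow w _ 1 hw (pow_one _).symm w (mem_zpowers _) hw1 hwg
    have hc' := h.goodPow w' _ 1 (hww ▸ hw) (pow_one _).symm w' (mem_zpowers _) hw'1 hw'g
    have h1 : zpowers (⟨w, hc⟩ : commutator B) = zpowers (⟨w', hc'⟩ : commutator B) :=
      zpowers_eq_of_orderOf (by rw [orderOf_mk, orderOf_mk, hww])
    obtain ⟨n, hn⟩ := mem_powers_iff_mem_zpowers.mpr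
      (h1 ▸ mem_zpowers _ : (⟨w, hc⟩ : commutator B) ∈ zpowers (⟨w', hc'⟩ : commutator B))
    rw [← show w' ^ n = w from congrArg Subtype.val hn]
    exact range_delta_pow_le φ w' n
  have hcomm : ∀ w w' : B, (orderOf w).Prime → fixBy φ w ≠ ⊥ → (orderOf w').Prime → fixBy φ w' ≠ ⊥ →
      Commute w w' := by
    intro w w' hw hwg hw' hw'g
    have hc := h.goodPow w _ 1 hw (pow_one _).symm w (mem_zpowers _)
      (fun hh => hw.ne_one (by rw [hh, orderOf_one])) hwg
    have hc' := h.goodPow w' _ 1 hw' (pow_one _).symm w' (mem_zpowers _)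
      (fun hh => hw'.ne_one (by rw [hh, orderOf_one])) hw'g
    let _ := hcy.commGroup
    exact congrArg Subtype.val (mul_comm (⟨w, hc⟩ : commutator B) ⟨w', hc'⟩)
  -- compose the maps `delta` over the primes other than `ℓ`
  have hstep : ∀ S : Finset ℕ, l ∉ S → ∃ x : F, x ∉ F₀ ∧ x ^ l ∈ F₀ ∧
      ∀ w : B, (orderOf w).Prime → fixBy φ w ≠ ⊥ → orderOf w ∈ S → x ∈ (delta φ w).range := by
    intro S
    induction S using Finset.induction with
    | empty => exact fun _ => ⟨x₀, hx₀, hxl, fun w _ _ hw => absurd hw (Finset.notMem_empty _)⟩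
    | @insert s S _ ih =>
      intro hlS
      obtain ⟨hls, hlS'⟩ : l ≠ s ∧ l ∉ S := by simpa using hlS
      obtain ⟨x, hx, hxl', hxr⟩ := ih hlS'
      by_cases hs : ∃ e : B, (orderOf e).Prime ∧ fixBy φ e ≠ ⊥ ∧ orderOf e = s
      swap
      · refine ⟨x, hx, hxl', fun w hw hwg hwS => (Finset.mem_insert.mp hwS).elim
          (fun hh => absurd ⟨w, hw, hwg, hh⟩ hs) (hxr w hw hwg)⟩
      obtain ⟨e, he, heg, hes⟩ := hs
      have hF : fixBy φ e = F₀ := hall e he heg
      have hxl1 : delta φ e x ^ l = 1 := by rw [← map_pow, delta_eq_one_iff, hF]; exact hxl'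
      refine ⟨delta φ e x, fun hc => hx ?_, by rw [hxl1]; exact one_mem _, ?_⟩
      · rw [← hF, ← delta_eq_one_iff]
        have h1 := pow_eq_one_of_delta_fixed φ (n := s) (hes ▸ pow_orderOf_eq_one e) (hF.symm ▸ hc)
        exact orderOf_eq_one_iff.mp (Nat.eq_one_of_dvd_coprimes
          ((Nat.coprime_primes hl (hes ▸ he)).mpr hls) (orderOf_dvd_of_pow_eq_one hxl1)
          (orderOf_dvd_of_pow_eq_one h1))
      · intro w hw hwg hwS
        rcases Finset.mem_insert.mp hwS with hh | hh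
        · exact hgen e w he heg (hh.trans hes.symm) hwg ⟨x, rfl⟩
        · obtain ⟨b, hb⟩ := hxr w hw hwg hh
          exact ⟨delta φ e b, by rw [← hb, delta_comm φ (hcomm w e hw hwg he heg)]⟩
  obtain ⟨x, hx, hxl', hxr⟩ := hstep ((Nat.card B).primeFactors.erase l) (Finset.notMem_erase _ _)
  have hin : ∀ w : B, (orderOf w).Prime → fixBy φ w ≠ ⊥ → orderOf w ≠ l → x ∈ (delta φ w).range :=
    fun w hw hwg hne => hxr w hw hwg (Finset.mem_erase.mpr ⟨hne, Nat.mem_primeFactors.mpr
      ⟨hw, orderOf_dvd_natCard w, Nat.card_pos.ne'⟩⟩)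
  by_cases hle : ∃ e : B, (orderOf e).Prime ∧ fixBy φ e ≠ ⊥ ∧ orderOf e = l
  swap
  · exact ⟨x, fun hh => hx (hh ▸ one_mem _), fun w hw hwg => hin w hw hwg fun hh => hle ⟨w, hw, hwg, hh⟩⟩
  obtain ⟨e, he, heg, hel⟩ := hle
  refine ⟨delta φ e x, fun hh => hx ?_, fun w hw hwg => ?_⟩
  · rw [← hall e he heg]; exact (delta_eq_one_iff φ).mp hh
  · by_cases hwl : orderOf w = l
    · exact hgen e w he heg (hwl.trans hel.symm) hwg ⟨x, rfl⟩
    · obtain ⟨b, hb⟩ := hin w hw hwg hwl
      exact ⟨delta φ e b, by rw [← hb, delta_comm φ (hcomm w e hw hwg he heg)]⟩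

/-- A homomorphism on `F` fixed by a non-trivial element of `B` kills the element of P4. -/
theorem exists_killed [Nontrivial F] (h : Hyp φ) :
    ∃ a : F, a ≠ 1 ∧ ∀ (M : Type*) [CommGroup M] (f : F →* M) (z : B), z ≠ 1 →
      (∀ b, f (φ z b) = f b) → f a = 1 := by
  obtain ⟨a, ha, hr⟩ := exists_singular_annihilator h
  refine ⟨a, ha, fun M _ f z hz hf => ?_⟩
  obtain ⟨b, rfl⟩ := hr z hz
  rw [delta_apply, map_div, hf, div_self']

end Cfsg.Agent.Bridge.BLemma
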