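import Cfsg.Agent.Bridge.NonCommMain
import Cfsg.Agent.H62.Bender.Lambda.Field

/-!
GALOIS on a line (notes/helper76_bridge.md, section 0): the involutions at `a` centralising a
non-trivial element of the pair stabiliser form, with `1`, an elementary group, which a regular
abelian group turns into a field; the stabiliser of one involution acts by field automorphisms.
-/

set_option autoImplicit false
set_option linter.style.haveILetI false

namespace Cfsg.Agent.Bridge

open Subgroup MulAction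
open Cfsg.Agent.H39
open Cfsg.Agent.H73.Bender
open Cfsg.Agent.H62.Bender.Lambda (exists_conjEnd galois_data)

universe u

variable {G : Type u} [Group G] {Ω : Type u} [MulAction G Ω] [Finite G] [Finite Ω]
  {S : Subgroup G} {C : Set Ω} {a b : Ω} {u : G}

omit [Finite G] [Finite Ω] in
theorem mem_normalizer_zpowers_of_commute {k z : G} (h : Commute k z) :
    k ∈ normalizer (zpowers z : Set G) := by
  refine Subgroup.mem_normalizer_iff.mpr fun x => ⟨fun hx => ?_, fun hx => ?_⟩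
  · rwa [(commute_of_mem_zpowers h hx).eq, mul_inv_cancel_right]
  · obtain ⟨i, hi⟩ := mem_zpowers_iff.mp hx
    refine mem_zpowers_iff.mpr ⟨i, ?_⟩
    have h1 := (h.zpow_right i).eq
    rw [hi] at h1 ⊢
    calc k * x * k⁻¹ = k⁻¹ * (k * (k * x * k⁻¹)) := by group
      _ = x := by rw [h1]; group

theorem mem_closure_invCent_iff (h : Setting S C a b u) {z : G} (hz : z ∈ pair S a b) (hz1 : z ≠ 1)
    {e : G} : e ∈ closure (invCent S a (zpowers z)) ↔ e = 1 ∨ e ∈ invCent S a (zpowers z) := by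
  refine ⟨fun he => ?_, fun he => he.elim (fun e1 => e1 ▸ one_mem _) fun he => subset_closure he⟩
  induction he using Subgroup.closure_induction with
  | mem t ht => exact Or.inr ht
  | one => exact Or.inl rfl
  | mul x y _ _ hx hy =>
    rcases hx with rfl | hx
    · rwa [one_mul]
    rcases hy with rfl | hy
    · rw [mul_one]; exact Or.inr hx
    by_cases h1 : x * y = 1
    · exact Or.inl h1
    have hc : Commute x y := shareAt h z hz hz1 x hx.1.1 hx.1.2.1 hx.1.2.2
      (mem_invCent_zpowers_iff.mp hx).2.symm y hy.1.1 hy.1.2.1 hy.1.2.2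
      (mem_invCent_zpowers_iff.mp hy).2.symm
    refine Or.inr ⟨⟨mul_mem hx.1.1 hy.1.1, orderOf_eq_two_of_mul_self ?_ h1,
      by rw [mul_smul, hy.1.2.2, hx.1.2.2]⟩, fun g hg => (hx.2 g hg).mul_left (hy.2 g hg)⟩
    rw [hc.symm.mul_mul_mul_comm x y, mul_self_of_orderOf_eq_two hx.1.2.1,
      mul_self_of_orderOf_eq_two hy.1.2.1, one_mul]
  | inv x _ hx =>
    rcases hx with rfl | hx
    · exact Or.inl inv_one
    · rw [inv_eq_of_orderOf_eq_two hx.1.2.1]; exact Or.inr hx

/-- GALOIS. -/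
theorem galoisLine (h : Setting S C a b u) : GaloisLine S a b := by
  intro z g g' t hz1 ht hzp hgp hg'p hzt hgt hg't hgz hg'z A hAc hAp hgA hg'A hAz hreg hfree hfpf
  classical
  haveI := hAc
  set E : Subgroup G := closure (invCent S a (zpowers z)) with hE
  have hmem := fun {e : G} => mem_closure_invCent_iff (e := e) h hzp hz1
  have hnorm : ∀ k : G, k ∈ pair S a b → Commute k z → k ∈ normalizer (E : Set G) := by
    intro k hk hkz
    have key : ∀ k : G, k ∈ pair S a b → Commute k z → ∀ e ∈ E, k * e * k⁻¹ ∈ E := by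
      intro k hk hkz e he
      rcases hmem.mp he with rfl | he
      · simp
      · refine subset_closure (conj_mem_invCent (mem_ptStab.mpr
          ⟨(mem_pair.mp hk).1, (mem_pair.mp hk).2.1⟩) ?_ he)
        exact mem_normalizer_zpowers_of_commute hkz
    refine Subgroup.mem_normalizer_iff.mpr fun e => ⟨key k hk hkz e, fun he => ?_⟩
    have h1 := key k⁻¹ (inv_mem hk) hkz.inv_left _ he
    rwa [show k⁻¹ * (k * e * k⁻¹) * k⁻¹⁻¹ = e by group] at h1
  have hEc : ∀ x y : E, x * y = y * x := by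
    rintro ⟨x, hx⟩ ⟨y, hy⟩
    rcases hmem.mp hx with rfl | hx
    · exact Subtype.ext (by simp)
    rcases hmem.mp hy with rfl | hy
    · exact Subtype.ext (by simp)
    exact Subtype.ext (shareAt h z hzp hz1 x hx.1.1 hx.1.2.1 hx.1.2.2
      (mem_invCent_zpowers_iff.mp hx).2.symm y hy.1.1 hy.1.2.1 hy.1.2.2
      (mem_invCent_zpowers_iff.mp hy).2.symm).eq
  letI : CommGroup E := { (inferInstance : Group E) with mul_comm := hEc }
  letI : CommGroup A := { (inferInstance : Group A) with mul_comm := fun x y => mul_comm' x y }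
  have hAn : A ≤ normalizer (E : Set G) := fun k hk => hnorm k (hAp hk) (hAz k hk)
  obtain ⟨α, hα⟩ := exists_conjEnd hAn
  set K : Subgroup G := pair S a b ⊓ centralizer ({t} : Set G) ⊓ centralizer ({z} : Set G) ⊓
    normalizer (A : Set G) with hK
  have hKn : K ≤ normalizer (E : Set G) := fun k hk =>
    hnorm k hk.1.1.1 (mem_centralizer_singleton_iff.mp hk.1.2)
  let ψ : K →* MulAut E := E.normalizerMonoidHom.comp (Subgroup.inclusion hKn)
  have hψ : ∀ (k : K) (e : E), ((ψ k e : E) : G) = k * e * (k : G)⁻¹ := fun _ _ => rfl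
  haveI : Finite (MulAut E) := Finite.of_injective (fun f => (f : E → E)) DFunLike.coe_injective
  let β : ψ.range →* AddMonoid.End (Additive E) :=
    { toFun := fun f => MonoidHom.toAdditive (f : MulAut E).toMonoidHom
      map_one' := rfl
      map_mul' := fun _ _ => rfl }
  have hβ : ∀ (f : ψ.range) (e : Additive E), (β f e).toMul = (f : MulAut E) e.toMul :=
    fun _ _ => rfl
  have hβinj : Function.Injective β := fun f f' hff => Subtype.ext (MulEquiv.ext fun e =>
    congrArg (fun x : AddMonoid.End (Additive E) => (x (Additive.ofMul e)).toMul) hff)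
  have hext : ∀ x y : Additive E, (x.toMul : G) = (y.toMul : G) → x = y := fun x y hxy =>
    Additive.toMul.injective (Subtype.ext hxy)
  have htX : t ∈ invCent S a (zpowers z) := mem_invCent_zpowers_iff.mpr ⟨ht, hzt.symm⟩
  set e₀ : Additive E := Additive.ofMul ⟨t, subset_closure htX⟩ with he₀
  have he₀ne : e₀ ≠ 0 := fun h0 => by
    have h1 : t = 1 := congrArg (fun e : Additive E => (e.toMul : G)) h0
    have h2 := ht.2.1
    rw [h1, orderOf_one] at h2
    omega
  have hregE : ∀ e : Additive E, e ≠ 0 → ∃ x : A, α x e₀ = e := by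
    intro e he
    rcases hmem.mp e.toMul.2 with h1 | h1
    · exact absurd (hext e 0 h1) he
    obtain ⟨j, hj, hjt⟩ := hreg t htX _ h1
    exact ⟨⟨j, hj⟩, hext _ _ ((hα _ _).trans hjt)⟩
  have hβ₀ : ∀ f, β f e₀ = e₀ := by
    rintro ⟨_, k, rfl⟩
    refine hext _ _ ?_
    show (k : G) * t * (k : G)⁻¹ = t
    rw [mem_centralizer_singleton_iff.mp k.2.1.1.2, mul_inv_cancel_right]
  have hconj : ∀ (f : ψ.range) (x : A), ∃ x' : A, β f * α x = α x' * β f := by
    rintro ⟨_, k, rfl⟩ x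
    have hm : (k : G) * x * (k : G)⁻¹ ∈ A := (Subgroup.mem_normalizer_iff.mp k.2.2 x).mp x.2
    refine ⟨⟨_, hm⟩, DFunLike.ext _ _ fun e => hext _ _ ?_⟩
    show (k : G) * ((α x e).toMul : G) * (k : G)⁻¹ = _
    refine Eq.trans ?_ (hα ⟨_, hm⟩ (β ⟨_, k, rfl⟩ e)).symm
    rw [hα x e]
    show _ = (k : G) * x * (k : G)⁻¹ * ((k : G) * (e.toMul : G) * (k : G)⁻¹) *
      ((k : G) * x * (k : G)⁻¹)⁻¹
    group
  obtain ⟨-, hfix⟩ := galois_data α he₀ne hregE β hβinj hβ₀ hconj
  have hmemK : ∀ {k : G}, k ∈ pair S a b → Commute k t → Commute k z →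
      k ∈ normalizer (A : Set G) → k ∈ K := fun hk hkt hkz hkA =>
    ⟨⟨⟨hk, mem_centralizer_singleton_iff.mpr hkt⟩, mem_centralizer_singleton_iff.mpr hkz⟩, hkA⟩
  set γ : ψ.range := ⟨ψ ⟨g, hmemK hgp hgt hgz hgA⟩, _, rfl⟩ with hγ
  -- only `0` and `e₀` are fixed by a subgroup containing `γ`
  have htwo : ∀ U : Subgroup ψ.range, γ ∈ U →
      Nat.card {e : Additive E // ∀ f ∈ U, β f e = e} = 2 := by
    intro U hU
    rw [Nat.card_eq_two_iff]
    refine ⟨⟨0, fun f _ => map_zero _⟩, ⟨e₀, fun f _ => hβ₀ f⟩,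
      fun e => he₀ne (congrArg Subtype.val e).symm, Set.eq_univ_of_forall fun e => ?_⟩
    rcases hmem.mp e.1.toMul.2 with h1 | h1
    · exact Or.inl (Subtype.ext (hext _ 0 h1))
    refine Or.inr (Subtype.ext (hext _ _ ?_))
    show (e.1.toMul : G) = t
    obtain ⟨j, hj, hjt⟩ := hreg t htX _ h1
    have hge : g * (e.1.toMul : G) * g⁻¹ = (e.1.toMul : G) :=
      congrArg (fun x : Additive E => (x.toMul : G)) (e.2 γ hU)
    have hgj : j⁻¹ * (g * j * g⁻¹) = 1 := by
      refine hfree _ (mul_mem (inv_mem hj) ((Subgroup.mem_normalizer_iff.mp hgA j).mp hj)) t ht ?_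
      refine mul_inv_eq_iff_eq_mul.mp ?_
      calc j⁻¹ * (g * j * g⁻¹) * t * (j⁻¹ * (g * j * g⁻¹))⁻¹
          = j⁻¹ * g * j * (g⁻¹ * (t * g)) * j⁻¹ * g⁻¹ * j := by group
        _ = j⁻¹ * (g * (j * t * j⁻¹) * g⁻¹) * j := by rw [← hgt.eq]; group
        _ = t := by rw [hjt, hge, ← hjt]; group
    rw [← hjt, hfpf j hj (inv_mul_eq_one.mp hgj).symm]
    simp
  have hU := hfix (zpowers γ)
  rw [htwo _ (mem_zpowers γ), ← hfix ⊤, htwo ⊤ (mem_top γ)] at hU
  have htop : zpowers γ = ⊤ := Subgroup.eq_top_of_card_eq _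
    ((Nat.pow_right_injective le_rfl hU).trans Subgroup.card_top)
  obtain ⟨n, hn⟩ := mem_powers_iff_mem_zpowers.mpr
    (show (⟨ψ ⟨g', hmemK hg'p hg't hg'z hg'A⟩, _, rfl⟩ : ψ.range) ∈ zpowers γ from
      htop ▸ mem_top _)
  refine ⟨n, fun x hx => ?_⟩
  have hgn : g ^ n ∈ normalizer (A : Set G) := pow_mem hgA n
  have hn' : ψ (⟨g, hmemK hgp hgt hgz hgA⟩ ^ n) = ψ ⟨g', hmemK hg'p hg't hg'z hg'A⟩ := by
    rw [map_pow]; exact congrArg Subtype.val hn
  have hxE : x * t * x⁻¹ ∈ E := subset_closure (conj_mem_invCent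
    (mem_ptStab.mpr ⟨(mem_pair.mp (hAp hx)).1, (mem_pair.mp (hAp hx)).2.1⟩)
    (mem_normalizer_zpowers_of_commute (hAz x hx)) htX)
  have he := congrArg (fun f : MulAut E => ((f ⟨_, hxE⟩ : E) : G)) hn'
  simp only [hψ, SubgroupClass.coe_pow] at he
  have hgnt : Commute (g ^ n) t := hgt.pow_left n
  have hc : Commute ((g' * x * g'⁻¹)⁻¹ * (g ^ n * x * (g ^ n)⁻¹)) t := by
    refine mul_inv_eq_iff_eq_mul.mp ?_
    calc (g' * x * g'⁻¹)⁻¹ * (g ^ n * x * (g ^ n)⁻¹) * t *
          ((g' * x * g'⁻¹)⁻¹ * (g ^ n * x * (g ^ n)⁻¹))⁻¹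
        = (g' * x * g'⁻¹)⁻¹ * (g ^ n * x * ((g ^ n)⁻¹ * (t * g ^ n)) * x⁻¹ * (g ^ n)⁻¹) *
            (g' * x * g'⁻¹) := by group
      _ = (g' * x * g'⁻¹)⁻¹ * (g ^ n * (x * t * x⁻¹) * (g ^ n)⁻¹) * (g' * x * g'⁻¹) := by
          rw [← hgnt.eq]; group
      _ = (g' * x * g'⁻¹)⁻¹ * (g' * (x * t * x⁻¹) * g'⁻¹) * (g' * x * g'⁻¹) := by rw [he]
      _ = g' * x⁻¹ * x * (t * g'⁻¹) := by group
      _ = t := by rw [← hg't.inv_left.eq]; group
  exact inv_mul_eq_one.mp (hfree _ (mul_mem (inv_mem ((Subgroup.mem_normalizer_iff.mp hg'A x).mp hx))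
    ((Subgroup.mem_normalizer_iff.mp hgn x).mp hx)) t ht hc)

end Cfsg.Agent.Bridge
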