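import Cfsg.Agent.Bridge.Line
import Cfsg.Agent.H53.SE.InvNormal
import Cfsg.Agent.Coprime.Generation

/-!
Consequences of LINE: involutions sharing a centralising element commute, CYC, FIX3.
-/

set_option autoImplicit false
set_option linter.style.haveILetI false

namespace Cfsg.Agent.Bridge

open Subgroup MulAction
open Cfsg.Agent.H39
open Cfsg.Agent.H73.Bender
open Cfsg.Agent.Cores.SE

universe u

variable {G : Type u} [Group G] {Ω : Type u} [MulAction G Ω]
  {S : Subgroup G} {C : Set Ω} {a b : Ω} {u : G}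

/-- An element centralising `x` centralises every element of the group it generates. -/
theorem commute_of_mem_zpowers {t x y : G} (h : Commute t x) (hy : y ∈ zpowers x) : Commute t y := by
  obtain ⟨k, rfl⟩ := mem_zpowers_iff.mp hy
  exact h.zpow_right k

/-- An element of a pair stabiliser which normalises `X` maps the involutions centralising `X` to
such involutions. -/
theorem conj_mem_invCent {X : Subgroup G} {g t : G} (hg : g ∈ ptStab S a)
    (hgX : g ∈ normalizer (X : Set G)) (ht : t ∈ invCent S a X) :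
    g * t * g⁻¹ ∈ invCent S a X := by
  obtain ⟨hgS, hga⟩ := mem_ptStab.mp hg
  obtain ⟨⟨htS, ht2, hta⟩, htX⟩ := ht
  refine ⟨⟨conj_mem_of_mem hgS htS, by rw [orderOf_conj, ht2], ?_⟩, fun x hx => ?_⟩
  · rw [mul_smul, mul_smul, inv_smul_eq_iff.mpr hga.symm, hta, hga]
  · have hc := (htX _ ((Subgroup.mem_normalizer_iff''.mp hgX x).mp hx)).eq
    show g * t * g⁻¹ * x = x * (g * t * g⁻¹)
    calc g * t * g⁻¹ * x = g * (t * (g⁻¹ * x * g)) * g⁻¹ := by group
      _ = g * (g⁻¹ * x * g * t) * g⁻¹ := by rw [hc]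
      _ = x * (g * t * g⁻¹) := by group

/-- The involutions at `a` centralising `X`, with `1`, form a group when they commute. -/
theorem mem_closure_invCent {X T : Subgroup G} (hT : LineTwo S C a X T) {e : G}
    (he : e ∈ closure (invCent S a X)) : e = 1 ∨ e ∈ invCent S a X := by
  induction he using Subgroup.closure_induction with
  | mem t ht => exact Or.inr ht
  | one => exact Or.inl rfl
  | mul x y _ _ hx hy =>
    rcases hx with rfl | hx
    · rwa [one_mul]
    rcases hy with rfl | hy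
    · rw [mul_one]; exact Or.inr hx
    by_cases h1 : x * y = 1
    · exact Or.inl h1
    have hc : Commute x y := hT.inv_comm x hx y (hT.inv_mem hy)
    refine Or.inr ⟨⟨mul_mem hx.1.1 hy.1.1, orderOf_eq_two_of_mul_self ?_ h1,
      by rw [mul_smul, hy.1.2.2, hx.1.2.2]⟩, fun g hg => (hx.2 g hg).mul_left (hy.2 g hg)⟩
    rw [hc.symm.mul_mul_mul_comm x y, mul_self_of_orderOf_eq_two hx.1.2.1,
      mul_self_of_orderOf_eq_two hy.1.2.1, one_mul]
  | inv x _ hx =>
    rcases hx with rfl | hx
    · exact Or.inl inv_one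
    · rw [inv_eq_of_orderOf_eq_two hx.1.2.1]; exact Or.inr hx

variable [Finite G] [Finite Ω]

/-- Involutions at `a` centralised by a common non-trivial element of the pair stabiliser
commute. -/
theorem shareAt (h : Setting S C a b u) : H53.SE.ShareAt S a b := by
  intro e he he1 s hs hs2 hsa hes t ht ht2 hta het
  rcases eq_or_ne s t with rfl | hst
  · exact Commute.refl _
  obtain ⟨q, hq, hqd⟩ := Nat.exists_prime_and_dvd (mt orderOf_eq_one_iff.mp he1)
  haveI : Fact q.Prime := ⟨hq⟩
  obtain ⟨⟨x, hx⟩, hxq⟩ :=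
    exists_prime_orderOf_dvd_card' (G := zpowers e) q (by rwa [Nat.card_zpowers])
  rw [Subgroup.orderOf_mk] at hxq
  have hX : IsPGroup q (zpowers x) :=
    IsPGroup.of_card (n := 1) (by rw [Nat.card_zpowers, hxq, pow_one])
  have hX1 : zpowers x ≠ ⊥ := fun hb => by
    rw [zpowers_eq_bot] at hb
    rw [hb, orderOf_one] at hxq
    exact hq.ne_one hxq.symm
  have hXle : zpowers x ≤ pair S a b := zpowers_le.mpr (zpowers_le.mpr he hx)
  have hcent : ∀ r, Commute e r → ∀ y ∈ zpowers x, Commute r y := fun r hr y hy =>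
    commute_of_mem_zpowers (commute_of_mem_zpowers hr.symm hx) hy
  have hsX : s ∈ invCent S a (zpowers x) := ⟨⟨hs, hs2, hsa⟩, hcent s hes⟩
  have htX : t ∈ invCent S a (zpowers x) := ⟨⟨ht, ht2, hta⟩, hcent t het⟩
  obtain ⟨T, hT⟩ := exists_lineTwo h hXle hX hX1 ⟨s, hsX, t, htX, hst⟩
  exact hT.inv_comm s hsX t (hT.inv_mem htX)

/-- CYC: an abelian subgroup of the pair stabiliser normalising a good `X`, none of whose
non-trivial elements centralises an involution at `a` centralising `X`, is cyclic. -/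
theorem isCyclic_of_fpf (h : Setting S C a b u) {q : ℕ} [Fact q.Prime] {X : Subgroup G}
    (hXle : X ≤ pair S a b) (hXq : IsPGroup q X) (hX1 : X ≠ ⊥) (hg : IsGood S a X)
    {A : Subgroup G} [IsMulCommutative A] (hA : A ≤ pair S a b)
    (hAX : A ≤ normalizer (X : Set G))
    (hfpf : ∀ x ∈ A, x ≠ 1 → ∀ t ∈ invCent S a X, ¬ Commute x t) : IsCyclic A := by
  by_contra hnc
  obtain ⟨T, hT⟩ := exists_lineTwo h hXle hXq hX1 hg
  set E := closure (invCent S a X) with hE
  have hET : E ≤ T := (closure_le _).mpr fun t ht => hT.inv_mem ht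
  have hAE : A ≤ normalizer (E : Set G) := by
    have key : ∀ g ∈ A, ∀ e ∈ E, g * e * g⁻¹ ∈ E := by
      intro g hg' e he
      have hgp : g ∈ ptStab S a := mem_ptStab.mpr
        ⟨(mem_pair.mp (hA hg')).1, (mem_pair.mp (hA hg')).2.1⟩
      rcases mem_closure_invCent hT he with rfl | he
      · simp
      · exact subset_closure (conj_mem_invCent hgp (hAX hg') he)
    intro g hg'
    refine Subgroup.mem_normalizer_iff.mpr fun e => ⟨key g hg' e, fun he => ?_⟩
    simpa [mul_assoc] using key g⁻¹ (inv_mem hg') _ he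
  have hcop : (Nat.card A).Coprime (Nat.card E) := by
    obtain ⟨n, hn⟩ := IsPGroup.iff_card.mp (hT.isPGroup.to_le hET)
    rw [hn]
    exact ((h.odd_pair.of_dvd_nat (card_dvd_of_le hA)).coprime_two_left.pow_left n).symm
  have hbot : E ≤ ⊥ := Coprime.le_of_centralizer_noncyclic_le hnc hAE hcop fun x hx hx1 e he => by
    rcases mem_closure_invCent hT he.1 with rfl | he'
    · exact one_mem _
    · exact absurd (show Commute x e from (mem_centralizer_singleton_iff.mp he.2).symm)
        (hfpf x hx hx1 e he')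
  obtain ⟨t, ht⟩ := hg.nonempty
  have h1 : t = 1 := (mem_bot (G := G)).mp (hbot (subset_closure ht))
  have h2 := ht.1.2.1
  rw [h1, orderOf_one] at h2
  exact absurd h2 (by norm_num)

/-- FIX3: an element of the pair stabiliser normalising a good `X` and fixing a third fixed point
of `X` centralises an involution at `a` centralising `X`. -/
theorem exists_invCent_commute (h : Setting S C a b u) {q : ℕ} [Fact q.Prime] {X : Subgroup G}
    (hXle : X ≤ pair S a b) (hXq : IsPGroup q X) (hX1 : X ≠ ⊥) (hg : IsGood S a X) {g : G}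
    (hgp : g ∈ pair S a b) (hgX : g ∈ normalizer (X : Set G)) {c : Ω} (hc : c ∈ fixedIn C X)
    (hca : c ≠ a) (hcb : c ≠ b) (hgc : g • c = c) : ∃ t ∈ invCent S a X, Commute g t := by
  haveI : Fact (Nat.Prime 2) := ⟨Nat.prime_two⟩
  obtain ⟨T, hT⟩ := exists_lineTwo h hXle hXq hX1 hg
  obtain ⟨hgS, hga, hgb⟩ := mem_pair.mp hgp
  have hbX : b ∈ fixedIn C X := ⟨h.mem_right, fun x hx => (mem_pair.mp (hXle hx)).2.2⟩
  obtain ⟨w, hw, hwb⟩ := hT.trans b hbX (Ne.symm h.ne) c hc hca
  have hgT : g ∈ normalizer (T : Set G) := hT.normal ⟨mem_ptStab.mpr ⟨hgS, hga⟩, hgX⟩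
  have hcw : (g * w * g⁻¹)⁻¹ * w = 1 := by
    refine hT.free _ (mul_mem (inv_mem ((Subgroup.mem_normalizer_iff.mp hgT w).mp hw)) hw) b hbX
      (Ne.symm h.ne) ?_
    rw [mul_smul, hwb, inv_smul_eq_iff, mul_smul, mul_smul, inv_smul_eq_iff.mpr hgb.symm, hwb, hgc]
  have hgw : Commute g w := mul_inv_eq_iff_eq_mul.mp (inv_mul_eq_one.mp hcw)
  have hw1 : w ≠ 1 := fun e => hcb (by rw [← hwb, e, one_smul])
  have hne : zpowers w ≠ ⊥ := fun e => hw1 (zpowers_eq_bot.mp e)
  have hw2 : IsPGroup 2 (zpowers w) := hT.isPGroup.to_le (zpowers_le.mpr hw)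
  obtain ⟨n, hn⟩ := IsPGroup.iff_card.mp hw2
  have h2 : 2 ∣ Nat.card (zpowers w) := by
    rw [hn]
    refine dvd_pow_self 2 fun hn0 => hne ?_
    rw [← Subgroup.card_eq_one, hn, hn0, pow_zero]
  obtain ⟨⟨t, ht⟩, ht2⟩ := exists_prime_orderOf_dvd_card' 2 h2
  rw [Subgroup.orderOf_mk] at ht2
  have htT := hT.le (zpowers_le.mpr hw ht)
  refine ⟨t, ⟨⟨(mem_ptStab.mp htT.1).1, ht2, (mem_ptStab.mp htT.1).2⟩, fun x hx => ?_⟩,
    commute_of_mem_zpowers hgw ht⟩
  exact ((mem_centralizer_iff.mp htT.2 x hx : x * t = t * x) : Commute x t).symm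

end Cfsg.Agent.Bridge
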