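import Cfsg.Agent.Bridge.RestrictionOrbits
import Cfsg.Agent.Bridge.LineFacts
import Cfsg.Agent.Cores.PCore

/-!
Bridge 3(d), the non-commutative endgame: if an abelian normal subgroup `F` of the pair stabiliser is
regular on the involutions at `a`, lies in the subgroup they generate and has a non-trivial element
on which every singular linear character is trivial, then the involutions at `a` commute.
-/

set_option autoImplicit false
set_option linter.style.haveILetI false
set_option maxHeartbeats 800000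

namespace Cfsg.Agent.Bridge

open Subgroup MulAction
open Cfsg.Agent.H39
open Cfsg.Agent.H73.Bender
open Cfsg.Agent.Cores.SE
open Cfsg.Agent.CharBasic Cfsg.Agent.CharInduce

universe u

variable {G : Type u} [Group G] {Ω : Type u} [MulAction G Ω]
  {S : Subgroup G} {C : Set Ω} {a b : Ω} {u : G}

/-- The involutions at `a` generate a subgroup of the stabiliser of `a`. -/
theorem invGen_le_ptStab (S : Subgroup G) (a : Ω) : invGen S a ≤ ptStab S a :=
  (closure_le _).mpr fun _ ht => mem_ptStab.mpr ⟨ht.1, ht.2.2⟩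

/-- Conjugation by an element fixing `a` preserves the involutions at `a`. -/
theorem conj_mem_invAt {g t : G} (hg : g ∈ ptStab S a) (ht : t ∈ invAt S a) :
    g * t * g⁻¹ ∈ invAt S a := by
  obtain ⟨hgS, hga⟩ := mem_ptStab.mp hg
  refine ⟨conj_mem_of_mem hgS ht.1, by rw [orderOf_conj, ht.2.1], ?_⟩
  rw [mul_smul, mul_smul, inv_smul_eq_iff.mpr hga.symm, ht.2.2, hga]

/-- The stabiliser of `a` normalises the subgroup generated by the involutions at `a`. -/
theorem conj_mem_invGen {g x : G} (hg : g ∈ ptStab S a) (hx : x ∈ invGen S a) :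
    g * x * g⁻¹ ∈ invGen S a := by
  have hle : invGen S a ≤ (invGen S a).comap (MulAut.conj g).toMonoidHom :=
    (closure_le _).mpr fun t ht => subset_closure (conj_mem_invAt hg ht)
  exact hle hx

variable [Finite G] [Finite Ω]

/-- **Endgame of case NC**: no singular set of characters of `F` generates the whole dual. -/
theorem false_of_proper_sing (h : Setting S C a b u) (hcore : CoreFree S a)
    (hnc : ¬ H53.SE.CommAt S a) {t : G} (ht : t ∈ invAt S a) {F : Subgroup G}
    [IsMulCommutative F] (hFD : F ≤ pair S a b) (hFn : pair S a b ≤ normalizer (F : Set G))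
    (hFL : F ≤ invGen S a)
    (htr : ∀ s ∈ invAt S a, ∀ s' ∈ invAt S a, ∃ j ∈ F, j * s * j⁻¹ = s')
    (hfpf : ∀ j ∈ F, ∀ s ∈ invAt S a, Commute j s → j = 1)
    {x : G} (hxF : x ∈ F) (hx1 : x ≠ 1)
    (hsing : ∀ z ∈ invGen S a ⊓ pair S a b, Commute z t → (orderOf z).Prime →
      x ∈ closure {y : G | ∃ f ∈ F, y = f * z * f⁻¹ * z⁻¹}) : False := by
  classical
  set L : Subgroup G := invGen S a with hL
  have hLa : L ≤ ptStab S a := invGen_le_ptStab S a
  -- a fixed point free element of `F` fixes only `a` and `b`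
  have htwo : ∀ f ∈ F, f ≠ 1 → ∀ c ∈ C, f • c = c → c = a ∨ c = b := by
    intro f hf hf1 c hc hfc
    by_contra hne
    rw [not_or] at hne
    obtain ⟨q, hq, hqd⟩ := Nat.exists_prime_and_dvd (mt orderOf_eq_one_iff.mp hf1)
    haveI : Fact q.Prime := ⟨hq⟩
    obtain ⟨⟨y, hy⟩, hyq⟩ :=
      exists_prime_orderOf_dvd_card' (G := zpowers f) q (by rwa [Nat.card_zpowers])
    rw [Subgroup.orderOf_mk] at hyq
    have hyF : y ∈ F := zpowers_le.mpr hf hy
    obtain ⟨hfS, hfa, hfb⟩ := mem_pair.mp (hFD hf)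
    have hfix : ∀ {w : Ω}, f • w = w → ∀ p ∈ zpowers y, p • w = w := fun {w} hw p hp =>
      mem_stabilizer_iff.mp ((zpowers_le.mpr
        ((zpowers_le.mpr (mem_stabilizer_iff.mpr hw)) hy)) hp)
    obtain ⟨i, hi, hi2, hia, hiy⟩ := H53.SE.exists_inv_of_three h.se h.faithful h.good (q := q)
      (zpowers y) (zpowers_le.mpr (mem_pair.mp (hFD hyF)).1)
      (IsPGroup.of_card (n := 1) (by rw [Nat.card_zpowers, hyq, pow_one]))
      ⟨a, ⟨h.mem_left, hfix hfa⟩, b, ⟨h.mem_right, hfix hfb⟩, c, ⟨hc, hfix hfc⟩,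
        h.ne, hne.1, hne.2⟩ (f := a) ⟨h.mem_left, hfix hfa⟩
    have hy1 : y = 1 := hfpf y hyF i ⟨hi, hi2, hia⟩ (hiy y (mem_zpowers y)).symm
    rw [hy1, orderOf_one] at hyq
    exact hq.ne_one hyq.symm
  -- `F` in the group `L` acting on the involutions at `a`
  haveI : Fintype L := Fintype.ofFinite _
  set F' : Subgroup L := F.subgroupOf L with hF'
  haveI : Fintype F' := Fintype.ofFinite _
  haveI : IsMulCommutative F' := ⟨⟨fun p q => Subtype.ext (Subtype.ext
    (show ((p : L) : G) * ((q : L) : G) = ((q : L) : G) * ((p : L) : G) from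
      congrArg Subtype.val (mul_comm' (⟨_, mem_subgroupOf.mp p.2⟩ : F)
        ⟨_, mem_subgroupOf.mp q.2⟩)))⟩⟩
  have hnorm : ∀ g : L, (g : G) ∈ pair S a b → g ∈ normalizer (F' : Set L) := fun g hg =>
    Subgroup.mem_normalizer_iff.mpr fun y => by
      rw [hF', mem_subgroupOf, mem_subgroupOf]
      exact Subgroup.mem_normalizer_iff.mp (hFn hg) (y : G)
  have hTI' : ∀ g : L, ∀ f ∈ F', f ≠ 1 → g * f * g⁻¹ ∈ F' → (g : G) ∈ pair S a b := by
    intro g f hf hf1 hgf
    obtain ⟨hgS, hga⟩ := mem_ptStab.mp (hLa g.2)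
    refine mem_pair.mpr ⟨hgS, hga, ?_⟩
    have hf1' : (g : G) * f * (g : G)⁻¹ ≠ 1 := fun e =>
      hf1 (Subtype.ext (conj_eq_one_iff.mp e))
    have hfb : ((f : L) : G) • b = b := (mem_pair.mp (hFD (mem_subgroupOf.mp hf))).2.2
    have hfix : ((g : G) * f * (g : G)⁻¹) • (g : G) • b = (g : G) • b := by
      rw [mul_smul, mul_smul, inv_smul_smul, hfb]
    rcases htwo _ (mem_subgroupOf.mp hgf) hf1' _ (h.se.smul_mem hgS h.mem_right) hfix with e | e
    · exact absurd (MulAction.injective (g : G) (e.trans hga.symm)).symm h.ne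
    · exact e
  have hTI : ∀ g : L, g ∉ normalizer (F' : Set L) → ∀ f ∈ F', g * f * g⁻¹ ∈ F' → f = 1 := by
    intro g hg f hf hgf
    by_contra hf1
    exact hg (hnorm g (hTI' g f hf hf1 hgf))
  have hxL : x ∈ L := hFL hxF
  have hNF : ∀ g : L, g ∈ normalizer (F' : Set L) → (g : G) ∈ pair S a b := fun g hg =>
    hTI' g ⟨x, hxL⟩ (mem_subgroupOf.mpr hxF) (fun e => hx1 (congrArg Subtype.val e))
      ((Subgroup.mem_normalizer_iff.mp hg _).mp (mem_subgroupOf.mpr hxF))
  -- the action on the involutions at `a`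
  let I := {s : G // s ∈ invAt S a}
  letI : MulAction L I :=
    { smul := fun g s => ⟨(g : G) * s * (g : G)⁻¹, conj_mem_invAt (hLa g.2) s.2⟩
      one_smul := fun s => Subtype.ext
        (show ((1 : L) : G) * s * ((1 : L) : G)⁻¹ = s by simp)
      mul_smul := fun g g' s => Subtype.ext
        (show ((g * g' : L) : G) * s * ((g * g' : L) : G)⁻¹ =
          g * (g' * s * (g' : G)⁻¹) * (g : G)⁻¹ by simp [mul_assoc]) }
  have hsmul : ∀ (g : L) (s : I), ((g • s : I) : G) = g * s * (g : G)⁻¹ := fun _ _ => rfl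
  let t₀ : I := ⟨t, ht⟩
  haveI : Nonempty I := ⟨t₀⟩
  have hreg : ∀ s s' : I, ∃! f : F', (f : L) • s = s' := by
    intro s s'
    obtain ⟨j, hj, hjs⟩ := htr s s.2 s' s'.2
    refine ⟨⟨⟨j, hFL hj⟩, mem_subgroupOf.mpr hj⟩, Subtype.ext hjs, fun f hf => ?_⟩
    have hf' : ((f : L) : G) * s * ((f : L) : G)⁻¹ = s' := congrArg Subtype.val hf
    have hm : j⁻¹ * ((f : L) : G) ∈ F := mul_mem (inv_mem hj) (mem_subgroupOf.mp f.2)
    have hc : Commute (j⁻¹ * ((f : L) : G)) (s : G) := by
      refine mul_inv_eq_iff_eq_mul.mp ?_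
      calc j⁻¹ * ((f : L) : G) * s * (j⁻¹ * ((f : L) : G))⁻¹
          = j⁻¹ * (((f : L) : G) * s * ((f : L) : G)⁻¹) * j := by group
        _ = s := by rw [hf', ← hjs]; group
    exact Subtype.ext (Subtype.ext (inv_mul_eq_one.mp (hfpf _ hm s s.2 hc)).symm)
  haveI hpre := Restriction.pretransitive F' hreg
  -- every other constituent has a regular weight
  have hreg' : ∀ χ : IrrCharacter L, classInner (Restriction.permChar L I) (χ : L → ℂ) ≠ 0 →
      (χ : L → ℂ) ≠ (fun _ => 1) →
      ∃ l : F' →* ℂˣ, Restriction.Regular F' l ∧ Restriction.Meets F' I χ l := by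
    intro χ hχ hχ1
    by_contra hno
    push Not at hno
    have hw : ∀ l : F' →* ℂˣ,
        classInner (fun f : F' => (χ : L → ℂ) (f : L)) (Restriction.lf F' l) ≠ 0 →
        ∀ k : F', (k : L) ∈ zpowers (⟨x, hxL⟩ : L) → l k = 1 := by
      intro l hl k hk
      have hnr : ¬ Restriction.Regular F' l := fun hr => hno l hr ⟨hχ, hl⟩
      unfold Restriction.Regular at hnr
      push Not at hnr
      obtain ⟨g, hgN, hge, hgF⟩ := hnr
      obtain ⟨f₀, hf₀, -⟩ := hreg t₀ (g • t₀)
      set c : L := (f₀ : L)⁻¹ * g with hc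
      have hcN : c ∈ normalizer (F' : Set L) :=
        mul_mem (inv_mem (le_normalizer f₀.2)) hgN
      have hct : c • t₀ = t₀ := by rw [hc, mul_smul, ← hf₀, inv_smul_smul]
      have hce : Restriction.twist F' c (Restriction.lf F' l) = Restriction.lf F' l := by
        rw [hc, ← Restriction.twist_twist F' hgN, hge, Restriction.twist_of_mem F' (inv_mem f₀.2)]
      have hc1 : c ≠ 1 := fun e => hgF (by
        rw [inv_mul_eq_one] at e
        exact e ▸ f₀.2)
      obtain ⟨q, hq, hqd⟩ := Nat.exists_prime_and_dvd (mt orderOf_eq_one_iff.mp hc1)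
      set z : L := c ^ (orderOf c / q) with hz
      have hzo : orderOf z = q := by
        rw [hz, orderOf_pow_of_dvd (Nat.div_pos (Nat.le_of_dvd (orderOf_pos c) hqd) hq.pos).ne'
          (Nat.div_dvd_of_dvd hqd), Nat.div_div_self hqd (orderOf_pos c).ne']
      have hpow : ∀ n : ℕ, Restriction.twist F' (c ^ n) (Restriction.lf F' l)
          = Restriction.lf F' l := by
        intro n
        induction n with
        | zero => rw [pow_zero, Restriction.twist_one]
        | succ n ih => rw [pow_succ, ← Restriction.twist_twist F' hcN, hce, ih]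
      have hzN : z ∈ normalizer (F' : Set L) := pow_mem hcN _
      have hze := hpow (orderOf c / q)
      rw [← hz] at hze
      have hzt : Commute (z : G) t := by
        have hm : z • t₀ = t₀ := mem_stabilizer_iff.mp
          (pow_mem (show c ∈ stabilizer L t₀ from hct) _)
        exact mul_inv_eq_iff_eq_mul.mp (congrArg Subtype.val hm)
      have hker : ∀ f : F', ∀ e : F', ((e : L) : G) = (z : G) * ((f : L) : G) * (z : G)⁻¹ →
          l e = l f := by
        intro f e he
        have h1 := congrFun hze e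
        have h2 : Restriction.twist F' z (Restriction.lf F' l) e = (l f : ℂ) := by
          have e1 : z⁻¹ * (e : L) * z = (f : L) := Subtype.ext (by
            simp only [Subgroup.coe_mul, Subgroup.coe_inv, he]
            group)
          show extendByZero F' (Restriction.lf F' l) (z⁻¹ * (e : L) * z) = _
          rw [e1, extendByZero_coe]
          rfl
        rw [h2] at h1
        exact Units.ext h1.symm
      have hcl : ∀ y ∈ closure {y : G | ∃ f ∈ F, y = f * (z : G) * f⁻¹ * (z : G)⁻¹},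
          ∃ k' : F', ((k' : L) : G) = y ∧ l k' = 1 := by
        intro y hy
        induction hy using Subgroup.closure_induction with
        | mem y hy =>
          obtain ⟨f, hf, rfl⟩ := hy
          let f' : F' := ⟨⟨f, hFL hf⟩, mem_subgroupOf.mpr hf⟩
          have he : z * (f' : L)⁻¹ * z⁻¹ ∈ F' :=
            (Subgroup.mem_normalizer_iff.mp hzN _).mp (inv_mem f'.2)
          refine ⟨f' * ⟨_, he⟩, ?_, ?_⟩
          · simp only [Subgroup.coe_mul, Subgroup.coe_inv, f']
            group
          · rw [map_mul, hker f'⁻¹ ⟨_, he⟩ (by simp), map_inv, mul_inv_cancel]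
        | one => exact ⟨1, by simp, map_one l⟩
        | mul y y' _ _ hy hy' =>
          obtain ⟨k₁, e₁, d₁⟩ := hy
          obtain ⟨k₂, e₂, d₂⟩ := hy'
          exact ⟨k₁ * k₂, by simp [e₁, e₂], by rw [map_mul, d₁, d₂, one_mul]⟩
        | inv y _ hy =>
          obtain ⟨k₁, e₁, d₁⟩ := hy
          exact ⟨k₁⁻¹, by simp [e₁], by rw [map_inv, d₁, inv_one]⟩
      obtain ⟨k₀, hk₀, hk₀l⟩ := hcl x (hsing z ⟨z.2, hNF z hzN⟩ hzt
        (by rw [Subgroup.orderOf_coe, hzo]; exact hq))
      obtain ⟨n, hn⟩ := mem_zpowers_iff.mp hk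
      have hkn : k = k₀ ^ n := by
        refine Subtype.ext ?_
        rw [← hn, SubgroupClass.coe_zpow]
        congr 1
        exact Subtype.ext hk₀.symm
      rw [hkn, map_zpow, hk₀l, one_zpow]
    obtain ⟨N, hN, hKN, hNtr⟩ := Restriction.exists_normal_not_pretransitive F' hpre hχ hχ1
      (zpowers (⟨x, hxL⟩ : L)) (zpowers_le.mpr (mem_subgroupOf.mpr hxF)) hw
    haveI := hN
    have hodd : Odd (Nat.card N) := by
      rcases Nat.even_or_odd (Nat.card N) with he | ho
      · exfalso
        haveI : Fact (Nat.Prime 2) := ⟨Nat.prime_two⟩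
        obtain ⟨i, hi⟩ := exists_prime_orderOf_dvd_card' (G := N) 2 he.two_dvd
        rw [← Subgroup.orderOf_coe, ← Subgroup.orderOf_coe] at hi
        have hiI : ((i : L) : G) ∈ invAt S a :=
          ⟨(mem_ptStab.mp (hLa (i : L).2)).1, hi, (mem_ptStab.mp (hLa (i : L).2)).2⟩
        have hall : ∀ s ∈ invAt S a, ∃ n : N, ((n : L) : G) = s := by
          intro s hs
          obtain ⟨j, hj, hjs⟩ := htr _ hiI s hs
          exact ⟨⟨⟨j, hFL hj⟩ * (i : L) * (⟨j, hFL hj⟩ : L)⁻¹, hN.conj_mem _ i.2 _⟩, hjs⟩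
        have htop : L ≤ N.map L.subtype := (closure_le _).mpr fun s hs => by
          obtain ⟨n, hn⟩ := hall s hs
          exact ⟨n, n.2, hn⟩
        refine hNtr ⟨fun s s' => ?_⟩
        obtain ⟨f, hf, -⟩ := hreg s s'
        obtain ⟨n, hn, hne⟩ := htop (f : L).2
        exact ⟨⟨n, hn⟩, by
          show n • s = s'
          rw [show n = (f : L) from Subtype.ext hne, hf]⟩
      · exact ho
    set W : Subgroup G := (Cfsg.oddCore L).map L.subtype with hW
    have hxW : x ∈ W :=
      ⟨⟨x, hxL⟩, Cores.le_oddCore hodd (hKN (mem_zpowers _)), rfl⟩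
    have hWconj : ∀ g ∈ ptStab S a, ∀ y ∈ W, g * y * g⁻¹ ∈ W := by
      rintro g hg _ ⟨y, hy, rfl⟩
      let φ : L ≃* L :=
        { toFun := fun l => ⟨g * l * g⁻¹, conj_mem_invGen hg l.2⟩
          invFun := fun l => ⟨g⁻¹ * l * g, by
            simpa using conj_mem_invGen (inv_mem hg) l.2⟩
          left_inv := fun l => Subtype.ext (show g⁻¹ * (g * l * g⁻¹) * g = (l : G) by group)
          right_inv := fun l => Subtype.ext (show g * (g⁻¹ * l * g) * g⁻¹ = (l : G) by group)
          map_mul' := fun l l' => Subtype.ext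
            (show g * (l * l' : G) * g⁻¹ = g * l * g⁻¹ * (g * l' * g⁻¹) by group) }
      have hnor : ((Cfsg.oddCore L).map φ.toMonoidHom).Normal :=
        Subgroup.Normal.map (Cfsg.pPrimeCore_normal _ _) _ φ.surjective
      haveI := hnor
      refine ⟨φ y, Cores.le_oddCore (N := (Cfsg.oddCore L).map φ.toMonoidHom) ?_
        (mem_map_of_mem _ hy), rfl⟩
      rw [card_map_of_injective (f := φ.toMonoidHom) φ.injective]
      exact Cores.odd_card_oddCore
    have hbot : W = ⊥ := hcore W ((map_subtype_le _).trans hLa)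
      (by rw [hW, card_map_of_injective L.subtype_injective]; exact Cores.odd_card_oddCore)
      fun g hg => Subgroup.mem_normalizer_iff.mpr fun y => ⟨hWconj g hg y, fun hy => by
        simpa [mul_assoc] using hWconj g⁻¹ (inv_mem hg) _ hy⟩
    rw [hbot, mem_bot] at hxW
    exact hx1 hxW
  -- conclusion: the involutions commute
  have hone : (∀ s ∈ invAt S a, Commute s t) → False := by
    intro hall
    refine hnc fun s hs s' hs' hs2 hs'2 hsa hs'a => ?_
    obtain ⟨j, hj, hjt⟩ := htr t ht s ⟨hs, hs2, hsa⟩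
    have hm : j⁻¹ * s' * j ∈ invAt S a := by
      have hja : j ∈ ptStab S a :=
        mem_ptStab.mpr ⟨(mem_pair.mp (hFD hj)).1, (mem_pair.mp (hFD hj)).2.1⟩
      simpa using conj_mem_invAt (inv_mem hja) (t := s') ⟨hs', hs'2, hs'a⟩
    have e := (hall _ hm).symm.map (MulAut.conj j)
    simp only [MulAut.conj_apply, hjt] at e
    rwa [show j * (j⁻¹ * s' * j) * j⁻¹ = s' by group] at e
  have htL : t ∈ L := subset_closure ht
  rcases Restriction.suborbits F' hreg hTI hreg' t₀ with h2 | h2
  · obtain ⟨p, hp, q, hq, hp2, hq2, hpq, hpqc⟩ := h.rankTwo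
    obtain ⟨c, hc, hpc⟩ := h.se.exists_fix hp hp2
    have hqc : q • c = c := h.se.fix_of_commute hq hp hp2 hpqc.symm hc hpc
    obtain ⟨g, hg, hgc⟩ := h.se.trans hc h.mem_left
    have hmap : ∀ r ∈ S, orderOf r = 2 → r • c = c → g * r * g⁻¹ ∈ invAt S a := by
      intro r hr hr2 hrc
      refine ⟨conj_mem_of_mem hg hr, by rw [orderOf_conj, hr2], ?_⟩
      have h' := conj_smul_of_smul (g := g) hrc
      rwa [hgc] at h'
    obtain ⟨j, hj, hjt⟩ := htr _ (hmap p hp hp2 hpc) t ht
    have hja : j ∈ ptStab S a :=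
      mem_ptStab.mpr ⟨(mem_pair.mp (hFD hj)).1, (mem_pair.mp (hFD hj)).2.1⟩
    have hq₀ : j * (g * q * g⁻¹) * j⁻¹ ∈ invAt S a := conj_mem_invAt hja (hmap q hq hq2 hqc)
    have hqt : Commute (j * (g * q * g⁻¹) * j⁻¹) t := by
      rw [← hjt]
      exact ((hpqc.symm.map (MulAut.conj g)).map (MulAut.conj j) :)
    have hqne : (⟨_, hq₀⟩ : I) ≠ t₀ := fun e => hpq (by
      have e' : j * (g * q * g⁻¹) * j⁻¹ = t := congrArg Subtype.val e
      rw [← hjt] at e'
      exact (mul_left_cancel (mul_right_cancel (mul_left_cancel (mul_right_cancel e')))).symm)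
    refine hone fun s hs => ?_
    by_cases hst : s = t
    · rw [hst]
    obtain ⟨k, hkt, hks⟩ := h2 ⟨_, hq₀⟩ ⟨s, hs⟩ hqne (fun e => hst (congrArg Subtype.val e))
    have hkt' : (k : G) * t * (k : G)⁻¹ = t := congrArg Subtype.val hkt
    have hks' : (k : G) * (j * (g * q * g⁻¹) * j⁻¹) * (k : G)⁻¹ = s := congrArg Subtype.val hks
    have e := hqt.map (MulAut.conj (k : G))
    simp only [MulAut.conj_apply] at e
    rwa [hks', hkt'] at e
  · -- each suborbit is an orbit of an odd group, so contains a point fixed by `t`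
    let Bt : Subgroup L := normalizer (F' : Set L) ⊓ stabilizer L t₀
    have hBodd : Odd (Nat.card Bt) := by
      have hle : Bt.map L.subtype ≤ pair S a b := fun g hg => by
        obtain ⟨g', hg', rfl⟩ := hg
        exact hNF g' hg'.1
      rw [← card_map_of_injective (f := L.subtype) L.subtype_injective]
      exact h.odd_pair.of_dvd_nat (card_dvd_of_le hle)
    refine hone fun s hs => ?_
    let s₀ : I := ⟨s, hs⟩
    let O : Set I := orbit Bt s₀
    have hstep : ∀ g : L, g • t₀ = t₀ → g • s₀ ∈ O := by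
      intro g hg
      obtain ⟨e, he, het, hes⟩ := h2 g s₀ hg
      exact ⟨⟨e, he, het⟩, hes⟩
    let τ : L := ⟨t, htL⟩
    have hττ : τ * τ = 1 := Subtype.ext (mul_self_of_orderOf_eq_two ht.2.1)
    have hτt : τ • t₀ = t₀ := Subtype.ext (by rw [hsmul]; simp [τ, t₀])
    have hO : ∀ y ∈ O, τ • y ∈ O := by
      rintro _ ⟨⟨e, he, het⟩, rfl⟩
      show τ • e • s₀ ∈ O
      rw [← mul_smul]
      exact hstep _ (by rw [mul_smul, show e • t₀ = t₀ from het, hτt])
    have hOodd : Odd (Nat.card O) := by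
      refine hBodd.of_dvd_nat ?_
      rw [Nat.card_congr (orbitEquivQuotientStabilizer Bt s₀)]
      exact card_quotient_dvd_card _
    have hinv : Function.Involutive fun y : O => (⟨τ • (y : I), hO y y.2⟩ : O) := fun y =>
      Subtype.ext (show τ • τ • (y : I) = y by rw [← mul_smul, hττ, one_smul])
    haveI : Fintype O := Fintype.ofFinite _
    obtain ⟨⟨y, hy⟩, hyfix⟩ : ∃ y : O, (⟨τ • (y : I), hO y y.2⟩ : O) = y := by
      refine Equiv.Perm.exists_fixed_point_of_prime (p := 2) (n := 1)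
        (σ := hinv.toPerm _) ?_ ?_
      · rw [← Nat.card_eq_fintype_card, ← even_iff_two_dvd]
        exact Nat.not_even_iff_odd.mpr hOodd
      · rw [pow_one, sq]
        exact Equiv.ext hinv
    obtain ⟨⟨e, he, het⟩, rfl⟩ := hy
    have hty : t * (e * s * (e : G)⁻¹) * t⁻¹ = e * s * (e : G)⁻¹ :=
      congrArg (fun y : O => ((y : I) : G)) hyfix
    have het' : (e : G) * t * (e : G)⁻¹ = t := congrArg Subtype.val het
    have hc := (show Commute (t : G) (e * s * (e : G)⁻¹) from
      mul_inv_eq_iff_eq_mul.mp hty).map (MulAut.conj (e : G)⁻¹)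
    simp only [MulAut.conj_apply, inv_inv] at hc
    have h1 : (e : G)⁻¹ * t * e = t := by
      have h0 : (e : G) * t = t * e := mul_inv_eq_iff_eq_mul.mp het'
      rw [mul_assoc, ← h0, inv_mul_cancel_left]
    rw [h1, show (e : G)⁻¹ * (e * s * (e : G)⁻¹) * e = s by group] at hc
    exact hc.symm

end Cfsg.Agent.Bridge
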