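import Cfsg.Agent.Bridge.Opening
import Cfsg.Agent.Bridge.LineFacts
import Cfsg.Agent.Bridge.NonComm
import Cfsg.Agent.Bridge.BLemma.Basic

/-!
Assembly of the non-commuting case (notes/helper76_bridge.md, section 3) from the regular abelian
subgroup, the Galois property of the lines and the lemma on singular characters.
-/

set_option autoImplicit false
set_option linter.style.haveILetI false

namespace Cfsg.Agent.Bridge

open Subgroup MulAction
open Cfsg.Agent.H39
open Cfsg.Agent.H73.Bender
open Cfsg.Agent.H29.Bender (IsSyl exists_isSyl_ge)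
open scoped commutatorElement

universe u

variable {G : Type u} [Group G] {Ω : Type u} [MulAction G Ω]
  {S : Subgroup G} {C : Set Ω} {a b : Ω} {u : G}

/-- An abelian subgroup of the pair stabiliser, normal in it and regular on the involutions at
`a`. -/
structure RegularAbelian (S : Subgroup G) (a b : Ω) (F : Subgroup G) : Prop where
  le : F ≤ pair S a b
  comm : IsMulCommutative F
  normal : pair S a b ≤ normalizer (F : Set G)
  trans : ∀ s ∈ invAt S a, ∀ s' ∈ invAt S a, ∃ j ∈ F, j * s * j⁻¹ = s'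
  free : ∀ j ∈ F, ∀ s ∈ invAt S a, Commute j s → j = 1

/-- GALOIS: on a line, an element fixing only one involution generates the action of the stabiliser
of this involution. -/
def GaloisLine (S : Subgroup G) (a b : Ω) : Prop :=
  ∀ (z g h t : G), z ≠ 1 → t ∈ invAt S a → z ∈ pair S a b → g ∈ pair S a b → h ∈ pair S a b →
    Commute z t → Commute g t → Commute h t → Commute g z → Commute h z →
    ∀ A : Subgroup G, IsMulCommutative A → A ≤ pair S a b → g ∈ normalizer (A : Set G) →
      h ∈ normalizer (A : Set G) → (∀ x ∈ A, Commute x z) →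
      (∀ s ∈ invCent S a (zpowers z), ∀ s' ∈ invCent S a (zpowers z),
        ∃ j ∈ A, j * s * j⁻¹ = s') →
      (∀ j ∈ A, ∀ s ∈ invAt S a, Commute j s → j = 1) →
      (∀ x ∈ A, g * x * g⁻¹ = x → x = 1) →
      ∃ n : ℕ, ∀ x ∈ A, h * x * h⁻¹ = g ^ n * x * (g ^ n)⁻¹

theorem mem_invCent_zpowers_iff {z t : G} :
    t ∈ invCent S a (zpowers z) ↔ t ∈ invAt S a ∧ Commute t z :=
  and_congr_right fun _ => ⟨fun h => h z (mem_zpowers z), fun h _ hx => commute_of_mem_zpowers h hx⟩

theorem invCent_bot : invCent S a (⊥ : Subgroup G) = invAt S a :=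
  Set.ext fun t => ⟨fun h => h.1, fun h => ⟨h, fun x hx => by
    rw [mem_bot] at hx; rw [hx]; exact Commute.one_right t⟩⟩

variable [Finite G] [Finite Ω]

/-- The number of involutions at `a` is the order of a regular subgroup. -/
theorem RegularAbelian.card_eq {F : Subgroup G} (hF : RegularAbelian S a b F) {t : G}
    (ht : t ∈ invAt S a) : (invAt S a).ncard = Nat.card F := by
  have hmem : ∀ j : F, (j : G) * t * (j : G)⁻¹ ∈ invAt S a := fun j =>
    conj_mem_invAt (mem_ptStab.mpr ⟨(mem_pair.mp (hF.le j.2)).1, (mem_pair.mp (hF.le j.2)).2.1⟩) ht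
  rw [← Nat.card_coe_set_eq]
  refine (Nat.card_eq_of_bijective (fun j : F => (⟨_, hmem j⟩ : invAt S a)) ⟨?_, ?_⟩).symm
  · intro i j hij
    have he : (i : G) * t * (i : G)⁻¹ = j * t * (j : G)⁻¹ := congrArg Subtype.val hij
    have hc : Commute ((j : G)⁻¹ * i) t := by
      refine mul_inv_eq_iff_eq_mul.mp ?_
      calc (j : G)⁻¹ * i * t * ((j : G)⁻¹ * i)⁻¹
          = (j : G)⁻¹ * ((i : G) * t * (i : G)⁻¹) * j := by group
        _ = t := by rw [he]; group
    exact Subtype.ext (inv_mul_eq_one.mp (hF.free _ (mul_mem (inv_mem j.2) i.2) t ht hc)).symm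
  · rintro ⟨s, hs⟩
    obtain ⟨j, hj, hjs⟩ := hF.trans t ht s hs
    exact ⟨⟨j, hj⟩, Subtype.ext hjs⟩

/-- The conjugation action on `F` of a subgroup normalising it. -/
def conjAut {F B : Subgroup G} (hB : B ≤ normalizer (F : Set G)) : B →* MulAut F where
  toFun x :=
    { toFun := fun f => ⟨x * f * (x : G)⁻¹, (Subgroup.mem_normalizer_iff.mp (hB x.2) f).mp f.2⟩
      invFun := fun f => ⟨(x : G)⁻¹ * f * x, (Subgroup.mem_normalizer_iff''.mp (hB x.2) f).mp f.2⟩
      left_inv := fun f => Subtype.ext (show (x : G)⁻¹ * (x * f * (x : G)⁻¹) * x = f by group)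
      right_inv := fun f => Subtype.ext (show (x : G) * ((x : G)⁻¹ * f * x) * (x : G)⁻¹ = f by group)
      map_mul' := fun f g => Subtype.ext (show (x : G) * ((f : G) * g) * (x : G)⁻¹ =
        x * f * (x : G)⁻¹ * (x * g * (x : G)⁻¹) by group) }
  map_one' := MulEquiv.ext fun f => Subtype.ext (show (1 : G) * f * (1 : G)⁻¹ = f by simp)
  map_mul' x y := MulEquiv.ext fun f => Subtype.ext (show (x : G) * y * f * ((x : G) * y)⁻¹ =
    x * (y * f * (y : G)⁻¹) * (x : G)⁻¹ by group)

@[simp]
theorem conjAut_apply {F B : Subgroup G} (hB : B ≤ normalizer (F : Set G)) (x : B) (f : F) :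
    ((conjAut hB x f : F) : G) = x * f * (x : G)⁻¹ := rfl

/-- A regular abelian subgroup with the Galois property, and the lemma on singular characters,
exclude the non-commuting case. -/
theorem false_of_regularAbelian (h : Setting S C a b u) (hcore : CoreFree S a)
    (hnc : ¬ H53.SE.CommAt S a) {F : Subgroup G} (hF : RegularAbelian S a b F)
    (hgal : GaloisLine S a b)
    (hBL : ∀ (F₀ : Type u) [CommGroup F₀] [Finite F₀] [Nontrivial F₀] (B₀ : Type u) [Group B₀]
      [Finite B₀] (φ : B₀ →* MulAut F₀), BLemma.Hyp φ →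
      ∃ a, a ≠ 1 ∧ ∀ z, z ≠ 1 → a ∈ (BLemma.delta φ z).range) : False := by
  obtain ⟨hperf, hcent, hM, -, q₀, hq₀, -, y, hy, -, ⟨t, hty⟩, -, -, -⟩ := nc_opening h hcore hnc
  haveI := hF.comm
  set L : Subgroup G := invGen S a with hL
  have htmem : t ∈ invCent S a (zpowers y) := hty ▸ Set.mem_singleton t
  obtain ⟨ht, htc⟩ := mem_invCent_zpowers_iff.mp htmem
  have hyp : y ∈ pair S a b := hM.base_le hy
  have hN : ∀ {g : G}, g ∈ pair S a b → g ∈ ptStab S a := fun {g} hg =>
    mem_ptStab.mpr ⟨(mem_pair.mp hg).1, (mem_pair.mp hg).2.1⟩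
  have hFmem : ∀ {g : G}, g ∈ pair S a b → ∀ {f : G}, f ∈ F → g * f * g⁻¹ ∈ F :=
    fun {g} hg {f} hf => (Subgroup.mem_normalizer_iff.mp (hF.normal hg) f).mp hf
  -- `y` fixes no non-trivial element of `F`
  have hfix : ∀ f ∈ F, Commute f y → f = 1 := by
    intro f hf hfy
    have hs : f * t * f⁻¹ ∈ invCent S a (zpowers y) := by
      refine mem_invCent_zpowers_iff.mpr ⟨conj_mem_invAt (hN (hF.le hf)) ht, ?_⟩
      have := (hfy.mul_left htc).mul_left hfy.inv_left
      exact this
    rw [hty, Set.mem_singleton_iff] at hs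
    exact hF.free f hf t ht (mul_inv_eq_iff_eq_mul.mp hs)
  have hFL : F ≤ L := by
    intro f hf
    have hmem : ∀ f : F, (f : G) * y * (f : G)⁻¹ * y⁻¹ ∈ F := fun f => by
      rw [show (f : G) * y * (f : G)⁻¹ * y⁻¹ = f * (y * (f : G)⁻¹ * y⁻¹) by group]
      exact mul_mem f.2 (hFmem hyp (inv_mem f.2))
    have hinj : Function.Injective fun f : F => (⟨_, hmem f⟩ : F) := by
      intro i j hij
      have he : (i : G) * y * (i : G)⁻¹ * y⁻¹ = j * y * (j : G)⁻¹ * y⁻¹ := congrArg Subtype.val hij
      have he' : (i : G) * y * (i : G)⁻¹ = j * y * (j : G)⁻¹ := mul_right_cancel he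
      have hc : Commute ((j : G)⁻¹ * i) y := by
        refine mul_inv_eq_iff_eq_mul.mp ?_
        calc (j : G)⁻¹ * i * y * ((j : G)⁻¹ * i)⁻¹
            = (j : G)⁻¹ * ((i : G) * y * (i : G)⁻¹) * j := by group
          _ = y := by rw [he']; group
      exact Subtype.ext (inv_mul_eq_one.mp (hfix _ (mul_mem (inv_mem j.2) i.2) hc)).symm
    obtain ⟨g, hg⟩ := Finite.surjective_of_injective hinj ⟨f, hf⟩
    rw [← (show (g : G) * y * (g : G)⁻¹ * y⁻¹ = f from congrArg Subtype.val hg)]
    exact mul_mem (conj_mem_invGen (hN (hF.le g.2)) (mem_base.mp hy).1)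
      (inv_mem (mem_base.mp hy).1)
  set D : Subgroup G := base L b with hD
  have hFD : F ≤ D := fun f hf => mem_base.mpr ⟨hFL hf, (mem_pair.mp (hF.le hf)).2.2⟩
  set B : Subgroup G := D ⊓ centralizer ({t} : Set G) with hBdef
  have hBp : B ≤ pair S a b := inf_le_left.trans hM.base_le
  have hBn : B ≤ normalizer (F : Set G) := hBp.trans hF.normal
  have hBt : ∀ x : B, Commute (x : G) t := fun x =>
    (mem_centralizer_singleton_iff.mp x.2.2 : _)
  have hFB : ∀ f ∈ F, f ∈ B → f = 1 := fun f hf hfB => hF.free f hf t ht (hBt ⟨f, hfB⟩)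
  letI : CommGroup F := { (inferInstance : Group F) with mul_comm := fun x y => mul_comm' x y }
  set φ : B →* MulAut F := conjAut hBn with hφ
  haveI : Nontrivial F := by
    obtain ⟨s, hs, hne⟩ := (invAt_nontrivial h).exists_ne t
    obtain ⟨j, hj, hjs⟩ := hF.trans t ht s hs
    exact ⟨⟨j, hj⟩, 1, fun e => hne (by rw [← hjs, show j = 1 from congrArg Subtype.val e]; simp)⟩
  -- an element of `B` fixing a non-trivial element of `F` is good
  have hgood : ∀ (w : B) (f : F), f ≠ 1 → φ w f = f → IsGood S a (zpowers (w : G)) := by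
    intro w f hf hwf
    have hc : Commute (f : G) (w : G) :=
      (mul_inv_eq_iff_eq_mul.mp (show (w : G) * f * (w : G)⁻¹ = f from congrArg Subtype.val hwf) :
        Commute (w : G) (f : G)).symm
    refine ⟨t, mem_invCent_zpowers_iff.mpr ⟨ht, (hBt w).symm⟩, (f : G) * t * (f : G)⁻¹,
      mem_invCent_zpowers_iff.mpr ⟨conj_mem_invAt (hN (hF.le f.2)) ht,
        (hc.mul_left (hBt w).symm).mul_left hc.inv_left⟩, fun e => hf ?_⟩
    exact Subtype.ext (hF.free f f.2 t ht (mul_inv_eq_iff_eq_mul.mp e.symm))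
  -- the retraction of `D` onto `B`
  have hret : ∀ d : D, ∃ f : F, ((f : G) * d) ∈ B := by
    intro d
    obtain ⟨j, hj, hjt⟩ := hF.trans t ht _ (conj_mem_invAt (hN (hM.base_le d.2)) ht)
    refine ⟨⟨j⁻¹, inv_mem hj⟩, mul_mem (hFD (inv_mem hj)) d.2,
      mem_centralizer_singleton_iff.mpr ?_⟩
    refine mul_inv_eq_iff_eq_mul.mp ?_
    calc j⁻¹ * (d : G) * t * (j⁻¹ * (d : G))⁻¹ = j⁻¹ * ((d : G) * t * (d : G)⁻¹) * j := by group
      _ = t := by rw [← hjt]; group
  choose r hr using hret
  have huniq : ∀ (d : D) (f : G), f ∈ F → f * d ∈ B → f * d = r d * d := by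
    intro d f hf hfd
    have h1 : f * ((r d : F) : G)⁻¹ ∈ B := by
      have := mul_mem hfd (inv_mem (hr d))
      simpa [mul_assoc] using this
    rw [mul_inv_eq_one.mp (hFB _ (mul_mem hf (inv_mem (r d).2)) h1)]
  let π : D →* B :=
    { toFun := fun d => ⟨(r d : G) * d, hr d⟩
      map_one' := Subtype.ext (show (r 1 : G) * ((1 : D) : G) = 1 from
        (huniq 1 1 (one_mem _) (by simp)).symm.trans (by simp))
      map_mul' := fun d e => Subtype.ext (show (r (d * e) : G) * ((d : G) * e) =
          (r d : G) * d * ((r e : G) * e) by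
        refine Eq.trans ?_ (show (r d : G) * ((d : G) * r e * (d : G)⁻¹) * ((d : G) * e) =
          (r d : G) * d * ((r e : G) * e) by group)
        refine (huniq (d * e) _ (mul_mem (r d).2 (hFmem (hM.base_le d.2) (r e).2)) ?_).symm
        rw [show (r d : G) * ((d : G) * r e * (d : G)⁻¹) * ((d * e : D) : G) =
          (r d : G) * d * ((r e : G) * e) by push_cast; group]
        exact mul_mem (hr d) (hr e)) }
  have hcomm : ∀ x : B, (x : G) ∈ ⁅D, D⁆ → x ∈ commutator B := by
    intro x hx
    rw [← Subgroup.map_subtype_commutator] at hx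
    obtain ⟨d, hd, hdx⟩ := hx
    have hπ : π d = x := Subtype.ext (by
      have hdx' : (d : G) = x := hdx
      show (r d : G) * d = x
      rw [← huniq d 1 (one_mem _) (by rw [one_mul, hdx']; exact x.2), one_mul, hdx'])
    rw [← hπ]
    have hle : (commutator D).map π ≤ commutator B := by
      rw [_root_.commutator_def, Subgroup.map_commutator, _root_.commutator_def]
      exact Subgroup.commutator_mono le_top le_top
    exact hle ⟨d, hd, rfl⟩
  have hLL : ∀ x : B, (x : G) ∈ ⁅L, L⁆ := fun x => hperf.symm ▸ (mem_base.mp x.2.1).1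
  -- the hypotheses of the lemma on singular characters
  have hyp : BLemma.Hyp φ := by
    refine ⟨?_, h.odd_pair.of_dvd_nat (card_dvd_of_le hBp), ?_, ?_, ?_, ?_, ?_⟩
    · rw [injective_iff_map_eq_one]
      intro x hx
      refine Subtype.ext ((mem_bot (G := G)).mp (hcent ▸ (⟨hN (hBp x.2), ?_⟩ :
        (x : G) ∈ ptStab S a ⊓ centralizer (invGen S a : Set G))))
      have hle : invGen S a ≤ centralizer ({(x : G)} : Set G) := by
        refine (closure_le _).mpr fun s hs => ?_
        obtain ⟨j, hj, rfl⟩ := hF.trans t ht s hs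
        have hxj : Commute (x : G) j := mul_inv_eq_iff_eq_mul.mp
          (by simpa [hφ] using congrArg Subtype.val (DFunLike.congr_fun hx ⟨j, hj⟩))
        exact mem_centralizer_singleton_iff.mpr
          ((hxj.mul_right (hBt x)).mul_right hxj.inv_right).symm
      exact mem_centralizer_iff.mpr fun l hl => mem_centralizer_singleton_iff.mp (hle hl)
    · haveI := h.isSolvable_pair
      exact Group.isSolvable_of_isSolvable_injective (Subgroup.inclusion_injective hBp)
    · intro x hx
      by_cases htriv : BLemma.fixBy φ x = ⊥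
      · rw [htriv]; infer_instance
      obtain ⟨⟨f, hfx⟩, hf⟩ := (Subgroup.ne_bot_iff_exists_ne_one).mp htriv
      have hf1 : f ≠ 1 := fun e => hf (Subtype.ext e)
      obtain ⟨p, hp, hpd⟩ := Nat.exists_prime_and_dvd (mt orderOf_eq_one_iff.mp hx)
      haveI : Fact p.Prime := ⟨hp⟩
      obtain ⟨⟨w, hwx⟩, hwp⟩ :=
        exists_prime_orderOf_dvd_card' (G := zpowers x) p (by rwa [Nat.card_zpowers])
      rw [Subgroup.orderOf_mk] at hwp
      have hle : BLemma.fixBy φ x ≤ BLemma.fixBy φ w := by
        obtain ⟨n, rfl⟩ := mem_powers_iff_mem_zpowers.mpr hwx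
        exact BLemma.fixBy_le_pow φ x n
      have hwG : orderOf (w : G) = p := by rw [Subgroup.orderOf_coe, hwp]
      set A : Subgroup G := (BLemma.fixBy φ x).map F.subtype with hA
      haveI : IsMulCommutative A := ⟨⟨fun i j => Subtype.ext (show (i : G) * j = j * i from
        congrArg Subtype.val
          (mul_comm' (⟨i, map_subtype_le _ i.2⟩ : F) ⟨j, map_subtype_le _ j.2⟩))⟩⟩
      haveI : IsCyclic A := by
        refine isCyclic_of_fpf h (q := p) (X := zpowers (w : G)) (zpowers_le.mpr (hBp w.2))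
          (IsPGroup.of_card (n := 1) (by rw [Nat.card_zpowers, hwG, pow_one]))
          (fun e => hp.ne_one (by rw [← hwG, zpowers_eq_bot.mp e, orderOf_one]))
          (hgood w f hf1 ((BLemma.mem_fixBy φ).mp (hle hfx)))
          ((map_subtype_le _).trans hF.le) ?_ fun j hj hj1 s hs hc =>
            hj1 (hF.free j (map_subtype_le _ hj) s hs.1 hc)
        rintro _ ⟨j, hj, rfl⟩
        rw [Subgroup.coe_subtype]
        have hc : Commute (j : G) (w : G) :=
          (mul_inv_eq_iff_eq_mul.mp (show (w : G) * j * (w : G)⁻¹ = j from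
            congrArg Subtype.val ((BLemma.mem_fixBy φ).mp (hle hj))) : Commute (w : G) (j : G)).symm
        refine Subgroup.mem_normalizer_iff.mpr fun z => ⟨fun hz => ?_, fun hz => ?_⟩
        · rwa [(commute_of_mem_zpowers hc hz).eq, mul_inv_cancel_right]
        · have h1 := (commute_of_mem_zpowers hc hz).eq
          have h2 : z = (j : G) * z * (j : G)⁻¹ := by
            have h3 : (j : G) * ((j : G) * z * (j : G)⁻¹) = (j : G) * z := by
              rw [h1]; group
            exact (mul_left_cancel h3).symm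
          change (j : G) * z * (j : G)⁻¹ ∈ _ at hz
          rwa [← h2] at hz
      exact (equivMapOfInjective _ F.subtype F.subtype_injective).isCyclic.mpr inferInstance
    · intro z g g' hz1 hgz hg'z hfpf
      set A : Subgroup G := (BLemma.fixBy φ z).map F.subtype with hA
      have hcom : ∀ x ∈ A, Commute x (z : G) := by
        rintro _ ⟨j, hj, rfl⟩
        exact (mul_inv_eq_iff_eq_mul.mp (show (z : G) * j * (z : G)⁻¹ = j from
          congrArg Subtype.val ((BLemma.mem_fixBy φ).mp hj)) : Commute (z : G) (j : G)).symm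
      have hnorm : ∀ x : B, Commute x z → (x : G) ∈ normalizer (A : Set G) := by
        intro x hx
        refine Subgroup.mem_normalizer_iff.mpr fun v => ⟨?_, ?_⟩
        · rintro ⟨j, hj, rfl⟩
          exact ⟨φ x j, BLemma.map_mem_fixBy_of_commute φ hx hj, rfl⟩
        · rintro ⟨j, hj, hjv⟩
          refine ⟨φ x⁻¹ j, BLemma.map_mem_fixBy_of_commute φ hx.inv_left hj, ?_⟩
          show ((x⁻¹ : B) : G) * j * ((x⁻¹ : B) : G)⁻¹ = v
          rw [show (j : G) = x * v * (x : G)⁻¹ from hjv]
          push_cast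
          group
      obtain ⟨n, hn⟩ := hgal z g g' t (fun e => hz1 (Subtype.ext e)) ht (hBp z.2) (hBp g.2) (hBp g'.2) (hBt z) (hBt g) (hBt g')
        (congrArg Subtype.val hgz.eq) (congrArg Subtype.val hg'z.eq) A
        ⟨⟨fun i j => Subtype.ext (show (i : G) * j = j * i from congrArg Subtype.val
          (mul_comm' (⟨i, map_subtype_le _ i.2⟩ : F) ⟨j, map_subtype_le _ j.2⟩))⟩⟩
        ((map_subtype_le _).trans hF.le) (hnorm g hgz) (hnorm g' hg'z) hcom
        (fun s hs s' hs' => by
          obtain ⟨hs, hsz⟩ := mem_invCent_zpowers_iff.mp hs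
          obtain ⟨hs', hs'z⟩ := mem_invCent_zpowers_iff.mp hs'
          obtain ⟨j, hj, hjs⟩ := hF.trans s hs s' hs'
          refine ⟨j, ⟨⟨j, hj⟩, Subtype.ext ?_, rfl⟩, hjs⟩
          show (z : G) * j * (z : G)⁻¹ = j
          have hc : Commute (j⁻¹ * ((z : G) * j * (z : G)⁻¹)) s := by
            refine mul_inv_eq_iff_eq_mul.mp ?_
            calc j⁻¹ * ((z : G) * j * (z : G)⁻¹) * s * (j⁻¹ * ((z : G) * j * (z : G)⁻¹))⁻¹
                = j⁻¹ * z * j * ((z : G)⁻¹ * (s * z)) * j⁻¹ * (z : G)⁻¹ * j := by group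
              _ = j⁻¹ * (z * (j * s * j⁻¹)) * (z : G)⁻¹ * j := by rw [hsz.eq]; group
              _ = s := by rw [hjs, ← hs'z.eq, ← hjs]; group
          exact (inv_mul_eq_one.mp (hF.free _ (mul_mem (inv_mem hj) (hFmem (hBp z.2) hj)) s hs
            hc)).symm)
        (fun j hj => hF.free j (map_subtype_le _ hj))
        (by
          rintro _ ⟨j, hj, rfl⟩ hgj
          exact congrArg Subtype.val (hfpf j hj (Subtype.ext hgj)))
      refine ⟨n, fun j hj => Subtype.ext ?_⟩
      show (g' : G) * j * (g' : G)⁻¹ = ((g ^ n : B) : G) * j * ((g ^ n : B) : G)⁻¹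
      push_cast
      exact hn j ⟨j, hj, rfl⟩
    · intro x p k hp hxo w hwx hw1 hwfix
      haveI : Fact p.Prime := ⟨hp⟩
      obtain ⟨⟨f, hfw⟩, hf⟩ := (Subgroup.ne_bot_iff_exists_ne_one).mp hwfix
      refine hcomm x (mem_commutator_base h hM x.2.1 (q := p) (n := k)
        (by rw [Subgroup.orderOf_coe, hxo]) (Or.inr (Or.inl ⟨(w : G), ?_, ?_, ?_⟩)) (hLL x))
      · obtain ⟨m, rfl⟩ := mem_zpowers_iff.mp hwx
        exact mem_zpowers_iff.mpr ⟨m, by push_cast; rfl⟩
      · exact fun e => hw1 (Subtype.ext e)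
      · exact hgood w f (fun e => hf (Subtype.ext e)) ((BLemma.mem_fixBy φ).mp hfw)
    · intro p _ Q w hw hwc hw1 hwfix x hxQ
      obtain ⟨⟨f, hfw⟩, hf⟩ := (Subgroup.ne_bot_iff_exists_ne_one).mp hwfix
      obtain ⟨k, hk⟩ := (IsPGroup.iff_orderOf.mp Q.isPGroup') ⟨x, hxQ⟩
      rw [Subgroup.orderOf_mk] at hk
      by_cases hx1 : x = 1
      · rw [hx1]; exact one_mem _
      refine hcomm x (mem_commutator_base h hM x.2.1 (q := p) (n := k)
        (by rw [Subgroup.orderOf_coe, hk]) ?_ (hLL x))
      by_cases hpF : p ∣ Nat.card F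
      · -- the count makes every element good
        refine Or.inr (Or.inl ⟨(x : G), mem_zpowers _, fun e => hx1 (Subtype.ext e), ?_⟩)
        have hm := ncard_invCent_modEq h (q := p) (zpowers_le.mpr (hBp x.2))
          (IsPGroup.of_card (n := k) (by rw [Nat.card_zpowers, Subgroup.orderOf_coe, hk]))
        have hm0 := ncard_invCent_modEq h (q := p) (X := ⊥) bot_le IsPGroup.of_bot
        rw [invCent_bot, hF.card_eq ht] at hm0
        have h0 : p ∣ (invCent S a (zpowers (x : G))).ncard :=
          Nat.modEq_zero_iff_dvd.mp (hm.symm.trans (hm0.trans (Nat.modEq_zero_iff_dvd.mpr hpF)))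
        have hpos : 0 < (invCent S a (zpowers (x : G))).ncard :=
          (Set.ncard_pos (Set.toFinite _)).mpr
            ⟨t, mem_invCent_zpowers_iff.mpr ⟨ht, (hBt x).symm⟩⟩
        exact Set.one_lt_ncard_iff_nontrivial.mp
          ((Fact.out : p.Prime).one_lt.trans_le (Nat.le_of_dvd hpos h0))
      · refine Or.inr (Or.inr ⟨(Q : Subgroup B).map B.subtype, ?_, (w : G), ⟨w, hw, rfl⟩,
          fun e => hw1 (Subtype.ext e), ?_,
          hgood w f (fun e => hf (Subtype.ext e)) ((BLemma.mem_fixBy φ).mp hfw)⟩)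
        · refine ⟨(map_subtype_le _).trans inf_le_left, Q.isPGroup'.map _, fun P hP hPp => ?_⟩
          have hinj : Function.Injective (π.comp (Subgroup.inclusion hP)) := by
            rw [injective_iff_map_eq_one]
            intro v hv
            have hv' : (r (Subgroup.inclusion hP v) : G) * (v : G) = 1 := congrArg Subtype.val hv
            have hvF : (v : G) ∈ F := by
              rw [eq_inv_of_mul_eq_one_right hv']
              exact inv_mem (r _).2
            refine Subtype.ext (orderOf_eq_one_iff.mp ?_)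
            obtain ⟨m, hm⟩ := IsPGroup.iff_orderOf.mp hPp v
            have hdvd : orderOf (v : G) ∣ Nat.card F := Subgroup.orderOf_dvd_natCard F hvF
            rw [Subgroup.orderOf_coe, hm] at hdvd
            rcases m.eq_zero_or_pos with rfl | hm0
            · rw [Subgroup.orderOf_coe, hm, pow_zero]
            · exact absurd ((dvd_pow_self p hm0.ne').trans hdvd) hpF
          have hR : IsPGroup p (π.comp (Subgroup.inclusion hP)).range := by
            rw [MonoidHom.range_eq_map]; exact (hPp.to_subgroup ⊤).map _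
          obtain ⟨R, hR'⟩ := hR.exists_le_sylow
          rw [card_map_of_injective B.subtype_injective]
          calc Nat.card P = Nat.card (π.comp (Subgroup.inclusion hP)).range :=
                Nat.card_congr (MonoidHom.ofInjective hinj).toEquiv
            _ ≤ Nat.card (R : Subgroup B) := Nat.le_of_dvd Nat.card_pos (card_dvd_of_le hR')
            _ = Nat.card (Q : Subgroup B) := by rw [Sylow.card_eq_multiplicity, Sylow.card_eq_multiplicity]
        · rintro _ ⟨v, hv, rfl⟩
          exact congrArg Subtype.val (hwc v hv).eq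
  obtain ⟨⟨x, hxF⟩, hx1, hx⟩ := hBL F B φ hyp
  refine false_of_proper_sing h hcore hnc ht hF.le hF.normal hFL hF.trans hF.free hxF
    (fun e => hx1 (Subtype.ext e)) fun z hz hzt hzp => ?_
  have hzB : z ∈ B := ⟨mem_base.mpr ⟨hz.1, (mem_pair.mp hz.2).2.2⟩,
    mem_centralizer_singleton_iff.mpr hzt⟩
  obtain ⟨f, hf⟩ := hx ⟨z, hzB⟩ fun e => hzp.ne_one (by
    rw [show z = 1 from congrArg Subtype.val e, orderOf_one])
  have hxe : x = z * f * z⁻¹ / f := (congrArg Subtype.val hf).symm
  rw [hxe, ← inv_inv (z * (f : G) * z⁻¹ / f)]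
  exact inv_mem (subset_closure ⟨f, f.2, by rw [div_eq_mul_inv]; group⟩)

end Cfsg.Agent.Bridge
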