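import Cfsg.Agent.Bridge.Opening
import Cfsg.Agent.Bridge.LineFacts
import Cfsg.Agent.Bridge.NonCommMain
import Cfsg.Agent.H53.SE.InvCases

/-!
The pair stabiliser in the non-commuting case (notes/helper76_bridge.md, sec. 2 and 3(a)): it has
an abelian normal subgroup regular on the involutions at the point, inverted by the swapper.
-/

set_option autoImplicit false
set_option linter.style.haveILetI false

namespace Cfsg.Agent.Bridge

open Subgroup MulAction
open Cfsg.Agent.H39
open Cfsg.Agent.H73.Bender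
open Cfsg.Agent.Cores.SE

universe u

variable {G : Type u} [Group G] [Finite G] {Ω : Type u} [MulAction G Ω] [Finite Ω]
  {S : Subgroup G} {C : Set Ω} {a b : Ω} {u : G}

/-- In the non-commuting case the pair stabiliser has an abelian normal subgroup regular on the
involutions at `a`, inverted by the swapper. -/
theorem exists_regular_abelian (h : Setting S C a b u) (hcore : CoreFree S a)
    (hnc : ¬ H53.SE.CommAt S a) :
    ∃ F : Subgroup G, F ≤ pair S a b ∧ IsMulCommutative F ∧
      pair S a b ≤ normalizer (F : Set G) ∧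
      (∀ s ∈ invAt S a, ∀ t ∈ invAt S a, ∃ j ∈ F, j * s * j⁻¹ = t) ∧
      (∀ j ∈ F, ∀ s ∈ invAt S a, Commute j s → j = 1) ∧
      (∀ j ∈ F, u * j * u⁻¹ = j⁻¹) ∧ Nat.card F = invBar S C a := by
  obtain ⟨-, hcent, hM, -, q, hq, -, y, hy, ⟨n, hn⟩, ⟨t, ht⟩, -, -, -⟩ := nc_opening h hcore hnc
  haveI := Fact.mk hq
  have hyP : y ∈ pair S a b := hM.base_le hy
  have hfaith : pair S a b ⊓ centralizer (invGen S a : Set G) = ⊥ := eq_bot_iff.mpr fun x hx => by
    obtain ⟨hxS, hxa, -⟩ := mem_pair.mp hx.1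
    exact hcent.le ⟨mem_ptStab.mpr ⟨hxS, hxa⟩, hx.2⟩
  have htmem : t ∈ invCent S a (zpowers y) := ht.symm ▸ Set.mem_singleton t
  obtain ⟨J, hJ, hJle, hJn, hJc, hJcard, hfpf, htr, -⟩ :=
    H53.SE.invertedRegular_of_bad h.se h.faithful h.good h.mem_left h.mem_right h.ne h.swap_mem
      h.swap_inv h.swap (shareAt h) hfaith (p := q) hyP
      (IsPGroup.of_card (n := n) (by rw [Nat.card_zpowers, hn])) htmem.1.1 htmem.1.2.1 htmem.1.2.2
      (htmem.2 y (mem_zpowers y)).symm fun s hs hs2 hsa hys => by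
        have hmem : s ∈ invCent S a (zpowers y) :=
          ⟨⟨hs, hs2, hsa⟩, fun x hx => commute_of_mem_zpowers hys.symm hx⟩
        rw [ht] at hmem
        exact hmem
  exact ⟨J, hJle, hJc, hJn,
    fun s hs t ht => htr s hs.1 hs.2.1 hs.2.2 t ht.1 ht.2.1 ht.2.2,
    fun j hj s hs hjs => hfpf j hj s hs.1 hs.2.1 hs.2.2 hjs,
    fun j hj => ((Set.ext_iff.mp hJ j).mp hj).2, hJcard⟩

/-- STRUCTURE in the form used by the non-commuting assembly. -/
theorem exists_regularAbelian (h : Setting S C a b u) (hcore : CoreFree S a)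
    (hnc : ¬ H53.SE.CommAt S a) : ∃ F, RegularAbelian S a b F := by
  obtain ⟨F, hle, hcomm, hn, htr, hfree, -, -⟩ := exists_regular_abelian h hcore hnc
  exact ⟨F, hle, hcomm, hn, htr, hfree⟩

end Cfsg.Agent.Bridge
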