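import Cfsg.Agent.Bridge.Final
import Cfsg.Agent.Bridge.Structure
import Cfsg.Agent.Bridge.LineGalois
import Cfsg.Agent.Bridge.BLemma

/-!
Bender's theorem: the non-commuting case is impossible, so every simple group with a strongly
embedded subgroup is `PSL₂`, Suzuki or `PSU₃` in even characteristic.
-/

set_option autoImplicit false

namespace Cfsg.Agent.Bridge

universe u

/-- The non-commuting case is impossible. -/
theorem nonCommStep : NonCommStep.{u} := by
  intro G _ _ Ω _ _ S C a b w h hcore hnc
  obtain ⟨F, hF⟩ := exists_regularAbelian h hcore hnc
  exact false_of_regularAbelian h hcore hnc hF (galoisLine h)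
    fun _ _ _ _ _ _ _ _ hyp => BLemma.exists_singular_annihilator hyp

/-- Bender's theorem for simple groups. -/
theorem bender : H76.PostBender.BenderHyp.{u} := benderHyp nonCommStep

end Cfsg.Agent.Bridge
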