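import Cfsg.Agent.Bridge.Complement
import Cfsg.Agent.Bridge.LineFacts
import Cfsg.Agent.H62.Bender.Lambda.FieldPrimeProof
import Cfsg.Agent.H62.Bender.Lambda.Finish

/-!
CASE COM of the bridge (notes/helper76_bridge.md, section 4): when the involutions at the point
commute, the point stabiliser has a normal regular `2`-subgroup containing them.
-/

set_option autoImplicit false
set_option linter.style.haveILetI false
set_option linter.unusedSectionVars false

namespace Cfsg.Agent.Bridge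

open Subgroup MulAction
open Cfsg.Agent.H39
open Cfsg.Agent.H73.Bender
open Cfsg.Agent.Cores.SE
open Cfsg.Agent.H53.SE
open Cfsg.Agent.H62.Bender.Lambda

universe u

variable {G : Type u} [Group G] [Finite G] {Ω : Type u} [MulAction G Ω] [Finite Ω]
  {S : Subgroup G} {C : Set Ω} {a b : Ω} {u : G}

omit [Finite G] [Finite Ω] in
theorem base_le_pair {M : Subgroup G} (hM : M ≤ ptStab S a) : base M b ≤ pair S a b := fun _ hg =>
  mem_pair.mpr ⟨(mem_ptStab.mp (hM hg.1)).1, (mem_ptStab.mp (hM hg.1)).2, hg.2⟩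

omit [Finite G] [Finite Ω] in
theorem smul_mem_others (h : Setting S C a b u) {g : G} (hg : g ∈ ptStab S a) {c : Ω}
    (hc : c ∈ C \ {a}) : g • c ∈ C \ {a} :=
  ⟨h.se.smul_mem (mem_ptStab.mp hg).1 hc.1, fun e => hc.2 (Set.mem_singleton_iff.mpr
    (MulAction.injective g ((Set.mem_singleton_iff.mp e).trans (mem_ptStab.mp hg).2.symm)))⟩

omit [Finite G] [Finite Ω] in
theorem mem_fixedIn_zpowers {z : G} {c : Ω} (hc : c ∈ C) (hzc : z • c = c) :
    c ∈ fixedIn C (zpowers z) :=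
  ⟨hc, fun _ hx => mem_stabilizer_iff.mp ((zpowers_le.mpr (mem_stabilizer_iff.mpr hzc)) hx)⟩

omit [Finite G] [Finite Ω] in
theorem mem_invCent_zpowers {z t : G} :
    t ∈ invCent S a (zpowers z) ↔ t ∈ invAt S a ∧ Commute t z :=
  and_congr_right fun _ => ⟨fun h => h z (mem_zpowers z), fun h _ hx => commute_of_mem_zpowers h hx⟩

omit [Finite Ω] in
/-- A regular `2`-group of a line gives one of the transfer. -/
theorem regTwo_of_lineTwo {z : G} {T M : Subgroup G} (hT : LineTwo S C a (zpowers z) T)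
    (hM : M ≤ ptStab S a) (hTM : T ≤ M) : RegTwo M (C \ {a}) z T := by
  refine ⟨hTM, hT.isPGroup, fun t ht => ?_, fun g hg hgz t ht => ?_,
    fun c hc hzc d hd hzd => ?_⟩
  · exact (mem_centralizer_iff.mp (hT.le ht).2 z (mem_zpowers z) : z * t = t * z).symm
  · have hgn : g ∈ normalizer (zpowers z : Set G) := by
      refine Subgroup.mem_normalizer_iff.mpr fun y => ⟨fun hy => ?_, fun hy => ?_⟩
      · rwa [(commute_of_mem_zpowers hgz hy).eq, mul_inv_cancel_right]
      · have h1 := (commute_of_mem_zpowers hgz hy).eq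
        have h2 : y = g * y * g⁻¹ := by
          calc y = g⁻¹ * (g * y * g⁻¹ * g) := by group
            _ = g⁻¹ * (g * (g * y * g⁻¹)) := by rw [h1]
            _ = g * y * g⁻¹ := by group
        rwa [h2]
    exact (Subgroup.mem_normalizer_iff.mp (hT.normal ⟨hM hg, hgn⟩) t).mp ht
  · have hca : c ≠ a := fun e => hc.2 e
    have hda : d ≠ a := fun e => hd.2 e
    obtain ⟨g, hg, hgd⟩ := hT.trans c (mem_fixedIn_zpowers hc.1 hzc) hca d
      (mem_fixedIn_zpowers hd.1 hzd) hda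
    refine ⟨g, ⟨hg, hgd⟩, fun g' ⟨hg', hgd'⟩ => ?_⟩
    have h1 := hT.free _ (T.mul_mem (T.inv_mem hg) hg') c (mem_fixedIn_zpowers hc.1 hzc) hca
      (by rw [mul_smul, hgd', ← hgd, inv_smul_smul])
    exact (inv_mul_eq_one.mp h1).symm

/-- The involutions centralising an element of order `q` count all of them modulo `q`. -/
theorem card_invCent_modEq {q : ℕ} [Fact q.Prime] {z : G} (hz : z ∈ ptStab S a)
    (hzq : orderOf z = q) :
    Nat.card (invAt S a) ≡ Nat.card (invCent S a (zpowers z)) [MOD q] := by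
  have hle : zpowers z ≤ ptStab S a := zpowers_le.mpr hz
  have hact : ∀ x : zpowers z, ∀ i : invAt S a, (x : G) * i * (x : G)⁻¹ ∈ invAt S a := by
    rintro ⟨x, hx⟩ ⟨i, hi, hi2, hia⟩
    obtain ⟨hxS, hxa⟩ := mem_ptStab.mp (hle hx)
    exact ⟨conj_mem_of_mem hxS hi, by rw [orderOf_conj, hi2],
      by rw [mul_smul, mul_smul, inv_smul_eq_iff.mpr hxa.symm, hia, hxa]⟩
  letI : MulAction (zpowers z) (invAt S a) :=
    { smul := fun x i => ⟨(x : G) * i * (x : G)⁻¹, hact x i⟩
      one_smul := fun i => Subtype.ext (show ((1 : zpowers z) : G) * i * ((1 : zpowers z) : G)⁻¹ = i by simp)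
      mul_smul := fun x y i => Subtype.ext
        (show ((x * y : zpowers z) : G) * i * ((x * y : zpowers z) : G)⁻¹ =
          x * (y * i * (y : G)⁻¹) * (x : G)⁻¹ by simp [mul_assoc]) }
  have h1 := (IsPGroup.of_card (p := q) (n := 1) (G := zpowers z)
    (by rw [Nat.card_zpowers, hzq, pow_one])).card_modEq_card_fixedPoints (invAt S a)
  refine h1.trans (congrArg (· % q) (Nat.card_congr ?_))
  exact
    ⟨fun i => ⟨i.1.1, mem_invCent_zpowers.mpr ⟨i.1.2,
        (mul_inv_eq_iff_eq_mul.mp (congrArg Subtype.val (i.2 ⟨z, mem_zpowers z⟩))).symm⟩⟩,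
      fun i => ⟨⟨i.1, i.2.1⟩, fun x => Subtype.ext (mul_inv_eq_iff_eq_mul.mpr (i.2.2 x x.2).symm)⟩,
      fun _ => rfl, fun _ => rfl⟩

omit [Finite Ω] in
theorem invBar_eq_card_invAt (h : Setting S C a b u) : invBar S C a = Nat.card (invAt S a) :=
  invBar_eq_card h.faithful a

/-- An element of prime order centralising no involution at `a` fixes two points. -/
theorem eq_of_exact (h : Setting S C a b u) {q : ℕ} [Fact q.Prime] {y : G}
    (hy : y ∈ pair S a b) (hyq : orderOf y = q) (hex : invCent S a (zpowers y) = ∅) {c : Ω}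
    (hc : c ∈ C) (hca : c ≠ a) (hyc : y • c = c) : c = b := by
  have hdvd : q ∣ invBar S C a := by
    have h1 := card_invCent_modEq (S := S) (a := a) (q := q)
      (mem_ptStab.mpr ⟨(mem_pair.mp hy).1, (mem_pair.mp hy).2.1⟩) hyq
    rw [hex, Nat.card_coe_set_eq ∅, Set.ncard_empty] at h1
    rw [invBar_eq_card_invAt h]
    exact Nat.modEq_zero_iff_dvd.mp h1
  refine (fixed_eq_pair h.se h.faithful h.good h.mem_left h.mem_right h.ne hdvd hy hyq
    (fun t ht ht2 hta hyt => ?_) hc hyc).resolve_left hca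
  exact Set.eq_empty_iff_forall_notMem.mp hex t (mem_invCent_zpowers.mpr ⟨⟨ht, ht2, hta⟩, hyt.symm⟩)

/-- All prime power elements of the base are mild, when none of prime order is bad and the lines
stay inside. -/
theorem mild_of_not_bad (h : Setting S C a b u) {M : Subgroup G} (hM : M ≤ ptStab S a)
    (hnb : ∀ y ∈ base M b, (orderOf y).Prime → ¬ IsBad S a (zpowers y))
    (hline : ∀ z ∈ base M b, ∀ T, LineTwo S C a (zpowers z) T → T ≤ M) :
    ∀ x ∈ base M b, IsPrimePow (orderOf x) → Mild M (C \ {a}) b x := by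
  intro x hx _ y hy hy1
  have hyB : y ∈ base M b := zpowers_le.mpr hx hy
  obtain ⟨q, hq, hqd⟩ := Nat.exists_prime_and_dvd (mt orderOf_eq_one_iff.mp hy1)
  haveI := Fact.mk hq
  set y0 := y ^ (orderOf y / q) with hy0
  have hy0q : orderOf y0 = q := orderOf_pow_orderOf_div (orderOf_pos y).ne' hqd
  have hy0B : y0 ∈ base M b := (base M b).pow_mem hyB _
  rcases (invCent S a (zpowers y0)).eq_empty_or_nonempty with hex | ⟨t, ht⟩
  · refine Or.inl fun c hc => ?_
    refine eq_of_exact h (base_le_pair hM hy0B) hy0q hex hc.1.1 hc.1.2 ?_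
    exact mem_stabilizer_iff.mp ((stabilizer G c).pow_mem (mem_stabilizer_iff.mpr hc.2) _)
  · have hg : IsGood S a (zpowers y0) := by
      by_contra hng
      refine hnb y0 hy0B (hy0q ▸ hq) ⟨t, ?_⟩
      exact (Set.not_nontrivial_iff.mp hng).eq_singleton_of_mem ht
    have hne : zpowers y0 ≠ ⊥ := fun e => hq.ne_one (by
      rw [← hy0q, zpowers_eq_bot.mp e, orderOf_one])
    obtain ⟨T, hT⟩ := exists_lineTwo h (zpowers_le.mpr (base_le_pair hM hy0B))
      (IsPGroup.of_card (n := 1) (by rw [Nat.card_zpowers, hy0q, pow_one])) hne hg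
    exact Or.inr ⟨y0, pow_mem (mem_zpowers y) _, T,
      regTwo_of_lineTwo hT hM (hline y0 hy0B T hT)⟩

theorem nontrivial_invAt (h : Setting S C a b u) : (invAt S a).Nontrivial := by
  obtain ⟨t, ht, ht2, hta⟩ := h.se.exists_inv_at h.mem_left
  obtain ⟨s, hs, hs2, hts, hcts⟩ := h.se.exists_commute_inv h.rankTwo ht ht2
  exact ⟨t, ⟨ht, ht2, hta⟩, s,
    ⟨hs, hs2, h.se.fix_of_commute hs ht ht2 hcts.symm h.mem_left hta⟩, hts⟩

/-- An element of prime order of the pair stabiliser fixing only the two points. -/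
theorem exists_fpf (h : Setting S C a b u) (hc : CommAt S a) :
    ∃ x, x ∈ pair S a b ∧ (orderOf x).Prime ∧ ∀ c ∈ C \ {a}, x • c = c → c = b := by
  obtain ⟨A, -, hAD, -, -, hAcard, hfpf, -, -⟩ :=
    exists_inverted_subgroup h.se h.faithful h.good h.mem_left h.mem_right h.ne hc h.swap_mem
      h.swap_inv h.swap
  have hm1 : invBar S C a ≠ 1 := by
    haveI : Nontrivial (invAt S a) := (nontrivial_invAt h).coe_sort
    rw [invBar_eq_card_invAt h]
    exact Finite.one_lt_card.ne'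
  obtain ⟨r, hr, hrm⟩ := Nat.exists_prime_and_dvd hm1
  haveI : Fact r.Prime := ⟨hr⟩
  obtain ⟨⟨x, hxA⟩, hxr⟩ := exists_prime_orderOf_dvd_card' (G := A) r (hAcard ▸ hrm)
  rw [Subgroup.orderOf_mk] at hxr
  have hx1 : x ≠ 1 := fun e => hr.ne_one (by rw [← hxr, e, orderOf_one])
  exact ⟨x, hAD hxA, hxr ▸ hr, fun c hc' hxc =>
    (fixed_eq_pair h.se h.faithful h.good h.mem_left h.mem_right h.ne hrm (hAD hxA) hxr
      (fun t ht ht2 hta hxt => hx1 (hfpf x hxA t ht ht2 hta hxt)) hc'.1 hxc).resolve_left hc'.2⟩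

/-- The statement to prove. -/
def HasComplement (S : Subgroup G) (C : Set Ω) (a b : Ω) : Prop :=
  ∃ Q : Subgroup G, Q ≤ ptStab S a ∧ ptStab S a ≤ normalizer (Q : Set G) ∧
    Q ⊓ pair S a b = ⊥ ∧ (∀ x ∈ C, x ≠ a → ∃ g ∈ Q, g • b = x) ∧ invAt S a ⊆ Q ∧
    IsPGroup 2 Q ∧ (Nat.card Q).Coprime (Nat.card (pair S a b))

/-- A normal regular subgroup containing the involutions is a `2`-group. -/
theorem hasComplement_of_regular (h : Setting S C a b u) (hc : CommAt S a)
    (hcore : CoreFree S a) {Q : Subgroup G} (hQ : Q ≤ ptStab S a)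
    (hn : ptStab S a ≤ normalizer (Q : Set G)) (hfree : ∀ g ∈ Q, g • b = b → g = 1)
    (htr : ∀ x ∈ C, x ≠ a → ∃ g ∈ Q, g • b = x) (hinv : invAt S a ⊆ Q) :
    HasComplement S C a b := by
  obtain ⟨x, hx, hxp, hxfix⟩ := exists_fpf h hc
  obtain ⟨hxS, hxa, hxb⟩ := mem_pair.mp hx
  have hb : b ∈ C \ {a} := ⟨h.mem_right, fun e => h.ne (Set.mem_singleton_iff.mp e).symm⟩
  have h2 : IsPGroup 2 Q := isPGroup_two_of_fpf (Y := C \ {a}) hQ hn hcore hfree
    (fun g hg => smul_mem_others h (hQ hg) hb) (mem_ptStab.mpr ⟨hxS, hxa⟩) hxp hxfix hxb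
  refine ⟨Q, hQ, hn, (Subgroup.eq_bot_iff_forall _).mpr fun g hg =>
    hfree g hg.1 (mem_pair.mp hg.2).2.2, htr, hinv, h2, ?_⟩
  haveI : Fact (Nat.Prime 2) := ⟨Nat.prime_two⟩
  obtain ⟨n, hn2⟩ := IsPGroup.iff_card.mp h2
  rw [hn2]
  exact (h.odd_pair.coprime_two_left).pow_left n

/-- The transfer gives the complement in a normal transitive subgroup without bad elements. -/
theorem hasComplement_of_mild (h : Setting S C a b u) (hc : CommAt S a) (hcore : CoreFree S a)
    {M : Subgroup G} (hM : M ≤ ptStab S a) (hn : ptStab S a ≤ normalizer (M : Set G))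
    (hinv : invAt S a ⊆ M) (htr : ∀ x ∈ C \ {a}, ∃ g ∈ M, g • b = x)
    (hnb : ∀ y ∈ base M b, (orderOf y).Prime → ¬ IsBad S a (zpowers y))
    (hline : ∀ z ∈ base M b, ∀ T, LineTwo S C a (zpowers z) T → T ≤ M) :
    HasComplement S C a b := by
  have hb : b ∈ C \ {a} := ⟨h.mem_right, fun e => h.ne (Set.mem_singleton_iff.mp e).symm⟩
  have hMT : MTrans M (C \ {a}) b := ⟨hb, fun g hg c hc' => smul_mem_others h (hM hg) hc', htr⟩
  have hodd : Odd (Nat.card (base M b)) :=
    h.odd_pair.of_dvd_nat (card_dvd_of_le (base_le_pair hM))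
  obtain ⟨Q, hQ⟩ := exists_regComplement hMT hodd (Cfsg.Agent.S0205.result hodd)
    (mild_of_not_bad h hM hnb hline)
  exact hasComplement_of_regular h hc hcore (hQ.le.trans hM) (hn.trans hQ.normal)
    (fun g hg hgb => hQ.free g hg b hb hgb) (fun x hx hxa => hQ.trans b hb x ⟨hx, hxa⟩)
    fun t ht => hQ.two_mem t (hinv ht) ⟨1, by rw [ht.2.1, pow_one]⟩

omit [Finite Ω] in
theorem invAt_subset_centInv (hc : CommAt S a) : invAt S a ⊆ centInv S a := fun t ht =>
  ⟨mem_ptStab.mpr ⟨ht.1, ht.2.2⟩, mem_centralizer_iff.mpr fun e he => by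
    rcases eq_or_inv_of_mem_invGen hc he with rfl | ⟨he1, he2, he3⟩
    · simp
    · exact (hc e he1 t ht.1 he2 ht.2.1 he3 ht.2.2).eq⟩

omit [Finite Ω] in
theorem centInv_normal : ptStab S a ≤ normalizer (centInv S a : Set G) := by
  have key : ∀ g ∈ ptStab S a, ∀ n ∈ centInv S a, g * n * g⁻¹ ∈ centInv S a := by
    intro g hg n hn
    refine ⟨(ptStab S a).mul_mem ((ptStab S a).mul_mem hg hn.1) ((ptStab S a).inv_mem hg),
      mem_centralizer_iff.mpr fun e he => ?_⟩
    have h1 := mem_centralizer_iff.mp hn.2 _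
      ((Subgroup.mem_normalizer_iff''.mp (ptStab_le_normalizer_invGen a hg) e).mp he)
    calc e * (g * n * g⁻¹) = g * (g⁻¹ * e * g * n) * g⁻¹ := by group
      _ = g * (n * (g⁻¹ * e * g)) * g⁻¹ := by rw [h1]
      _ = g * n * g⁻¹ * e := by group
  exact fun g hg => Subgroup.mem_normalizer_iff.mpr fun n => ⟨key g hg n, fun hn => by
    simpa [mul_assoc] using key g⁻¹ (inv_mem hg) _ hn⟩

/-- Section 4(a): some non-trivial element of the pair stabiliser centralises all involutions. -/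
theorem hasComplement_of_kernel (h : Setting S C a b u) (hc : CommAt S a) (hcore : CoreFree S a)
    (hL : pair S a b ⊓ centralizer (invGen S a : Set G) ≠ ⊥) : HasComplement S C a b := by
  classical
  set L := pair S a b ⊓ centralizer (invGen S a : Set G) with hLdef
  set K := centInv S a with hKdef
  have hKH : K ≤ ptStab S a := inf_le_left
  have hLK : L ≤ K := fun g hg =>
    ⟨mem_ptStab.mpr ⟨(mem_pair.mp hg.1).1, (mem_pair.mp hg.1).2.1⟩, hg.2⟩
  have hall : ∀ X : Subgroup G, X ≤ L → invCent S a X = invAt S a := fun X hX =>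
    Set.ext fun t => ⟨And.left, fun ht => ⟨ht, fun x hx =>
      (mem_centralizer_iff.mp (hX hx).2 t (subset_closure ht) : t * x = x * t)⟩⟩
  have hTK : ∀ X : Subgroup G, X ≤ L → ∀ T, LineTwo S C a X T → T ≤ K := fun X hX T hT g hg =>
    ⟨(hT.le hg).1, mem_centralizer_iff.mpr fun e he => by
      rcases eq_or_inv_of_mem_invGen hc he with rfl | ⟨he1, he2, he3⟩
      · simp
      · exact (hT.inv_comm e (hall X hX ▸ ⟨he1, he2, he3⟩) g hg).eq⟩
  obtain ⟨p, hp, hpL⟩ := Nat.exists_prime_and_dvd (mt (Subgroup.eq_bot_of_card_eq L) hL)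
  haveI := Fact.mk hp
  obtain ⟨P, -, hP⟩ := H29.Bender.exists_isSyl_ge (D := L) (P := ⊥) bot_le
    (IsPGroup.of_bot (p := p))
  have hp2 : p ≠ 2 := by
    rintro rfl
    exact (Nat.not_even_iff_odd.mpr (h.odd_pair.of_dvd_nat (card_dvd_of_le inf_le_left)))
      (even_iff_two_dvd.mpr hpL)
  have hP1 : P ≠ ⊥ := fun e => by
    obtain ⟨⟨y, hyL⟩, hy⟩ := exists_prime_orderOf_dvd_card' (G := L) p hpL
    rw [Subgroup.orderOf_mk] at hy
    have h1 := hP.max (zpowers y) (zpowers_le.mpr hyL)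
      (IsPGroup.of_card (n := 1) (by rw [Nat.card_zpowers, hy, pow_one]))
    rw [e, Subgroup.card_bot, Nat.card_zpowers, hy] at h1
    exact absurd h1 (by have := hp.two_le; omega)
  have hPD : P ≤ pair S a b := hP.le.trans inf_le_left
  obtain ⟨T, hT⟩ := exists_lineTwo h hPD hP.pgroup hP1
    (by rw [IsGood, hall P hP.le]; exact nontrivial_invAt h)
  have hbX : b ∈ fixedIn C P := ⟨h.mem_right, fun x hx => (mem_pair.mp (hPD hx)).2.2⟩
  have hTK' : T ≤ K := hTK P hP.le T hT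
  have hsplit : ∀ g ∈ ptStab S a, g ∈ normalizer (P : Set G) → ∃ w ∈ T, w⁻¹ * g ∈ pair S a b := by
    intro g hg hgP
    obtain ⟨hgS, hga⟩ := mem_ptStab.mp hg
    have hgb : g • b ∈ fixedIn C P := ⟨h.se.smul_mem hgS h.mem_right, fun x hx => by
      have h1 : (g⁻¹ * x * g) • b = b :=
        (mem_pair.mp (hPD ((Subgroup.mem_normalizer_iff''.mp hgP x).mp hx))).2.2
      rwa [mul_smul, mul_smul, inv_smul_eq_iff] at h1⟩
    obtain ⟨w, hw, hwb⟩ := hT.trans b hbX (Ne.symm h.ne) _ hgb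
      (fun e => h.ne (MulAction.injective g (e.trans hga.symm)).symm)
    obtain ⟨hwS, hwa⟩ := mem_ptStab.mp (hT.le hw).1
    exact ⟨w, hw, mem_pair.mpr ⟨mul_mem (inv_mem hwS) hgS,
      by rw [mul_smul, hga, inv_smul_eq_iff, hwa],
      by rw [mul_smul, ← hwb, inv_smul_smul]⟩⟩
  -- a Sylow subgroup of the kernel is one of the centraliser of the involutions
  have hPK : H29.Bender.IsSyl p K P := by
    obtain ⟨R, hPR, hR⟩ := H29.Bender.exists_isSyl_ge (hP.le.trans hLK) hP.pgroup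
    suffices hRP : R = P from hRP ▸ hR
    by_contra hne
    have hlt : P < R := lt_of_le_of_ne hPR (Ne.symm hne)
    haveI : Group.IsNilpotent R := hR.pgroup.isNilpotent
    have hlt' : P.subgroupOf R < ⊤ := lt_top_iff_ne_top.mpr fun e =>
      hlt.not_ge (Subgroup.subgroupOf_eq_top.mp e)
    obtain ⟨⟨g, hgR⟩, hgN, hgP⟩ :=
      SetLike.exists_of_lt (Group.normalizerCondition_of_isNilpotent _ hlt')
    rw [mem_subgroupOf] at hgP
    change g ∉ P at hgP
    have hgn : g ∈ normalizer (P : Set G) := by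
      refine Subgroup.mem_normalizer_iff.mpr fun n => ?_
      by_cases hn : n ∈ R
      · simpa [mem_subgroupOf] using (Subgroup.mem_normalizer_iff.mp hgN ⟨n, hn⟩)
      · refine ⟨fun h' => absurd (hPR h') hn, fun h' => absurd ?_ hn⟩
        have := mul_mem (mul_mem (inv_mem hgR) (hPR h')) hgR
        simpa [mul_assoc] using this
    have hgH : g ∈ ptStab S a := hKH (hR.le hgR)
    obtain ⟨w, hw, hd⟩ := hsplit g hgH hgn
    have hdK : w⁻¹ * g ∈ K := mul_mem (inv_mem (hTK' hw)) (hR.le hgR)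
    have hdL : w⁻¹ * g ∈ L := ⟨hd, hdK.2⟩
    have hdP : w⁻¹ * g ∈ normalizer (P : Set G) := by
      refine mul_mem (inv_mem ?_) hgn
      refine Subgroup.mem_normalizer_iff.mpr fun n => ?_
      have hcw := mem_centralizer_iff.mp (hT.le hw).2
      refine ⟨fun hn => ?_, fun hn => ?_⟩
      · rw [← hcw n hn, mul_inv_cancel_right]; exact hn
      · have h1 : n = w * n * w⁻¹ := by
          have e := hcw _ hn
          calc n = w⁻¹ * (w * n * w⁻¹ * w) := by group
            _ = w⁻¹ * (w * (w * n * w⁻¹)) := by rw [e]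
            _ = w * n * w⁻¹ := by group
        rw [h1]; exact hn
    set N := L ⊓ normalizer (P : Set G) with hN
    have hNT : N ≤ normalizer (T : Set G) := fun d hd' =>
      hT.normal ⟨hKH (hLK hd'.1), hd'.2⟩
    set R' := P ⊔ zpowers g with hR'
    have hR'R : R' ≤ R := sup_le hPR (zpowers_le.mpr hgR)
    have hR'M : R' ≤ T ⊔ N := sup_le
      (fun x hx => Subgroup.mem_sup_right (show x ∈ N from ⟨hP.le hx, Subgroup.le_normalizer hx⟩))
      (zpowers_le.mpr (by
        rw [show g = w * (w⁻¹ * g) by group]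
        exact Subgroup.mul_mem_sup hw (show w⁻¹ * g ∈ N from ⟨hdL, hdP⟩)))
    have hdvd : Nat.card R' ∣ Nat.card T * Nat.card L := by
      refine (card_dvd_of_le hR'M).trans ?_
      obtain ⟨f, hf⟩ : ∃ f : T × N → (T ⊔ N : Subgroup G), Function.Bijective f := by
        refine ⟨fun x => ⟨x.1 * x.2, Subgroup.mul_mem_sup x.1.2 x.2.2⟩, ?_, ?_⟩
        · rintro ⟨x, y⟩ ⟨x', y'⟩ e
          have e' : (x : G) * y = x' * y' := congrArg Subtype.val e
          have h1 : (x' : G)⁻¹ * x = y' * (y : G)⁻¹ := by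
            rw [eq_mul_inv_iff_mul_eq, mul_assoc, e', inv_mul_cancel_left]
          have h2 := eq_one_of_two_odd (h.odd_pair.of_dvd_nat (card_dvd_of_le
              ((inf_le_left : N ≤ L).trans inf_le_left)))
            (h1 ▸ mul_mem y'.2 (inv_mem y.2))
            (hT.isPGroup.to_le (zpowers_le.mpr (mul_mem (inv_mem x'.2) x.2)))
          have : x = x' := Subtype.ext (inv_mul_eq_one.mp h2).symm
          subst this
          exact Prod.ext rfl (Subtype.ext (mul_left_cancel e'))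
        · rintro ⟨m, hm⟩
          have hm' : m ∈ ((T ⊔ N : Subgroup G) : Set G) := hm
          rw [Subgroup.coe_mul_of_right_le_normalizer_left _ _ hNT] at hm'
          obtain ⟨x, hx, y, hy, rfl⟩ := Set.mem_mul.mp hm'
          exact ⟨(⟨x, hx⟩, ⟨y, hy⟩), rfl⟩
      rw [← Nat.card_eq_of_bijective f hf, Nat.card_prod]
      exact Nat.mul_dvd_mul_left _ (card_dvd_of_le inf_le_left)
    haveI : Fact (Nat.Prime 2) := ⟨Nat.prime_two⟩
    obtain ⟨i, hi⟩ := IsPGroup.iff_card.mp (hR.pgroup.to_le hR'R)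
    obtain ⟨j, hj⟩ := IsPGroup.iff_card.mp hT.isPGroup
    rw [hi, hj] at hdvd
    have hdvd' : p ^ i ∣ Nat.card L :=
      ((((Nat.coprime_primes hp Nat.prime_two).mpr hp2).pow i j)).dvd_of_dvd_mul_left hdvd
    have hile : p ^ i ≤ Nat.card P := by
      rw [hP.card_eq]
      exact Nat.le_of_dvd (pow_pos hp.pos _) (Nat.pow_dvd_pow p
        ((hp.pow_dvd_iff_le_factorization Nat.card_pos.ne').mp hdvd'))
    have heq : P = R' := Subgroup.eq_of_le_of_card_ge le_sup_left (hi ▸ hile)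
    exact hgP (heq ▸ Subgroup.mem_sup_right (mem_zpowers g))
  refine hasComplement_of_mild h hc hcore hKH centInv_normal (invAt_subset_centInv hc) ?_ ?_ ?_
  · rintro x ⟨hx, hxa⟩
    obtain ⟨g, hgS, hga, hgb⟩ := h.twoTrans a h.mem_left b h.mem_right x hx (Ne.symm h.ne)
      fun e => hxa (Set.mem_singleton_iff.mpr e)
    obtain ⟨d, hd, hdg⟩ := hPK.exists_mul_mem_normalizer
      (centInv_normal (mem_ptStab.mpr ⟨hgS, hga⟩))
    have hdg' : d * g ∈ ptStab S a := mul_mem (hKH hd) (mem_ptStab.mpr ⟨hgS, hga⟩)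
    obtain ⟨w, hw, hwd⟩ := hsplit _ hdg' hdg
    refine ⟨d⁻¹ * w, mul_mem (inv_mem hd) (hTK' hw), ?_⟩
    have h1 := (mem_pair.mp hwd).2.2
    rw [mul_smul, inv_smul_eq_iff] at h1
    rw [mul_smul, ← h1, mul_smul, inv_smul_smul, hgb]
  · intro y hy _ hbad
    obtain ⟨t, ht⟩ := hbad
    have hyL : y ∈ L := ⟨base_le_pair hKH hy, hy.1.2⟩
    rw [hall _ (zpowers_le.mpr hyL)] at ht
    exact (nontrivial_invAt h).not_subsingleton (ht ▸ Set.subsingleton_singleton)
  · intro z hz T' hT'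
    exact hTK _ (zpowers_le.mpr (show z ∈ L from ⟨base_le_pair hKH hz, hz.1.2⟩)) T' hT'

/-- Section 4(c): no kernel and a bad element of prime order. -/
theorem hasComplement_of_bad (h : Setting S C a b u) (hc : CommAt S a) (hcore : CoreFree S a)
    (hL : pair S a b ⊓ centralizer (invGen S a : Set G) = ⊥) {z : G} (hz : z ∈ pair S a b)
    (hzp : (orderOf z).Prime) (hbad : IsBad S a (zpowers z)) : HasComplement S C a b := by
  classical
  obtain ⟨t, hbad⟩ := hbad
  haveI := Fact.mk hzp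
  have hzt : t ∈ invCent S a (zpowers z) := by rw [hbad]; exact Set.mem_singleton t
  obtain ⟨⟨htS, ht2, hta⟩, hcz⟩ := mem_invCent_zpowers.mp hzt
  have hzuniq : ∀ s ∈ invAt S a, Commute s z → s = t := fun s hs hsz => by
    have h1 : s ∈ invCent S a (zpowers z) := mem_invCent_zpowers.mpr ⟨hs, hsz⟩
    rw [hbad] at h1
    exact Set.mem_singleton_iff.mp h1
  set m := invBar S C a with hm
  obtain ⟨A, hAset, hAD, hAn, hAcyc, hAcard, hfpf, hAtr, hdec⟩ :=
    exists_inverted_subgroup h.se h.faithful h.good h.mem_left h.mem_right h.ne hc h.swap_mem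
      h.swap_inv h.swap
  set Dt := pair S a b ⊓ centralizer ({t} : Set G) with hDt
  set F := pair S a b ⊓ centralizer ({u} : Set G) with hF
  set E := invGen S a with hE
  have hcardD : ∀ K : Subgroup G, K ≤ pair S a b → A ⊓ K = ⊥ →
      (∀ d ∈ pair S a b, ∃ j ∈ A, ∃ k ∈ K, d = j * k) →
      Nat.card (pair S a b) = Nat.card A * Nat.card K := by
    intro K hK hAK hsur
    rw [← Nat.card_prod]
    refine (Nat.card_congr (Equiv.ofBijective (fun x : A × K =>
      (⟨(x.1 : G) * x.2, mul_mem (hAD x.1.2) (hK x.2.2)⟩ : pair S a b)) ⟨?_, ?_⟩)).symm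
    · rintro ⟨x, k⟩ ⟨x', k'⟩ e
      have e' : (x : G) * k = x' * k' := congrArg Subtype.val e
      have h1 : (x' : G)⁻¹ * x = k' * (k : G)⁻¹ := by
        rw [eq_mul_inv_iff_mul_eq, mul_assoc, e', inv_mul_cancel_left]
      have h2 : (x' : G)⁻¹ * x ∈ A ⊓ K :=
        ⟨A.mul_mem (A.inv_mem x'.2) x.2, h1 ▸ K.mul_mem k'.2 (K.inv_mem k.2)⟩
      rw [hAK, mem_bot] at h2
      have : x = x' := Subtype.ext (inv_mul_eq_one.mp h2).symm
      subst this
      exact Prod.ext rfl (Subtype.ext (mul_left_cancel e'))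
    · rintro ⟨d, hd⟩
      obtain ⟨x, hx, k, hk, rfl⟩ := hsur d hd
      exact ⟨(⟨x, hx⟩, ⟨k, hk⟩), rfl⟩
  have hAt : A ⊓ Dt = ⊥ := (Subgroup.eq_bot_iff_forall _).mpr fun x hx =>
    hfpf x hx.1 t htS ht2 hta (mem_centralizer_singleton_iff.mp hx.2.2)
  have hDtdec : ∀ d ∈ pair S a b, ∃ j ∈ A, ∃ k ∈ Dt, d = j * k := by
    intro d hd
    obtain ⟨hdS, hda, -⟩ := mem_pair.mp hd
    obtain ⟨j, hj, hjt⟩ := hAtr t htS ht2 hta (d * t * d⁻¹) (conj_mem_of_mem hdS htS)
      (by rw [orderOf_conj, ht2])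
      (by rw [mul_smul, mul_smul, inv_smul_eq_iff.mpr hda.symm, hta, hda])
    refine ⟨j, hj, j⁻¹ * d, ⟨(pair S a b).mul_mem ((pair S a b).inv_mem (hAD hj)) hd,
      mem_centralizer_singleton_iff.mpr ?_⟩,
      by group⟩
    calc j⁻¹ * d * t = j⁻¹ * (d * t * d⁻¹) * d := by group
      _ = t * (j⁻¹ * d) := by rw [← hjt]; group
  have hodd := h.odd_pair
  have hAF : A ⊓ F = ⊥ := (Subgroup.eq_bot_iff_forall _).mpr fun x hx => by
    have h1 : x ∈ invertedBy S a b u := hAset ▸ hx.1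
    have h2 : u * x * u⁻¹ = x := by
      rw [show u * x = x * u from (mem_centralizer_singleton_iff.mp hx.2.2).symm,
        mul_inv_cancel_right]
    have h3 : x * x = 1 := by
      rw [mul_eq_one_iff_eq_inv]
      exact h2.symm.trans h1.2
    by_contra hne
    have hdvd := Subgroup.orderOf_dvd_natCard _ (hAD hx.1)
    rw [orderOf_eq_two_of_mul_self h3 hne, ← even_iff_two_dvd] at hdvd
    exact (Nat.not_even_iff_odd.mpr hodd) hdvd
  have hFcard : Nat.card F = Nat.card Dt := by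
    have h1 := hcardD F inf_le_left hAF fun d hd => by
      obtain ⟨j, hj, k, hk, hku, e⟩ := hdec d hd
      exact ⟨j, hj, k, ⟨hk, mem_centralizer_singleton_iff.mpr hku⟩, e⟩
    rw [hcardD Dt inf_le_left hAt hDtdec] at h1
    exact (Nat.eq_of_mul_eq_mul_left Nat.card_pos h1).symm
  -- the Galois theory of the field of involutions
  have hDE : pair S a b ≤ normalizer (E : Set G) := pair_le_normalizer_invGen a b
  have hmemE : ∀ e, e ∈ E ↔ e = 1 ∨ e ∈ invAt S a := fun e =>
    ⟨eq_or_inv_of_mem_invGen hc, fun he => he.elim (fun e1 => e1 ▸ one_mem E)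
      fun he => subset_closure he⟩
  have hEc : ∀ x y : E, x * y = y * x := by
    rintro ⟨x, hx⟩ ⟨y, hy⟩
    rcases (hmemE x).mp hx with rfl | ⟨hx1, hx2, hxa⟩
    · exact Subtype.ext (by simp)
    rcases (hmemE y).mp hy with rfl | ⟨hy1, hy2, hya⟩
    · exact Subtype.ext (by simp)
    exact Subtype.ext (hc x hx1 y hy1 hx2 hy2 hxa hya).eq
  letI : CommGroup E := { (inferInstance : Group E) with mul_comm := hEc }
  letI : CommGroup A := haveI := hAcyc; IsCyclic.commGroup
  obtain ⟨α, hα⟩ := exists_conjEnd (hAD.trans hDE)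
  obtain ⟨β, hβ⟩ := exists_conjEnd ((inf_le_left : Dt ≤ pair S a b).trans hDE)
  have hext : ∀ x y : Additive E, (x.toMul : G) = (y.toMul : G) → x = y := fun x y hxy =>
    Additive.toMul.injective (Subtype.ext hxy)
  set e₀ : Additive E := Additive.ofMul ⟨t, (hmemE t).mpr (Or.inr ⟨htS, ht2, hta⟩)⟩ with he₀
  have he₀ne : e₀ ≠ 0 := fun h0 => by
    have h1 : t = 1 := congrArg (fun e : Additive E => (e.toMul : G)) h0
    have h2 := ht2
    rw [h1, orderOf_one] at h2
    omega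
  have hreg : ∀ e : Additive E, e ≠ 0 → ∃ x : A, α x e₀ = e := by
    intro e he
    rcases (hmemE _).mp e.toMul.2 with h1 | ⟨h1, h2, h3⟩
    · exact absurd (hext e 0 h1) he
    obtain ⟨j, hj, hjt⟩ := hAtr t htS ht2 hta _ h1 h2 h3
    exact ⟨⟨j, hj⟩, hext _ _ ((hα _ _).trans hjt)⟩
  have hβ₀ : ∀ k : Dt, β k e₀ = e₀ := fun k => by
    refine hext _ _ ((hβ k e₀).trans ?_)
    show (k : G) * t * (k : G)⁻¹ = t
    rw [mem_centralizer_singleton_iff.mp k.2.2, mul_inv_cancel_right]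
  have hinj : Function.Injective β := by
    refine (injective_iff_map_eq_one β).mpr fun k hk => ?_
    have hmem : (k : G) ∈ pair S a b ⊓ centralizer (E : Set G) := by
      refine ⟨k.2.1, mem_centralizer_iff.mpr fun e he => ?_⟩
      have h1 := hβ k (Additive.ofMul ⟨e, he⟩)
      rw [hk] at h1
      exact mul_inv_eq_iff_eq_mul.mp h1.symm |>.symm
    rw [hE, hL, mem_bot] at hmem
    exact Subtype.ext hmem
  have hconj : ∀ (k : Dt) (x : A), ∃ x' : A, β k * α x = α x' * β k := by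
    intro k x
    have hmx : (k : G) * x * (k : G)⁻¹ ∈ A :=
      (Subgroup.mem_normalizer_iff.mp (hAn k.2.1) x).mp x.2
    refine ⟨⟨_, hmx⟩, DFunLike.ext _ _ fun e => hext _ _ ?_⟩
    refine (hβ k (α x e)).trans ?_
    refine Eq.trans ?_ (hα ⟨_, hmx⟩ (β k e)).symm
    refine (congrArg (fun y : G => (k : G) * y * (k : G)⁻¹) (hα x e)).trans ?_
    refine Eq.trans ?_ (congrArg (fun y : G =>
      (k : G) * x * (k : G)⁻¹ * y * ((k : G) * x * (k : G)⁻¹)⁻¹) (hβ k e)).symm
    group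
  obtain ⟨-, hfix⟩ := galois_data α he₀ne hreg β hinj hβ₀ hconj
  have hEcard : Nat.card (Additive E) = m + 1 := by
    rw [Nat.card_congr Additive.toMul, hm, invBar_eq_card_invAt h]
    have hins : (E : Set G) = insert 1 (invAt S a) := Set.ext hmemE
    have h1 : Nat.card E = (E : Set G).ncard := Nat.card_coe_set_eq (E : Set G)
    rw [h1, hins, Set.ncard_insert_of_notMem
      (fun h' => by have h'' := h'.2.1; rw [orderOf_one] at h''; omega) (Set.toFinite _),
      ← Nat.card_coe_set_eq]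
  have hzD : z ∈ Dt := ⟨hz, mem_centralizer_singleton_iff.mpr hcz.eq.symm⟩
  have htwo : ∀ U : Subgroup Dt, (⟨z, hzD⟩ : Dt) ∈ U →
      Nat.card {e : Additive E // ∀ k ∈ U, β k e = e} = 2 := by
    intro U hU
    rw [Nat.card_eq_two_iff]
    refine ⟨⟨0, fun k _ => map_zero _⟩, ⟨e₀, fun k _ => hβ₀ k⟩,
      fun e => he₀ne (congrArg Subtype.val e).symm, Set.eq_univ_of_forall fun e => ?_⟩
    rcases (hmemE _).mp e.1.toMul.2 with h1 | h1
    · exact Or.inl (Subtype.ext (hext _ 0 h1))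
    · refine Or.inr (Subtype.ext (hext _ _ (hzuniq _ h1 ?_)))
      have h2 : z * (e.1.toMul : G) * z⁻¹ = (e.1.toMul : G) :=
        (hβ ⟨z, hzD⟩ e.1).symm.trans
          (congrArg (fun x : Additive E => (x.toMul : G)) (e.2 _ hU))
      exact (mul_inv_eq_iff_eq_mul.mp h2).symm
  have hq : (2 : ℕ) ^ Nat.card Dt = m + 1 := by
    have h1 := hfix ⊤
    rw [htwo ⊤ (Subgroup.mem_top _), Subgroup.card_top, hEcard] at h1
    exact h1
  have hq' : (2 : ℕ) ^ orderOf z = m + 1 := by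
    have h1 := hfix (zpowers (⟨z, hzD⟩ : Dt))
    rw [htwo _ (mem_zpowers _), Nat.card_zpowers, Subgroup.orderOf_mk, hEcard] at h1
    exact h1
  have hFq : Nat.card F = orderOf z := by
    rw [hFcard]
    exact Nat.pow_right_injective le_rfl (hq.trans hq'.symm)
  have hcop : (Nat.card F).Coprime m := by
    rw [hFq, hzp.coprime_iff_not_dvd]
    intro hd
    have h1 := card_invCent_modEq (S := S) (a := a) (q := orderOf z)
      (mem_ptStab.mpr ⟨(mem_pair.mp hz).1, (mem_pair.mp hz).2.1⟩) rfl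
    rw [hbad, Nat.card_coe_set_eq {t}, Set.ncard_singleton, ← invBar_eq_card_invAt h] at h1
    exact hzp.ne_one (Nat.dvd_one.mp ((h1.dvd_iff dvd_rfl).mp hd))
  have hHyp : Hyp S C a b u :=
    ⟨h.se, h.rankTwo, h.faithful, h.mem_left, h.mem_right, h.ne, h.swap_mem, h.swap_inv, h.swap,
      hc, hL, hcop⟩
  have h2 : TwoCentral S a := by
    refine twoCentral_of_fieldPrime hHyp (hFq ▸ hzp) ?_
    intro d hd hdu hd1 s hs hs2 hsa hds s' hs' hs'2 hs'a hds'
    by_contra hne
    obtain ⟨-, hfixF⟩ := hHyp.pairCent_galois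
    have h1 := hfixF F le_rfl
    rw [hFq, ← hm, ← hq'] at h1
    have hcard2 : Nat.card {e : G // e ∈ invGen S a ∧ ∀ x ∈ F, Commute x e} = 2 :=
      Nat.pow_left_injective hzp.ne_zero h1
    have hdF : zpowers d = F := Subgroup.eq_of_le_of_card_ge
      (zpowers_le.mpr ⟨hd, mem_centralizer_singleton_iff.mpr hdu⟩) (le_of_eq (by
        rw [Nat.card_zpowers, hFq]
        refine ((Nat.dvd_prime hzp).mp ?_ |>.resolve_left fun e => hd1 (orderOf_eq_one_iff.mp e)).symm
        rw [← hFq]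
        exact Subgroup.orderOf_dvd_natCard F ⟨hd, mem_centralizer_singleton_iff.mpr hdu⟩))
    have hmem : ∀ e, e ∈ invAt S a → Commute d e → ∀ x ∈ F, Commute x e := fun e _ hde x hx =>
      (commute_of_mem_zpowers hde.symm (hdF ▸ hx : x ∈ zpowers d)).symm
    obtain ⟨x, y, -, hxy⟩ := Nat.card_eq_two_iff.mp hcard2
    have hin : ∀ w : {e : G // e ∈ invGen S a ∧ ∀ x ∈ F, Commute x e}, w = x ∨ w = y := fun w => by
      have h3 : w ∈ ({x, y} : Set _) := hxy ▸ Set.mem_univ w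
      exact h3
    have hone : (1 : G) ∈ invGen S a ∧ ∀ x ∈ F, Commute x (1 : G) :=
      ⟨one_mem _, fun x _ => Commute.one_right x⟩
    have hs1 : s ≠ 1 := fun e => by rw [e, orderOf_one] at hs2; omega
    have hs1' : s' ≠ 1 := fun e => by rw [e, orderOf_one] at hs'2; omega
    rcases hin ⟨1, hone⟩ with e1 | e1 <;>
      rcases hin ⟨s, subset_closure ⟨hs, hs2, hsa⟩, hmem s ⟨hs, hs2, hsa⟩ hds⟩ with e2 | e2 <;>
      rcases hin ⟨s', subset_closure ⟨hs', hs'2, hs'a⟩, hmem s' ⟨hs', hs'2, hs'a⟩ hds'⟩ with e3 | e3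
    all_goals first
      | exact hs1 (congrArg Subtype.val (e2.trans e1.symm))
      | exact hs1' (congrArg Subtype.val (e3.trans e1.symm))
      | exact hne (congrArg Subtype.val (e2.trans e3.symm))
  obtain ⟨-, hcov⟩ := cover_base hHyp h2
  refine hasComplement_of_regular h hc hcore (inf_le_left : centInv S a ≤ ptStab S a) centInv_normal
    (fun g hg hgb => ?_) (fun x hx hxa => ?_) (invAt_subset_centInv hc)
  · have h3 : g ∈ pair S a b ⊓ centralizer (invGen S a : Set G) :=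
      ⟨mem_pair.mpr ⟨(mem_ptStab.mp hg.1).1, (mem_ptStab.mp hg.1).2, hgb⟩, hg.2⟩
    rwa [hL, mem_bot] at h3
  · obtain ⟨g, hgS, hga, hgb⟩ := h.twoTrans a h.mem_left b h.mem_right x hx (Ne.symm h.ne) hxa
    obtain ⟨k, hk, d, hd, rfl⟩ := hcov g (mem_ptStab.mpr ⟨hgS, hga⟩)
    exact ⟨k, hk, by rw [← hgb, mul_smul, (mem_pair.mp hd).2.2]⟩

/-- CASE COM. -/
theorem exists_complement_of_commAt (h : Setting S C a b u) (hc : CommAt S a)
    (hcore : CoreFree S a) :
    ∃ Q : Subgroup G, Q ≤ ptStab S a ∧ ptStab S a ≤ normalizer (Q : Set G) ∧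
      Q ⊓ pair S a b = ⊥ ∧ (∀ x ∈ C, x ≠ a → ∃ g ∈ Q, g • b = x) ∧ invAt S a ⊆ Q ∧
      IsPGroup 2 Q ∧ (Nat.card Q).Coprime (Nat.card (pair S a b)) := by
  by_cases hL : pair S a b ⊓ centralizer (invGen S a : Set G) = ⊥
  swap
  · exact hasComplement_of_kernel h hc hcore hL
  by_cases hbad : ∃ z ∈ pair S a b, (orderOf z).Prime ∧ IsBad S a (zpowers z)
  · obtain ⟨z, hz, hzp, hzb⟩ := hbad
    exact hasComplement_of_bad h hc hcore hL hz hzp hzb
  push Not at hbad
  refine hasComplement_of_mild h hc hcore le_rfl Subgroup.le_normalizer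
    (fun t ht => mem_ptStab.mpr ⟨ht.1, ht.2.2⟩) ?_
    (fun y hy hyp => hbad y (base_le_pair le_rfl hy) hyp)
    (fun _ _ T hT g hg => (hT.le hg).1)
  rintro x ⟨hx, hxa⟩
  obtain ⟨g, hgS, hga, hgb⟩ := h.twoTrans a h.mem_left b h.mem_right x hx (Ne.symm h.ne)
    fun e => hxa (Set.mem_singleton_iff.mpr e)
  exact ⟨g, mem_ptStab.mpr ⟨hgS, hga⟩, hgb⟩

end Cfsg.Agent.Bridge
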