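import Cfsg.Agent.Bridge.Transfer

/-!
When every prime power element of the base is mild, the transitive group has a regular normal
complement; with a fixed point free element of prime order and a trivial odd core it is a
`2`-group.
-/

set_option autoImplicit false
set_option linter.style.haveILetI false
set_option linter.unusedSectionVars false

namespace Cfsg.Agent.Bridge

open Subgroup MulAction
open Cfsg.Agent.H29.Bender

variable {G : Type*} [Group G] {Ω : Type*} [MulAction G Ω] [Finite G] [Finite Ω]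
variable {M : Subgroup G} {Y : Set Ω} {b : Ω}

theorem MTrans.ncard_eq_relIndex (hM : MTrans M Y b) : (base M b).relIndex M = Y.ncard := by
  letI : MulAction M Y :=
    { smul := fun g c => ⟨(g : G) • c.1, hM.smul_mem _ g.2 c.1 c.2⟩
      one_smul := fun c => Subtype.ext (one_smul G c.1)
      mul_smul := fun g h c => Subtype.ext (mul_smul (g : G) (h : G) c.1) }
  have hKs : (base M b).subgroupOf M = stabilizer M (⟨b, hM.mem⟩ : Y) := by
    ext g
    rw [mem_subgroupOf, mem_base, MulAction.mem_stabilizer_iff]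
    exact ⟨fun h => Subtype.ext h.2, fun h => ⟨g.2, congrArg Subtype.val h⟩⟩
  rw [← Nat.card_coe_set_eq Y, relIndex, hKs, Subgroup.index_eq_card,
    ← Nat.card_congr (orbitEquivQuotientStabilizer M (⟨b, hM.mem⟩ : Y))]
  refine Nat.card_congr ⟨fun c => c.1, fun c => ⟨c, ?_⟩, fun _ => rfl, fun _ => rfl⟩
  obtain ⟨g, hg, hgc⟩ := hM.trans c.1 c.2
  exact ⟨⟨g, hg⟩, Subtype.ext hgc⟩

/-- A regular complement of the base. -/
structure RegComplement (M : Subgroup G) (Y : Set Ω) (b : Ω) (Q : Subgroup G) : Prop where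
  le : Q ≤ M
  mem_iff : ∀ g, g ∈ Q ↔ g ∈ M ∧ (orderOf g).Coprime (Nat.card (base M b))
  normal : normalizer (M : Set G) ≤ normalizer (Q : Set G)
  trans : ∀ c ∈ Y, ∀ d ∈ Y, ∃ g ∈ Q, g • c = d
  free : ∀ g ∈ Q, ∀ c ∈ Y, g • c = c → g = 1
  two_mem : ∀ g ∈ M, (∃ n, orderOf g = 2 ^ n) → g ∈ Q
  mul_base : ∀ g ∈ M, ∃ q ∈ Q, ∃ d ∈ base M b, g = q * d

/-- The complement given by the transfer. -/
theorem exists_regComplement (hM : MTrans M Y b) (hodd : Odd (Nat.card (base M b)))
    (hsolv : Group.IsSolvable (base M b))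
    (hmild : ∀ x ∈ base M b, IsPrimePow (orderOf x) → Mild M Y b x) :
    ∃ Q, RegComplement M Y b Q := by
  classical
  set D := base M b with hD
  have hrel := hM.ncard_eq_relIndex
  have hcop : (Nat.card D).Coprime (D.relIndex M) := by
    rw [hrel, Nat.coprime_iff_gcd_eq_one]
    by_contra hne
    obtain ⟨p, hp, hpd⟩ := Nat.exists_prime_and_dvd hne
    haveI : Fact p.Prime := ⟨hp⟩
    obtain ⟨x, hx⟩ := exists_prime_orderOf_dvd_card' p (hpd.trans (Nat.gcd_dvd_left _ _))
    rw [← Subgroup.orderOf_coe] at hx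
    have hp2 : p ≠ 2 := by
      rintro rfl
      exact (Nat.not_even_iff_odd.mpr hodd) (even_iff_two_dvd.mpr (hpd.trans (Nat.gcd_dvd_left _ _)))
    refine (hmild x x.2 (hx ▸ hp.isPrimePow)).not_dvd hM x.2 ?_ ⟨1, by rw [hx, pow_one]⟩ hp2
      (hpd.trans (Nat.gcd_dvd_right _ _))
    intro h1
    rw [h1, orderOf_one] at hx
    exact hp.ne_one hx.symm
  have hfus : H72.RigidFusion M D := by
    intro x hx hpp g hg hgx
    have hfix : x • g⁻¹ • b = g⁻¹ • b := by
      have h1 := (mem_base.mp hgx).2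
      rwa [mul_smul, mul_smul, ← eq_inv_smul_iff] at h1
    have hx1 : x ≠ 1 := fun h1 => by
      rw [h1, orderOf_one] at hpp
      exact not_isPrimePow_one hpp
    obtain ⟨t, ht, ⟨n, hn⟩, htx, htb⟩ :=
      ((hmild x hx hpp).exists_two_mover hM hx (mem_zpowers x) hx1).1 (g⁻¹ • b)
        ⟨hM.smul_mem _ (inv_mem hg) b hM.mem, hfix⟩
    refine ⟨g * t, mem_base.mpr ⟨mul_mem hg ht, by rw [mul_smul, htb, smul_inv_smul]⟩, t⁻¹,
      inv_mem ht, htx.inv_left, ?_, by rw [mul_inv_cancel_right]⟩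
    rw [orderOf_inv, hn]
    exact ((Nat.prime_two.coprime_iff_not_dvd).mpr fun h2 =>
      (Nat.not_even_iff_odd.mpr hodd) (even_iff_two_dvd.mpr h2)).pow_left n
  haveI := hsolv
  obtain ⟨Q, hQ, -, hQD, hcard, hmem⟩ :=
    H72.exists_normal_complement_of_rigidFusion M D inf_le_left hcop hfus
  have hnorm : normalizer (M : Set G) ≤ normalizer (Q : Set G) := by
    intro h hh
    refine Subgroup.mem_normalizer_iff.mpr fun g => ?_
    rw [hmem, hmem, show orderOf (h * g * h⁻¹) = orderOf g from (MulAut.conj h).orderOf_eq g]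
    exact and_congr_left' (Subgroup.mem_normalizer_iff.mp hh g)
  have hfree : ∀ g ∈ Q, ∀ c ∈ Y, g • c = c → g = 1 := by
    intro g hg c hc hgc
    obtain ⟨m, hm, rfl⟩ := hM.trans c hc
    have hg' : m⁻¹ * g * m ∈ Q := by
      have hn := hnorm (inv_mem (Subgroup.le_normalizer hm))
      simpa using (Subgroup.mem_normalizer_iff.mp hn g).mp hg
    have h1 : m⁻¹ * g * m ∈ Q ⊓ D := ⟨hg', mem_base.mpr ⟨hQ hg', by
      rw [mul_smul, mul_smul, hgc, inv_smul_smul]⟩⟩
    rw [hQD, Subgroup.mem_bot] at h1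
    calc g = m * (m⁻¹ * g * m) * m⁻¹ := by group
      _ = 1 := by rw [h1]; group
  have hcardQ : Nat.card Q = Y.ncard := by
    refine Nat.eq_of_mul_eq_mul_right (Nat.card_pos (α := D)) ?_
    rw [hcard, ← hrel, mul_comm (D.relIndex M), ← Subgroup.relIndex_bot_left (H := D),
      ← Subgroup.relIndex_bot_left (H := M),
      Subgroup.relIndex_mul_relIndex ⊥ D M bot_le inf_le_left]
  have htransb : ∀ c ∈ Y, ∃ g ∈ Q, g • b = c := by
    let f : Q → Y := fun g => ⟨(g : G) • b, hM.smul_mem _ (hQ g.2) b hM.mem⟩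
    have hinj : Function.Injective f := by
      intro g g' hgg
      have h1 : ((g' : G)⁻¹ * (g : G)) • b = b := by
        rw [mul_smul, inv_smul_eq_iff]
        exact congrArg Subtype.val hgg
      have h2 := hfree _ (mul_mem (inv_mem g'.2) g.2) b hM.mem h1
      exact Subtype.ext (inv_mul_eq_one.mp h2).symm
    have hbij := hinj.bijective_of_nat_card_le (by rw [hcardQ, Nat.card_coe_set_eq])
    intro c hc
    obtain ⟨g, hg⟩ := hbij.2 ⟨c, hc⟩
    exact ⟨g, g.2, congrArg Subtype.val hg⟩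
  refine ⟨Q, hQ, hmem, hnorm, fun c hc d hd => ?_, hfree, fun g hg ⟨n, hn⟩ => ?_, fun g hg => ?_⟩
  · obtain ⟨g, hg, rfl⟩ := htransb c hc
    obtain ⟨g', hg', rfl⟩ := htransb d hd
    exact ⟨g' * g⁻¹, mul_mem hg' (inv_mem hg), by rw [mul_smul, inv_smul_smul]⟩
  · refine (hmem g).mpr ⟨hg, ?_⟩
    rw [hn]
    exact ((Nat.prime_two.coprime_iff_not_dvd).mpr fun h2 =>
      (Nat.not_even_iff_odd.mpr hodd) (even_iff_two_dvd.mpr h2)).pow_left n
  · obtain ⟨t, ht, htb⟩ := htransb (g • b) (hM.smul_mem g hg b hM.mem)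
    exact ⟨t, ht, t⁻¹ * g, mem_base.mpr ⟨mul_mem (inv_mem (hQ ht)) hg,
      by rw [mul_smul, ← htb, inv_smul_smul]⟩, by group⟩

/-- A regular group with a fixed point free element of prime order, in a group without non-trivial
odd normal subgroups, is a `2`-group. -/
theorem isPGroup_two_of_fpf {H Q : Subgroup G} (hQH : Q ≤ H)
    (hn : H ≤ normalizer (Q : Set G)) (hcore : ∀ W : Subgroup G, W ≤ H → Odd (Nat.card W) →
      H ≤ normalizer (W : Set G) → W = ⊥)
    (hfree : ∀ g ∈ Q, g • b = b → g = 1) (hY : ∀ g ∈ Q, g • b ∈ Y) {x : G}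
    (hx : x ∈ H) (hxp : (orderOf x).Prime) (hxfix : ∀ c ∈ Y, x • c = c → c = b)
    (hxb : x • b = b) : IsPGroup 2 Q := by
  classical
  have hD : Q ⊓ centralizer ((zpowers x : Subgroup G) : Set G) = ⊥ := by
    refine (Subgroup.eq_bot_iff_forall _).mpr fun g hg => hfree g hg.1 ?_
    refine hxfix _ (hY g hg.1) ?_
    rw [← mul_smul, mem_centralizer_iff.mp hg.2 x (mem_zpowers x), mul_smul, hxb]
  haveI : Group.IsNilpotent Q :=
    H51.Flavell.isNilpotent_of_fpf hxp (Nat.card_zpowers x) (zpowers_le.mpr (hn hx)) hD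
  have key : ∀ p : ℕ, p.Prime → p ∣ Nat.card Q → p = 2 := by
    intro p hp hpd
    by_contra hp2
    haveI : Fact p.Prime := ⟨hp⟩
    let P : Sylow p Q := default
    haveI hPn : (P : Subgroup Q).Normal :=
      P.normal_of_normalizerCondition Group.normalizerCondition_of_isNilpotent
    haveI : (P : Subgroup Q).Characteristic := P.characteristic_of_normal hPn
    have hbot : (P : Subgroup Q).map Q.subtype = ⊥ := by
      refine hcore _ ((Subgroup.map_subtype_le _).trans hQH) ?_
        (hn.trans (H51.Flavell.normalizer_map_char _))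
      rw [Subgroup.card_map_of_injective Q.subtype_injective, P.card_eq_multiplicity]
      exact (hp.odd_of_ne_two hp2).pow
    have h1 := Subgroup.card_eq_one.mpr ((Subgroup.map_eq_bot_iff_of_injective _
      Q.subtype_injective).mp hbot)
    rw [P.card_eq_multiplicity] at h1
    rcases Nat.pow_eq_one.mp h1 with h2 | h2
    · exact hp.ne_one h2
    · have := hp.factorization_pos_of_dvd Nat.card_pos.ne' hpd
      omega
  exact IsPGroup.of_card (Nat.eq_prime_pow_of_unique_prime_dvd Nat.card_pos.ne' fun {d} hd hdd =>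
    key d hd hdd)

end Cfsg.Agent.Bridge
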