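import Cfsg.Agent.Bridge.Induction
import Cfsg.Agent.H62.Bender.LambdaClose
import Cfsg.Agent.H62.Bender.Lambda.Normal
import Cfsg.Agent.H35.Bender.H1Descent
import Cfsg.Agent.H76.PostBender.Main
import Cfsg.Agent.H48.RankOne.Rows
import Cfsg.Agent.S1136
import Cfsg.Agent.H73.Bender.Transfer

/-!
Bender's theorem for simple groups from the bridge: the odd core theorem makes point stabilisers
core free, the bridge gives the regular normal subgroup, and the rank-one classification the list.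
-/

set_option autoImplicit false
set_option linter.style.haveILetI false

namespace Cfsg.Agent.Bridge

open Subgroup MulAction
open Cfsg.Agent.H39
open Cfsg.Agent.H73.Bender

universe u

/-- Point stabilisers of faithful rank-two actions are core free. -/
theorem coreFreeAll : CoreFreeAll.{u} := by
  refine coreFreeAll_of_coreAt fun G _ _ Ω _ _ S C =>
    H62.Bender.coreAt_all ?_ _ G Ω S C rfl
  intro G' _ _ Ω' _ _ S' C' hall hS h2 hF hG _ _ c hc R hR hRodd hRn hR1 hRab hmin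
  exact H35.Bender.twoCentral_of_lambda
    (H62.Bender.lambdaThm_of_normalSub H62.Bender.Lambda.normalSub)
    hall hS h2 hF hG (fun T D _ hlt => hall G' Ω' T D hlt) hc hR hRodd hRn hR1 hRab
    (fun R' h1 h3 h4 => hmin R' h1 h4 h3)

variable {G : Type u} [Group G] [Finite G]

/-- A simple group with a strongly embedded subgroup has the regular normal subgroup. -/
theorem exists_regular_normal (hnc : NonCommStep.{u}) [IsSimpleGroup G] {H : Subgroup G}
    (hH : Cfsg.IsStronglyEmbedded H) :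
    ∃ Q : Subgroup G, Q ≤ H ∧ (Q.subgroupOf H).Normal ∧
      (∀ g₁ g₂ : G, g₁ ∉ H → g₂ ∉ H → ∃ u ∈ Q, g₂⁻¹ * (u * g₁) ∈ H) ∧
      (∀ g : G, g ∉ H → ∀ u ∈ Q, g⁻¹ * (u * g) ∈ H → u = 1) := by
  set a : G ⧸ H := ((1 : G) : G ⧸ H) with ha
  have hr : RankTwo (⊤ : Subgroup G) := by
    obtain ⟨x, y, hx, hy, hxy, hxx, hyy, hc⟩ := H48.RankOne.exists_two_commuting hH.1 hH.2.1
    exact rankTwo_top_iff.mpr
      ⟨x, y, orderOf_eq_two_of_mul_self hxx hx, orderOf_eq_two_of_mul_self hyy hy, hxy, hc⟩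
  have hF : Faithful (⊤ : Subgroup G) (Set.univ : Set (G ⧸ H)) := by
    show kernel _ _ = ⊥
    rw [kernel_top]
    exact (Subgroup.normalCore_normal H).eq_bot_or_eq_top.resolve_right fun h =>
      hH.1 (top_unique (h ▸ H.normalCore_le))
  obtain ⟨Q, hQ⟩ := exists_regularTwo coreFreeAll hnc (se_top hH) hr hF (a := a) (Set.mem_univ _)
  have hN : ∀ g : G, g ∈ ptStab (⊤ : Subgroup G) a ↔ g ∈ H := fun g => by
    rw [mem_ptStab]
    exact ⟨fun h => by
      have h2 := h.2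
      rw [ha, MulAction.Quotient.smul_coe, smul_eq_mul, mul_one, QuotientGroup.eq] at h2
      simpa using h2, fun h => ⟨mem_top g, by
      rw [ha, MulAction.Quotient.smul_coe, smul_eq_mul, mul_one, QuotientGroup.eq]
      simpa using h⟩⟩
  have hne : ∀ g : G, g ∉ H → (g : G ⧸ H) ≠ a := fun g hg e => hg (by
    rw [ha, QuotientGroup.eq] at e
    simpa using e)
  refine ⟨Q, fun g hg => (hN g).mp (hQ.le hg), ⟨fun n hn g => ?_⟩, fun g₁ g₂ h1 h2 => ?_,
    fun g hg x hx hxg => ?_⟩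
  · rw [mem_subgroupOf] at hn ⊢
    exact (Subgroup.mem_normalizer_iff.mp (hQ.normal ((hN g).mpr g.2)) _).mp hn
  · obtain ⟨x, hx, hx'⟩ := hQ.trans _ (Set.mem_univ _) (hne g₁ h1) _ (Set.mem_univ _) (hne g₂ h2)
    refine ⟨x, hx, ?_⟩
    rw [MulAction.Quotient.smul_coe, smul_eq_mul, eq_comm, QuotientGroup.eq] at hx'
    exact hx'
  · refine hQ.free x hx _ (Set.mem_univ _) (hne g hg) ?_
    rw [MulAction.Quotient.smul_coe, smul_eq_mul, eq_comm, QuotientGroup.eq]
    exact hxg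

/-- Bender's theorem for simple groups. -/
theorem benderHyp (hnc : NonCommStep.{u}) : H76.PostBender.BenderHyp.{u} := by
  intro G _ _ _ _ H hH
  obtain ⟨Q, hQH, hQn, htr, hreg⟩ := exists_regular_normal hnc hH
  obtain ⟨hf, t, hS⟩ := H48.RankOne.strongly_embedded_setup hH hQH hQn htr hreg
  obtain ⟨L, hn, hi, hL⟩ := S1136.result hS (H48.RankOne.exists_two_commuting hH.1 hH.2.1)
  have hev : Even (Nat.card G) := even_iff_two_dvd.2
    ((even_iff_two_dvd.1 hS.even_card).trans (Subgroup.card_subgroup_dvd_card Q))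
  obtain rfl := H48.RankOne.eq_top_of_normal_odd_index hev hn hi
  have e : (⊤ : Subgroup G) ≃* G := Subgroup.topEquiv
  rcases hL with ⟨F, i1, i2, ⟨n, hn2, hF⟩, ⟨f⟩⟩ | ⟨F, i1, i2, m, hm, hF, ⟨f⟩⟩ |
      ⟨F, i1, i2, n, hn2, hF, ⟨f⟩⟩
  · haveI : Fact (Nat.Prime 2) := ⟨Nat.prime_two⟩
    refine Or.inl ⟨F, i1, i2, charP_of_card_eq_prime_pow hF, ?_, ⟨e.symm.trans f⟩⟩
    rw [hF]
    exact le_trans (by norm_num) (Nat.pow_le_pow_right (by norm_num) hn2)
  · exact Or.inr (Or.inl ⟨F, i1, i2, m, hm, hF, ⟨e.symm.trans f⟩⟩)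
  · refine Or.inr (Or.inr ⟨F, i1, i2, 2 ^ n, hF, Nat.even_pow.2 ⟨even_two, by omega⟩, ?_,
      ⟨e.symm.trans f⟩⟩)
    exact le_trans (by norm_num) (Nat.pow_le_pow_right (by norm_num) hn2)

end Cfsg.Agent.Bridge
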