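import Cfsg.Agent.Bridge.Setting
import Cfsg.Agent.H53.SE.FixInv
import Mathlib.GroupTheory.PGroup
import Mathlib.GroupTheory.Sylow

/-!
LINE: the fixed points of a `q`-group centralised by two involutions at a point form a smaller
configuration, whose regular `2`-subgroup lifts to the centraliser of the group.
-/

set_option autoImplicit false
set_option linter.style.haveILetI false

namespace Cfsg.Agent.Bridge

open Subgroup MulAction
open Cfsg.Agent.H39
open Cfsg.Agent.H73.Bender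
open Cfsg.Agent.Cores.SE

universe u v

section General

variable {G : Type u} [Group G] {Ω : Type v} [MulAction G Ω]

/-- A `2`-element lying in an odd subgroup is trivial. -/
theorem eq_one_of_two_odd [Finite G] {g : G} {M : Subgroup G} (hM : Odd (Nat.card M)) (hgM : g ∈ M)
    (hg : IsPGroup 2 (zpowers g)) : g = 1 := by
  obtain ⟨k, hk⟩ := hg ⟨g, mem_zpowers g⟩
  have h1 : g ^ 2 ^ k = 1 := congrArg Subtype.val hk
  have h2 : orderOf g ∣ Nat.card M := by
    rw [← Subgroup.orderOf_mk g hgM]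
    exact orderOf_dvd_natCard _
  exact orderOf_eq_one_iff.mp
    (Nat.eq_one_of_dvd_coprimes ((hM.coprime_two_left).pow_left k).symm h2
      (orderOf_dvd_of_pow_eq_one h1))

/-- In a group `M` fixing `a` a normal `2`-subgroup transitive on the other points contains every
`2`-element, as the pair stabilisers are odd. -/
theorem mem_of_regular [Finite G] {S M T : Subgroup G} {a b : Ω}
    (hodd : Odd (Nat.card (pair S a b))) (hM : M ≤ ptStab S a) (hTM : T ≤ M)
    (hn : M ≤ normalizer (T : Set G)) (hT : IsPGroup 2 T) {g : G} (hgM : g ∈ M)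
    (hg : IsPGroup 2 (zpowers g)) (htr : ∃ w ∈ T, w • b = g • b) : g ∈ T := by
  obtain ⟨w, hw, hwb⟩ := htr
  have hP : IsPGroup 2 (T ⊔ zpowers g : Subgroup G) :=
    hT.to_sup_of_normal_left' hg ((zpowers_le.mpr hgM).trans hn)
  have hwg : w⁻¹ * g ∈ T ⊔ zpowers g :=
    mul_mem (mem_sup_left (inv_mem hw)) (mem_sup_right (mem_zpowers g))
  have hle : T ⊔ zpowers g ≤ M := sup_le hTM (zpowers_le.mpr hgM)
  obtain ⟨hS, ha⟩ := mem_ptStab.mp (hM (hle hwg))
  have hpair : w⁻¹ * g ∈ pair S a b :=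
    mem_pair.mpr ⟨hS, ha, by rw [mul_smul, ← hwb, inv_smul_smul]⟩
  have h1 := eq_one_of_two_odd hodd hpair (hP.to_le (zpowers_le.mpr hwg))
  rwa [inv_mul_eq_one.mp h1] at hw

end General

variable {G : Type u} [Group G] {Ω : Type u} [MulAction G Ω]
  {S : Subgroup G} {C : Set Ω} {a b : Ω} {u : G}

/-- The centraliser of `X` in `S`. -/
def centGroup (S X : Subgroup G) : Subgroup G := S ⊓ centralizer (X : Set G)

theorem mem_centGroup {X : Subgroup G} {g : G} :
    g ∈ centGroup S X ↔ g ∈ S ∧ ∀ x ∈ X, Commute x g := Iff.rfl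

/-- The group generated by the involutions centralising `X`. -/
def lineInv (S X : Subgroup G) : Subgroup G :=
  closure {t | t ∈ centGroup S X ∧ orderOf t = 2}

theorem lineInv_le (S X : Subgroup G) : lineInv S X ≤ centGroup S X :=
  (closure_le _).mpr fun _ ht => ht.1

theorem mem_lineInv {X : Subgroup G} {t : G} (ht : t ∈ S) (ht2 : orderOf t = 2)
    (htX : ∀ x ∈ X, Commute t x) : t ∈ lineInv S X :=
  subset_closure ⟨mem_centGroup.mpr ⟨ht, fun x hx => (htX x hx).symm⟩, ht2⟩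

variable [Finite G] [Finite Ω]

/-- A `q`-group fixing the pair and centralised by an involution at `a` is centralised by an
involution at each of its fixed points. -/
theorem exists_invCent_at (h : Setting S C a b u) {q : ℕ} [Fact q.Prime] {X : Subgroup G}
    (hXle : X ≤ pair S a b) (hXq : IsPGroup q X) (hne : (invCent S a X).Nonempty) {f : Ω}
    (hf : f ∈ fixedIn C X) : (invCent S f X).Nonempty := by
  obtain ⟨t, ⟨ht, ht2, hta⟩, htX⟩ := hne
  have hXS : X ≤ S := fun x hx => (mem_pair.mp (hXle hx)).1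
  have hXa : ∀ x ∈ X, x • a = a := fun x hx => (mem_pair.mp (hXle hx)).2.1
  have hXb : ∀ x ∈ X, x • b = b := fun x hx => (mem_pair.mp (hXle hx)).2.2
  by_cases hdvd : q ∣ invBar S C a
  · have htb : t • b ∈ fixedIn C X := ⟨h.se.smul_mem ht h.mem_right, fun x hx => by
      rw [← mul_smul, ← (htX x hx).eq, mul_smul, hXb x hx]⟩
    obtain ⟨i, hi, hi2, hif, hiX⟩ := H53.SE.exists_inv_fixed h.se h.faithful h.good h.mem_left hdvd
      X hXS hXq ⟨a, ⟨h.mem_left, hXa⟩, b, ⟨h.mem_right, hXb⟩, t • b, htb, h.ne,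
        fun e => h.ne (MulAction.injective t (e.trans hta.symm)).symm,
        fun e => h.ne (h.se.fix_unique ht ht2 h.mem_left h.mem_right hta e)⟩ f hf
    exact ⟨i, ⟨hi, hi2, hif⟩, hiX⟩
  · let J := {i : G // i ∈ S ∧ orderOf i = 2 ∧ i • f = f}
    have hact : ∀ p : X, ∀ i : J,
        (p : G) * i * (p : G)⁻¹ ∈ S ∧ orderOf ((p : G) * i * (p : G)⁻¹) = 2 ∧
          ((p : G) * i * (p : G)⁻¹) • f = f := by
      rintro ⟨p, hp⟩ ⟨i, hi, hi2, hif⟩
      refine ⟨conj_mem_of_mem (hXS hp) hi, by rw [orderOf_conj, hi2], ?_⟩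
      have h' := conj_smul_of_smul (g := p) hif
      rwa [hf.2 p hp] at h'
    letI : MulAction X J :=
      { smul := fun p i => ⟨(p : G) * i * (p : G)⁻¹, hact p i⟩
        one_smul := fun i => Subtype.ext
          (show ((1 : X) : G) * i * ((1 : X) : G)⁻¹ = i by simp)
        mul_smul := fun p p' i => Subtype.ext
          (show ((p * p' : X) : G) * i * ((p * p' : X) : G)⁻¹ =
            p * (p' * i * (p' : G)⁻¹) * (p : G)⁻¹ by simp [mul_assoc]) }
    obtain ⟨⟨i, hi, hi2, hif⟩, hfx⟩ := hXq.nonempty_fixed_point_of_prime_not_dvd_card J (by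
      rwa [h.se.card_inv_at_eq hf.1 h.mem_left, ← invBar_eq_card h.faithful])
    refine ⟨i, ⟨hi, hi2, hif⟩, fun x hx => ?_⟩
    have he : x * i * x⁻¹ = i := congrArg Subtype.val (hfx ⟨x, hx⟩)
    exact (show Commute x i from mul_inv_eq_iff_eq_mul.mp he).symm

section Line

variable (h : Setting S C a b u) {q : ℕ} [Fact q.Prime] {X : Subgroup G}
  (hXle : X ≤ pair S a b) (hXq : IsPGroup q X)
include h hXle hXq

/-- The points of the involutions centralising `X` are its fixed points. -/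
theorem points_lineInv (hne : (invCent S a X).Nonempty) :
    points (lineInv S X) C = fixedIn C X := by
  refine Set.Subset.antisymm ?_ fun f hf => ?_
  · rintro f ⟨hf, t, ht, ht2, htf⟩
    have ht' := mem_centGroup.mp (lineInv_le S X ht)
    exact ⟨hf, fun x hx => h.se.fix_of_commute (mem_pair.mp (hXle hx)).1 ht'.1 ht2 (ht'.2 x hx) hf htf⟩
  · obtain ⟨i, ⟨hi, hi2, hif⟩, hiX⟩ := exists_invCent_at h hXle hXq hne hf
    exact ⟨hf.1, i, mem_lineInv hi hi2 hiX, hi2, hif⟩

/-- The group generated by the involutions centralising `X` is strongly embedded on the fixed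
points of `X`. -/
theorem se_lineInv (hne : (invCent S a X).Nonempty) : SE (lineInv S X) (fixedIn C X) := by
  have hp := points_lineInv h hXle hXq hne
  rw [← hp]
  refine h.se.line (fun g hg => (lineInv_le S X hg).1) ?_ ?_ h.ne <;> rw [hp]
  · exact ⟨h.mem_left, fun x hx => (mem_pair.mp (hXle hx)).2.1⟩
  · exact ⟨h.mem_right, fun x hx => (mem_pair.mp (hXle hx)).2.2⟩

theorem good_lineInv : Good (lineInv S X) (fixedIn C X) :=
  h.good.subline (fun g hg => (lineInv_le S X hg).1) fun _ hx => hx.1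

/-- The line has rank two. -/
theorem rankTwo_lineInv (hg : IsGood S a X) : RankTwo (lineInv S X) := by
  classical
  obtain ⟨s, hs, t, ht, hst⟩ := hg
  have hse := se_lineInv h hXle hXq ⟨s, hs⟩
  have haC : a ∈ fixedIn C X := ⟨h.mem_left, fun x hx => (mem_pair.mp (hXle hx)).2.1⟩
  have hbC : b ∈ fixedIn C X := ⟨h.mem_right, fun x hx => (mem_pair.mp (hXle hx)).2.2⟩
  have hsL := mem_lineInv hs.1.1 hs.1.2.1 hs.2
  have htL := mem_lineInv ht.1.1 ht.1.2.1 ht.2
  have hne1 : invBar (lineInv S X) (fixedIn C X) a ≠ 1 := by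
    intro h1
    obtain ⟨hsub, -⟩ := Nat.card_eq_one_iff_unique.mp h1
    have heq : ((s : G) : G ⧸ kernel (lineInv S X) (fixedIn C X)) = (t : G) := congrArg Subtype.val
      (hsub.elim ⟨_, s, ⟨hsL, hs.1.2.1, hs.1.2.2⟩, rfl⟩ ⟨_, t, ⟨htL, ht.1.2.1, ht.1.2.2⟩, rfl⟩)
    have hk := (mem_kernel.mp (QuotientGroup.eq.mp heq)).2
    have hkS : s⁻¹ * t ∈ S := mul_mem (inv_mem hs.1.1) ht.1.1
    have hinv : s * (s⁻¹ * t) * s⁻¹ = (s⁻¹ * t)⁻¹ := by
      rw [mul_inv_cancel_left, mul_inv_rev, inv_inv, inv_eq_of_orderOf_eq_two ht.1.2.1,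
        inv_eq_of_orderOf_eq_two hs.1.2.1]
    have hall := h.good s hs.1.1 hs.1.2.1 _ hkS hinv a h.mem_left b h.mem_right h.ne hs.1.2.2
      (hk a haC) (hk b hbC)
    have : s⁻¹ * t ∈ kernel S C := mem_kernel.mpr ⟨hkS, hall⟩
    rw [h.faithful, mem_bot, inv_mul_eq_one] at this
    exact hst this
  obtain ⟨r, hr, hrd⟩ := Nat.exists_prime_and_dvd hne1
  haveI : Fact r.Prime := ⟨hr⟩
  exact rankTwo_of_dvd hse (good_lineInv h hXle hXq) haC hrd

/-- An element of the centraliser of `X` fixing its fixed points commutes with the group generated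
by the involutions centralising `X`. -/
theorem commute_kernel_lineInv (hne : (invCent S a X).Nonempty) {k g : G}
    (hk : k ∈ kernel (centGroup S X) (fixedIn C X)) (hg : g ∈ lineInv S X) : Commute g k := by
  have hp := points_lineInv h hXle hXq hne
  induction hg using Subgroup.closure_induction with
  | mem t ht =>
    obtain ⟨f, hf, htf⟩ := mem_points h.se (T := lineInv S X) (fun g hg => (lineInv_le S X hg).1)
      (subset_closure ht) ht.2
    have hfC : f ∈ fixedIn C X := hp ▸ hf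
    obtain ⟨e, he, hfe⟩ : ∃ e ∈ fixedIn C X, f ≠ e := by
      by_cases hfa : f = a
      · exact ⟨b, ⟨h.mem_right, fun x hx => (mem_pair.mp (hXle hx)).2.2⟩, hfa ▸ h.ne⟩
      · exact ⟨a, ⟨h.mem_left, fun x hx => (mem_pair.mp (hXle hx)).2.1⟩, hfa⟩
    have hKS : kernel (centGroup S X) (fixedIn C X) ≤ S := fun x hx => (mem_kernel.mp hx).1.1
    have htN : t ∈ normalizer (kernel (centGroup S X) (fixedIn C X) : Set G) := by
      have hstab : ∀ z ∈ fixedIn C X, t • z ∈ fixedIn C X := fun z hz =>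
        ⟨h.se.smul_mem ht.1.1 hz.1, fun x hx => by
          rw [← mul_smul, ((mem_centGroup.mp ht.1).2 x hx).eq, mul_smul, hz.2 x hx]⟩
      have key : ∀ x ∈ kernel (centGroup S X) (fixedIn C X),
          t * x * t⁻¹ ∈ kernel (centGroup S X) (fixedIn C X) := fun x hx => by
        obtain ⟨hx1, hx2⟩ := mem_kernel.mp hx
        refine mem_kernel.mpr ⟨conj_mem_of_mem ht.1 hx1, fun z hz => ?_⟩
        rw [inv_eq_of_orderOf_eq_two ht.2, mul_smul, mul_smul, hx2 _ (hstab z hz), ← mul_smul,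
          mul_self_of_orderOf_eq_two ht.2, one_smul]
      refine Subgroup.mem_normalizer_iff.mpr fun x => ⟨key x, fun hx => ?_⟩
      have e := key _ hx
      rwa [inv_eq_of_orderOf_eq_two ht.2,
        show t * (t * x * t) * t = (t * t) * x * (t * t) by group,
        mul_self_of_orderOf_eq_two ht.2, one_mul, mul_one] at e
    exact commute_of_fix_point h.faithful h.good hKS ht.1.1 ht.2 htN hfC.1 he.1 hfe htf
      (fun x hx => (mem_kernel.mp hx).2 f hfC) (fun x hx => (mem_kernel.mp hx).2 e he) hk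
  | one => exact Commute.one_left k
  | mul x y _ _ hx hy => exact hx.mul_left hy
  | inv x _ hx => exact hx.inv_left

end Line

omit [Finite Ω] in
/-- The centraliser of a non-trivial subgroup of a pair stabiliser is a proper subgroup. -/
theorem card_centGroup_lt (h : Setting S C a b u) {X : Subgroup G} (hXle : X ≤ pair S a b)
    (hX1 : X ≠ ⊥) : Nat.card (centGroup S X) < Nat.card S := by
  by_contra hle
  have heq : centGroup S X = S := Subgroup.eq_of_le_of_card_ge inf_le_left (not_lt.mp hle)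
  refine hX1 ((Subgroup.eq_bot_iff_forall X).mpr fun x hx => ?_)
  obtain ⟨hxS, hxa, -⟩ := mem_pair.mp (hXle hx)
  have hxk : x ∈ kernel S C := mem_kernel.mpr ⟨hxS, fun z hz => by
    obtain ⟨g, hg, rfl⟩ := h.se.trans h.mem_left hz
    rw [← mul_smul, ((mem_centGroup.mp (heq.symm ▸ hg)).2 x hx).eq, mul_smul, hxa]⟩
  rwa [h.faithful, mem_bot] at hxk

/-- LINE. -/
theorem exists_lineTwo (h : Setting S C a b u) {q : ℕ} [Fact q.Prime] {X : Subgroup G}
    (hXle : X ≤ pair S a b) (hXq : IsPGroup q X) (hX1 : X ≠ ⊥) (hg : IsGood S a X) :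
    ∃ T, LineTwo S C a X T := by
  haveI : Fact (Nat.Prime 2) := ⟨Nat.prime_two⟩
  set L := lineInv S X with hL
  set C₀ := fixedIn C X with hC₀
  have hne : (invCent S a X).Nonempty := hg.nonempty
  have haC : a ∈ C₀ := ⟨h.mem_left, fun x hx => (mem_pair.mp (hXle hx)).2.1⟩
  have hbC : b ∈ C₀ := ⟨h.mem_right, fun x hx => (mem_pair.mp (hXle hx)).2.2⟩
  have hse : SE L C₀ := se_lineInv h hXle hXq hne
  have hr : RankTwo L := rankTwo_lineInv h hXle hXq hg
  have hLS : L ≤ centGroup S X := lineInv_le S X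
  -- the regular subgroup of the image
  have hlt : Nat.card (Image hse) < Nat.card S := by
    have h1 : Nat.card (Image hse) ≤ Nat.card L :=
      Nat.le_of_dvd Nat.card_pos ⟨_, (card_image_mul hse).symm⟩
    exact (h1.trans (Subgroup.card_le_of_le hLS)).trans_lt (card_centGroup_lt h hXle hX1)
  obtain ⟨TL, hTL⟩ := h.below (Equiv.Perm C₀) C₀ (Image hse) Set.univ hlt (se_image hse)
    (rankTwo_image hse hr) (faithful_image hse) (fun c hc => h.coreBelow (Equiv.Perm C₀) C₀
      (Image hse) Set.univ hlt (se_image hse) (rankTwo_image hse hr) (faithful_image hse) c hc)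
    ⟨a, haC⟩ (Set.mem_univ _)
  set φ := cPerm hse with hφ
  -- its preimage and the Sylow `2`-subgroup of that
  set V : Subgroup L := TL.comap φ with hV
  have hker : ∀ k ∈ φ.ker, ∀ v : L, Commute v k := fun k hk v => by
    have hk' := mem_kernel.mp ((cPerm_eq_one_iff hse k).mp hk)
    exact Subtype.ext (commute_kernel_lineInv h hXle hXq hne (k := (k : G)) (g := (v : G))
      (mem_kernel.mpr ⟨hLS k.2, hk'.2⟩) v.2)
  let ψ : V →* TL := φ.subgroupComap TL
  obtain ⟨P⟩ : Nonempty (Sylow 2 V) := inferInstance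
  have hψker : ∀ x ∈ ψ.ker, ∀ v : V, Commute v x := fun x hx v =>
    Subtype.ext (hker x (congrArg Subtype.val hx) v).eq
  have hsup : (P : Subgroup V) ⊔ ψ.ker = ⊤ := by
    rw [← Subgroup.index_eq_one]
    obtain ⟨n, hn⟩ := IsPGroup.iff_card.mp (hTL.isPGroup.to_le le_rfl)
    have h1 : ((P : Subgroup V) ⊔ ψ.ker).index ∣ (P : Subgroup V).index :=
      Subgroup.index_dvd_of_le le_sup_left
    have h2 : ((P : Subgroup V) ⊔ ψ.ker).index ∣ 2 ^ n := by
      refine (Subgroup.index_dvd_of_le le_sup_right).trans ?_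
      rw [Subgroup.index_ker, ← hn]
      exact Subgroup.card_subgroup_dvd_card _
    exact Nat.eq_one_of_dvd_coprimes
      (((Nat.prime_two.coprime_iff_not_dvd).mpr P.not_dvd_index).pow_left n).symm h1 h2
  have hPn : (P : Subgroup V).Normal := by
    refine Subgroup.normalizer_eq_top_iff.mp (eq_top_iff.mpr (hsup ▸ sup_le le_normalizer ?_))
    intro x hx
    refine Subgroup.mem_normalizer_iff.mpr fun v => ?_
    rw [show x * v * x⁻¹ = v by rw [← (hψker x hx v).eq, mul_inv_cancel_right]]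
  haveI := Sylow.unique_of_normal P hPn
  set T : Subgroup G := ((P : Subgroup V).map V.subtype).map L.subtype with hT
  -- membership
  have hodd0 : Odd (Nat.card (pair (Image hse) (⟨a, haC⟩ : C₀) ⟨b, hbC⟩)) :=
    (se_image hse).odd_pair (Set.mem_univ _) (Set.mem_univ _) fun e => h.ne (congrArg Subtype.val e)
  have hmemT : ∀ g, g ∈ T ↔ g ∈ L ∧ g • a = a ∧ IsPGroup 2 (zpowers g) := by
    intro g
    constructor
    · intro hgT
      have hP2 : IsPGroup 2 T := (P.isPGroup'.map _).map _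
      obtain ⟨l, hl, rfl⟩ := hgT
      obtain ⟨v, hv, rfl⟩ := hl
      refine ⟨(v : L).2, ?_, hP2.to_le (zpowers_le.mpr ⟨(v : L), ⟨v, hv, rfl⟩, rfl⟩)⟩
      have h1 := (mem_ptStab.mp (hTL.le v.2)).2
      exact congrArg Subtype.val h1
    · rintro ⟨hgL, hga, hg2⟩
      obtain ⟨m, hm⟩ := hg2 ⟨g, mem_zpowers g⟩
      have hgpow : g ^ 2 ^ m = 1 := congrArg Subtype.val hm
      have hφpow : φ ⟨g, hgL⟩ ^ 2 ^ m = 1 := by
        rw [← map_pow, show (⟨g, hgL⟩ : L) ^ 2 ^ m = 1 from Subtype.ext hgpow, map_one]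
      have hφ2 : IsPGroup 2 (zpowers (φ ⟨g, hgL⟩)) := by
        obtain ⟨i, -, hi⟩ := (Nat.dvd_prime_pow Nat.prime_two).mp (orderOf_dvd_of_pow_eq_one hφpow)
        exact IsPGroup.of_card (n := i) (by rw [Nat.card_zpowers, hi])
      have hgV : (⟨g, hgL⟩ : L) ∈ V := by
        refine Subgroup.mem_comap.mpr (mem_of_regular hodd0 le_rfl hTL.le hTL.normal hTL.isPGroup
          (mem_ptStab.mpr ⟨⟨_, rfl⟩, Subtype.ext hga⟩) hφ2
          (hTL.trans _ (Set.mem_univ _) (fun e => h.ne (congrArg Subtype.val e).symm) _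
            (Set.mem_univ _) fun e => ?_))
        exact h.ne (MulAction.injective g (hga.trans (congrArg Subtype.val e).symm))
      have hv2 : IsPGroup 2 (zpowers (⟨⟨g, hgL⟩, hgV⟩ : V)) := by
        obtain ⟨i, -, hi⟩ := (Nat.dvd_prime_pow Nat.prime_two).mp (orderOf_dvd_of_pow_eq_one hgpow)
        refine IsPGroup.of_card (n := i) ?_
        rw [Nat.card_zpowers, ← Subgroup.orderOf_coe, ← Subgroup.orderOf_coe, hi]
      obtain ⟨Q, hQ⟩ := hv2.exists_le_sylow
      rw [Subsingleton.elim Q P] at hQ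
      exact ⟨_, ⟨_, hQ (mem_zpowers _), rfl⟩, rfl⟩
  have hTle : T ≤ ptStab S a ⊓ centralizer (X : Set G) := fun g hgT => by
    obtain ⟨hgL, hga, -⟩ := (hmemT g).mp hgT
    exact ⟨mem_ptStab.mpr ⟨(hLS hgL).1, hga⟩, (hLS hgL).2⟩
  have hT2 : IsPGroup 2 T := (P.isPGroup'.map _).map _
  have hconjL : ∀ g ∈ ptStab S a ⊓ normalizer (X : Set G), ∀ l ∈ L, g * l * g⁻¹ ∈ L := by
    rintro g ⟨hgS, hgX⟩ l hl
    have hle : L ≤ L.comap (MulAut.conj g).toMonoidHom := by
      refine (Subgroup.closure_le _).mpr fun t ht => ?_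
      refine subset_closure ⟨mem_centGroup.mpr ⟨conj_mem_of_mem (mem_ptStab.mp hgS).1 ht.1.1,
        fun x hx => ?_⟩, ?_⟩
      · have hx' := (Subgroup.mem_normalizer_iff''.mp hgX x).mp hx
        have hc := ((mem_centGroup.mp ht.1).2 _ hx').eq
        show x * (g * t * g⁻¹) = g * t * g⁻¹ * x
        calc x * (g * t * g⁻¹) = g * (g⁻¹ * x * g * t) * g⁻¹ := by group
          _ = g * (t * (g⁻¹ * x * g)) * g⁻¹ := by rw [hc]
          _ = g * t * g⁻¹ * x := by group
      · exact (MulAut.conj g).orderOf_eq t ▸ ht.2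
    exact hle hl
  have hTn : ptStab S a ⊓ normalizer (X : Set G) ≤ normalizer (T : Set G) := by
    have key : ∀ g ∈ ptStab S a ⊓ normalizer (X : Set G), ∀ x ∈ T, g * x * g⁻¹ ∈ T := by
      intro g hg x hx
      obtain ⟨hxL, hxa, hx2⟩ := (hmemT x).mp hx
      have hga := (mem_ptStab.mp hg.1).2
      refine (hmemT _).mpr ⟨hconjL g hg x hxL, ?_, ?_⟩
      · rw [mul_smul, mul_smul, inv_smul_eq_iff.mpr hga.symm, hxa, hga]
      · have he : zpowers (g * x * g⁻¹) = (zpowers x).map (MulAut.conj g).toMonoidHom := by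
          rw [MonoidHom.map_zpowers]; rfl
        rw [he]; exact hx2.map _
    intro g hg
    refine Subgroup.mem_normalizer_iff.mpr fun x => ⟨key g hg x, fun hx => ?_⟩
    simpa [mul_assoc] using key g⁻¹ (inv_mem hg) _ hx
  have htrans : ∀ x ∈ C₀, x ≠ a → ∀ y ∈ C₀, y ≠ a → ∃ g ∈ T, g • x = y := by
    intro x hx hxa y hy hya
    obtain ⟨w, hw, hwxy⟩ := hTL.trans ⟨x, hx⟩ (Set.mem_univ _)
      (fun e => hxa (congrArg Subtype.val e)) ⟨y, hy⟩ (Set.mem_univ _)
      (fun e => hya (congrArg Subtype.val e))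
    obtain ⟨⟨l, hl⟩, hlw⟩ := (mem_ptStab.mp (hTL.le hw)).1
    have hlV : (⟨l, hl⟩ : L) ∈ V := Subgroup.mem_comap.mpr (by rw [hφ, hlw]; exact hw)
    obtain ⟨p, hp, k, hk, hpk⟩ := Subgroup.mem_sup_of_normal_left.mp
      (hsup ▸ Subgroup.mem_top (⟨_, hlV⟩ : V))
    refine ⟨_, ⟨_, ⟨p, hp, rfl⟩, rfl⟩, ?_⟩
    have h1 : φ (p : L) = w := by
      have hk' : φ (k : L) = 1 := congrArg Subtype.val (show ψ k = 1 from hk)
      rw [← hlw, ← hφ, show (⟨l, hl⟩ : L) = (p : L) * (k : L) from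
        congrArg Subtype.val hpk.symm, map_mul, hk', mul_one]
    rw [← h1] at hwxy
    exact congrArg Subtype.val hwxy
  have hfree : ∀ g ∈ T, ∀ x ∈ C₀, x ≠ a → g • x = x → g = 1 := by
    intro g hg x hx hxa hgx
    obtain ⟨hgL, hga, hg2⟩ := (hmemT g).mp hg
    obtain ⟨⟨l, hl⟩, hlT, rfl⟩ := hg
    obtain ⟨v, hv, hvl⟩ := hlT
    have hvT : φ ⟨l, hl⟩ ∈ TL := hvl ▸ v.2
    have h1 := hTL.free _ hvT ⟨x, hx⟩ (Set.mem_univ _) (fun e => hxa (congrArg Subtype.val e))
      (Subtype.ext hgx)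
    exact eq_one_of_two_odd hse.odd_kernel ((cPerm_eq_one_iff hse _).mp h1) hg2
  refine ⟨T, hTle, hTn, hT2, ?_, htrans, hfree, ?_⟩
  · rintro g ⟨hga, hgX⟩ ⟨k, hk⟩
    have hg2 : IsPGroup 2 (zpowers g) := IsPGroup.of_card (n := k) (by rw [Nat.card_zpowers, hk])
    refine mem_of_regular h.odd_pair (M := ptStab S a ⊓ centralizer (X : Set G)) inf_le_left hTle
      ((inf_le_inf_left _ (Subgroup.centralizer_le_normalizer _)).trans hTn) hT2 ⟨hga, hgX⟩ hg2
      (htrans b hbC (Ne.symm h.ne) _ ⟨h.se.smul_mem (mem_ptStab.mp hga).1 h.mem_right, fun x hx => ?_⟩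
        fun e => h.ne (MulAction.injective g ((mem_ptStab.mp hga).2.trans e.symm)))
    rw [← mul_smul, (mem_centralizer_iff.mp hgX x hx), mul_smul, hbC.2 x hx]
  · rintro t ⟨⟨ht, ht2, hta⟩, htX⟩ g hg
    obtain ⟨hgL, hga, -⟩ := (hmemT g).mp hg
    have htL : t ∈ L := mem_lineInv ht ht2 htX
    have ht2' : IsPGroup 2 (zpowers t) :=
      IsPGroup.of_card (n := 1) (by rw [Nat.card_zpowers, ht2, pow_one])
    have htT : t ∈ T := (hmemT t).mpr ⟨htL, hta, ht2'⟩
    have hc : φ ⟨t, htL⟩ * φ ⟨g, hgL⟩ = φ ⟨g, hgL⟩ * φ ⟨t, htL⟩ := by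
      refine (hTL.inv_comm _ ⟨⟨_, rfl⟩,
        orderOf_cPerm_inv hse ((Subgroup.orderOf_mk t htL).trans ht2), Subtype.ext hta⟩ _ ?_).eq
      obtain ⟨l, ⟨v, hv, rfl⟩, hlg⟩ := hg
      have : (⟨g, hgL⟩ : L) = (v : L) := Subtype.ext hlg.symm
      rw [this]; exact v.2
    have hk : φ (⟨t, htL⟩ * ⟨g, hgL⟩ * ⟨t, htL⟩⁻¹ * ⟨g, hgL⟩⁻¹) = 1 := by
      rw [map_mul, map_mul, map_mul, hc, map_inv, map_inv]; group
    have hk' := (cPerm_eq_one_iff hse _).mp hk
    have hkT : t * g * t⁻¹ * g⁻¹ ∈ T :=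
      mul_mem (mul_mem (mul_mem htT hg) (inv_mem htT)) (inv_mem hg)
    have h1 : t * g * t⁻¹ * g⁻¹ = 1 :=
      eq_one_of_two_odd hse.odd_kernel hk' (hT2.to_le (zpowers_le.mpr hkT))
    exact commutatorElement_eq_one_iff_commute.mp (by rw [commutatorElement_def]; exact h1)

omit [Finite G] [Finite Ω] in
/-- The involutions at `a` centralising `X` lie in its line group. -/
theorem LineTwo.inv_mem {X T : Subgroup G} (hT : LineTwo S C a X T) {t : G}
    (ht : t ∈ invCent S a X) : t ∈ T :=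
  hT.two_mem t ⟨mem_ptStab.mpr ⟨ht.1.1, ht.1.2.2⟩,
    mem_centralizer_iff.mpr fun x hx => (ht.2 x hx).symm.eq⟩ ⟨1, by rw [ht.1.2.1, pow_one]⟩

end Cfsg.Agent.Bridge
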