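import Cfsg.Agent.Bridge.Complement
import Cfsg.Agent.Bridge.Line
import Cfsg.Agent.H53.SE.InvNormal

/-!
The transfer in the setting of the bridge: exact elements and elements with a good power are mild,
the resulting complement, and the regular `2`-group when the odd core is trivial.
-/

set_option autoImplicit false
set_option linter.style.haveILetI false

namespace Cfsg.Agent.Bridge

open Subgroup MulAction
open Cfsg.Agent.H39
open Cfsg.Agent.H73.Bender
open Cfsg.Agent.Cores.SE (fixedIn)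

universe u

variable {G : Type u} [Group G] {Ω : Type u} [MulAction G Ω]
  {S : Subgroup G} {C : Set Ω} {a b : Ω} {u : G}

/-- Some non-trivial power of `x` is good. -/
def GoodPow (S : Subgroup G) (a : Ω) (x : G) : Prop :=
  ∃ z ∈ zpowers x, z ≠ 1 ∧ IsGood S a (zpowers z)

/-- A subgroup of the stabiliser of `a`, normalised or not, transitive on the other points and
containing all the `2`-elements of the stabiliser. -/
structure BigTrans (S : Subgroup G) (C : Set Ω) (a b : Ω) (M : Subgroup G) : Prop where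
  le : M ≤ ptStab S a
  two_mem : ∀ g ∈ ptStab S a, (∃ k, orderOf g = 2 ^ k) → g ∈ M
  trans : ∀ c ∈ C, c ≠ a → ∃ g ∈ M, g • b = c

theorem fixedIn_zpowers {x : G} {c : Ω} (hc : c ∈ C) (hx : x • c = c) :
    c ∈ fixedIn C (zpowers x) :=
  ⟨hc, fun _ hy => (zpowers_le.mpr (show x ∈ stabilizer G c from hx)) hy⟩

variable {M : Subgroup G}

theorem BigTrans.mTrans (hM : BigTrans S C a b M) (h : Setting S C a b u) :
    MTrans M (C \ {a}) b where
  mem := ⟨h.mem_right, Ne.symm h.ne⟩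
  smul_mem g hg _ hc := ⟨h.se.smul_mem (mem_ptStab.mp (hM.le hg)).1 hc.1, fun hga =>
    hc.2 (MulAction.injective g ((Set.mem_singleton_iff.mp hga).trans
      (mem_ptStab.mp (hM.le hg)).2.symm))⟩
  trans c hc := hM.trans c hc.1 hc.2

theorem BigTrans.base_le (hM : BigTrans S C a b M) : base M b ≤ pair S a b := fun g hg =>
  mem_pair.mpr ⟨(mem_ptStab.mp (hM.le (mem_base.mp hg).1)).1,
    (mem_ptStab.mp (hM.le (mem_base.mp hg).1)).2, (mem_base.mp hg).2⟩

theorem BigTrans.mem_base_of_pair {g : G} (hgM : g ∈ M) (hg : g ∈ pair S a b) : g ∈ base M b :=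
  mem_base.mpr ⟨hgM, (mem_pair.mp hg).2.2⟩

variable [Finite G] [Finite Ω]

/-- A `q`-group of the pair without involution at `a` centralising it fixes only the pair. -/
theorem fixedIn_of_exact (h : Setting S C a b u) {q : ℕ} [Fact q.Prime] {X : Subgroup G}
    (hXle : X ≤ pair S a b) (hXq : IsPGroup q X) (hex : IsExact S a X) {c : Ω}
    (hc : c ∈ fixedIn C X) : c = a ∨ c = b := by
  by_contra! hne
  obtain ⟨i, hi, hi2, hia, hiX⟩ := H53.SE.exists_inv_of_three h.se h.faithful h.good X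
    (fun x hx => (mem_pair.mp (hXle hx)).1) hXq
    ⟨a, ⟨h.mem_left, fun x hx => (mem_pair.mp (hXle hx)).2.1⟩, b,
      ⟨h.mem_right, fun x hx => (mem_pair.mp (hXle hx)).2.2⟩, c, hc, h.ne, hne.1, hne.2⟩
    (f := a) ⟨h.mem_left, fun x hx => (mem_pair.mp (hXle hx)).2.1⟩
  exact Set.notMem_empty i (hex ▸ (⟨⟨hi, hi2, hia⟩, hiX⟩ : i ∈ invCent S a X))

/-- The involutions centralising `y` are as many as all, modulo the prime of `y`. -/
theorem ncard_invCent_modEq (h : Setting S C a b u) {q : ℕ} [Fact q.Prime] {X : Subgroup G}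
    (hXle : X ≤ pair S a b) (hXq : IsPGroup q X) :
    invBar S C a ≡ (invCent S a X).ncard [MOD q] := by
  let J := {i : G // i ∈ S ∧ orderOf i = 2 ∧ i • a = a}
  have hact : ∀ p : X, ∀ i : J, (p : G) * i * (p : G)⁻¹ ∈ S ∧
      orderOf ((p : G) * i * (p : G)⁻¹) = 2 ∧ ((p : G) * i * (p : G)⁻¹) • a = a := by
    rintro ⟨p, hp⟩ ⟨i, hi, hi2, hia⟩
    obtain ⟨hpS, hpa, -⟩ := mem_pair.mp (hXle hp)
    refine ⟨conj_mem_of_mem hpS hi, by rw [orderOf_conj, hi2], ?_⟩
    have h' := conj_smul_of_smul (g := p) hia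
    rwa [hpa] at h'
  letI : MulAction X J :=
    { smul := fun p i => ⟨(p : G) * i * (p : G)⁻¹, hact p i⟩
      one_smul := fun i => Subtype.ext
        (show ((1 : X) : G) * i * ((1 : X) : G)⁻¹ = i by simp)
      mul_smul := fun p p' i => Subtype.ext
        (show ((p * p' : X) : G) * i * ((p * p' : X) : G)⁻¹ =
          p * (p' * i * (p' : G)⁻¹) * (p : G)⁻¹ by simp [mul_assoc]) }
  rw [Cores.SE.invBar_eq_card h.faithful a]
  refine (hXq.card_modEq_card_fixedPoints J).trans (congrArg (· % q) ?_)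
  rw [← Nat.card_coe_set_eq (invCent S a X)]
  refine Nat.card_congr
    { toFun := fun i => ⟨i.1.1, i.1.2, fun x hx => (show Commute x i.1.1 from
        mul_inv_eq_iff_eq_mul.mp (congrArg Subtype.val (i.2 ⟨x, hx⟩))).symm⟩
      invFun := fun i => ⟨⟨i.1, i.2.1⟩, fun x => Subtype.ext
        (show (x : G) * i.1 * (x : G)⁻¹ = i.1 by rw [← (i.2.2 x x.2).eq, mul_inv_cancel_right])⟩
      left_inv := fun _ => rfl
      right_inv := fun _ => rfl }

/-- A good element of the pair has a regular `2`-group in every big transitive subgroup. -/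
theorem regTwo_of_good (h : Setting S C a b u) (hM : BigTrans S C a b M) {q : ℕ} [Fact q.Prime]
    {z : G} (hz : z ∈ pair S a b) (hzq : IsPGroup q (zpowers z)) (hz1 : z ≠ 1)
    (hg : IsGood S a (zpowers z)) : ∃ T, RegTwo M (C \ {a}) z T := by
  obtain ⟨T, hT⟩ := exists_lineTwo h (zpowers_le.mpr hz) hzq (fun h0 => hz1 (zpowers_eq_bot.mp h0)) hg
  haveI : Fact (Nat.Prime 2) := ⟨Nat.prime_two⟩
  have hcomm : ∀ t ∈ T, Commute t z := fun t ht =>
    ((mem_centralizer_iff.mp (hT.le ht).2) z (mem_zpowers z)).symm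
  refine ⟨T, fun t ht => hM.two_mem t (hT.le ht).1 ?_, hT.isPGroup, hcomm, fun g hg' hgz t ht => ?_,
    fun c hc hzc d hd hzd => ?_⟩
  · obtain ⟨n, hn⟩ := (IsPGroup.iff_orderOf.mp hT.isPGroup) ⟨t, ht⟩
    exact ⟨n, (Subgroup.orderOf_mk t ht).symm.trans hn⟩
  · have hgN : g ∈ ptStab S a ⊓ normalizer (zpowers z : Set G) := by
      refine ⟨hM.le hg', centralizer_le_normalizer _ ?_⟩
      rw [mem_centralizer_iff]
      rintro _ ⟨k, rfl⟩
      exact (hgz.zpow_right k).eq.symm
    exact (Subgroup.mem_normalizer_iff.mp (hT.normal hgN) t).mp ht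
  · obtain ⟨t, ht, htc⟩ := hT.trans c (fixedIn_zpowers hc.1 hzc) hc.2 d (fixedIn_zpowers hd.1 hzd) hd.2
    refine ⟨t, ⟨ht, htc⟩, fun s ⟨hs, hsc⟩ => ?_⟩
    have h1 := hT.free _ (mul_mem (inv_mem ht) hs) c (fixedIn_zpowers hc.1 hzc) hc.2
      (by rw [mul_smul, hsc, ← htc, inv_smul_smul])
    exact (inv_mul_eq_one.mp h1).symm

/-- In a cyclic group of prime power order the powers form a chain. -/
theorem mem_zpowers_chain {x y z : G} {q : ℕ} [Fact q.Prime] (hx : IsPGroup q (zpowers x))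
    (hy : y ∈ zpowers x) (hz : z ∈ zpowers x) : y ∈ zpowers z ∨ z ∈ zpowers y := by
  classical
  have key : ∀ v w : G, v ∈ zpowers x → w ∈ zpowers x → orderOf v ∣ orderOf w → v ∈ zpowers w := by
    intro v w hv hw hvw
    haveI := Fintype.ofFinite (zpowers x)
    set K : Finset (zpowers x) := Finset.univ.filter fun g => g ^ orderOf w = 1 with hK
    have hle : K.card ≤ orderOf w := IsCyclic.card_pow_eq_one_le (orderOf_pos w)
    have hsub : (Finset.univ.filter fun g : zpowers x => (g : G) ∈ zpowers w) ⊆ K := by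
      intro g hg
      rw [Finset.mem_filter] at hg
      refine Finset.mem_filter.mpr ⟨Finset.mem_univ _, Subtype.ext ?_⟩
      exact orderOf_dvd_iff_pow_eq_one.mp (orderOf_dvd_of_mem_zpowers hg.2)
    have hcard : (Finset.univ.filter fun g : zpowers x => (g : G) ∈ zpowers w).card = orderOf w := by
      rw [← Fintype.card_subtype, ← Nat.card_eq_fintype_card, ← Nat.card_zpowers w]
      exact Nat.card_congr ⟨fun g => ⟨g.1.1, g.2⟩,
        fun g => ⟨⟨g.1, zpowers_le.mpr hw g.2⟩, g.2⟩, fun _ => rfl, fun _ => rfl⟩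
    have hvK : (⟨v, hv⟩ : zpowers x) ∈ K :=
      Finset.mem_filter.mpr ⟨Finset.mem_univ _, Subtype.ext (orderOf_dvd_iff_pow_eq_one.mp hvw)⟩
    rw [← Finset.eq_of_subset_of_card_le hsub (hle.trans hcard.ge), Finset.mem_filter] at hvK
    exact hvK.2
  obtain ⟨m, hm⟩ := IsPGroup.iff_orderOf.mp hx ⟨y, hy⟩
  obtain ⟨n, hn⟩ := IsPGroup.iff_orderOf.mp hx ⟨z, hz⟩
  rw [← Subgroup.orderOf_coe] at hm hn
  rcases le_total m n with hmn | hmn
  · exact Or.inl (key y z hy hz (by rw [hm, hn]; exact pow_dvd_pow q hmn))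
  · exact Or.inr (key z y hz hy (by rw [hm, hn]; exact pow_dvd_pow q hmn))

omit [Finite G] [Finite Ω] in
theorem IsGood.mono {X X' : Subgroup G} (hle : X' ≤ X) (hg : IsGood S a X) : IsGood S a X' :=
  Set.Nontrivial.mono (s := invCent S a X) hg fun _ ht => ⟨ht.1, fun x hx => ht.2 x (hle hx)⟩

/-- Exact elements and elements with a good power are mild. -/
theorem mild_of_harmless (h : Setting S C a b u) (hM : BigTrans S C a b M) {x : G}
    (hx : x ∈ base M b) (hpp : IsPrimePow (orderOf x))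
    (hh : IsExact S a (zpowers x) ∨ GoodPow S a x) : Mild M (C \ {a}) b x := by
  obtain ⟨q, n, hq, -, hqn⟩ := hpp
  haveI : Fact q.Prime := ⟨hq.nat_prime⟩
  have hxq : IsPGroup q (zpowers x) := IsPGroup.of_card (n := n) (by rw [Nat.card_zpowers, hqn])
  have hxp : zpowers x ≤ pair S a b := zpowers_le.mpr (hM.base_le hx)
  intro y hy hy1
  have hyx : zpowers y ≤ zpowers x := zpowers_le.mpr hy
  have hyq := hxq.to_le hyx
  by_cases hex : IsExact S a (zpowers y)
  · refine Or.inl fun c hc => ?_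
    exact (fixedIn_of_exact h (hyx.trans hxp) hyq hex (fixedIn_zpowers hc.1.1 hc.2)).resolve_left
      hc.1.2
  right
  by_cases hgood : IsGood S a (zpowers y)
  · exact ⟨y, mem_zpowers y, regTwo_of_good h hM (hxp hy) hyq hy1 hgood⟩
  -- `y` is bad
  have hone : (invCent S a (zpowers y)).ncard = 1 := by
    obtain ⟨t, ht⟩ := Set.nonempty_iff_ne_empty.mpr hex
    exact Set.ncard_eq_one.mpr ⟨t, Set.eq_singleton_iff_unique_mem.mpr ⟨ht, fun s hs =>
      by_contra fun hne => hgood ⟨s, hs, t, ht, hne⟩⟩⟩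
  rcases hh with hexx | ⟨z, hz, hz1, hgz⟩
  · exfalso
    have h1 := ncard_invCent_modEq h hxp hxq
    have h2 := ncard_invCent_modEq h (hyx.trans hxp) hyq
    rw [show invCent S a (zpowers x) = ∅ from hexx, Set.ncard_empty] at h1
    rw [hone] at h2
    exact hq.nat_prime.ne_one
      (Nat.eq_one_of_dvd_one ((Nat.modEq_zero_iff_dvd).mp (h2.symm.trans h1)))
  · rcases mem_zpowers_chain hxq hy hz with hyz | hzy
    · exact absurd (hgz.mono (zpowers_le.mpr hyz)) hgood
    · exact ⟨z, hzy, regTwo_of_good h hM (hxp hz) (hxq.to_le (zpowers_le.mpr hz)) hz1 hgz⟩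

/-- The transfer: a complement regular on the points other than `a`. -/
theorem exists_complement (h : Setting S C a b u) (hM : BigTrans S C a b M)
    (hharm : ∀ x ∈ base M b, IsPrimePow (orderOf x) →
      IsExact S a (zpowers x) ∨ GoodPow S a x) :
    ∃ Q, RegComplement M (C \ {a}) b Q ∧
      ∀ g ∈ ptStab S a, (∃ k, orderOf g = 2 ^ k) → g ∈ Q := by
  haveI := h.isSolvable_pair
  obtain ⟨Q, hQ⟩ := exists_regComplement (hM.mTrans h)
    (h.odd_pair.of_dvd_nat (Subgroup.card_dvd_of_le hM.base_le))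
    (Group.isSolvable_of_isSolvable_injective (Subgroup.inclusion_injective hM.base_le))
    fun x hx hpp => mild_of_harmless h hM hx hpp (hharm x hx hpp)
  exact ⟨Q, hQ, fun g hg hk => hQ.two_mem g (hM.two_mem g hg hk) hk⟩

omit [Finite G] [Finite Ω] in
/-- The stabiliser of `a` has at least two involutions. -/
theorem invAt_nontrivial (h : Setting S C a b u) : (invAt S a).Nontrivial := by
  obtain ⟨s, hs, t, ht, hs2, ht2, hst, hc⟩ := h.rankTwo
  obtain ⟨c, hcC, hsc⟩ := h.se.exists_fix hs hs2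
  obtain ⟨g, hg, hga⟩ := h.se.trans hcC h.mem_left
  have htc : t • c = c := h.se.fix_of_commute ht hs hs2 hc.symm hcC hsc
  refine ⟨g * s * g⁻¹, ⟨conj_mem_of_mem hg hs, by rw [orderOf_conj, hs2],
    hga ▸ conj_smul_of_smul hsc⟩, g * t * g⁻¹, ⟨conj_mem_of_mem hg ht, by rw [orderOf_conj, ht2],
    hga ▸ conj_smul_of_smul htc⟩, fun e => hst ?_⟩
  exact mul_left_cancel (mul_right_cancel e)

/-- Some element of prime order of the pair stabiliser has no further fixed point. -/
theorem exists_prime_exact (h : Setting S C a b u) :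
    ∃ x ∈ pair S a b, (orderOf x).Prime ∧ IsExact S a (zpowers x) := by
  obtain ⟨hu, hu2⟩ := h.swap_mem, h.swap_inv
  obtain ⟨s, hs, t, ht, hst⟩ := invAt_nontrivial h
  obtain ⟨d, hd, hdu⟩ : ∃ d ∈ pair S a b, ¬ Commute d u := by
    by_contra hall
    push Not at hall
    set r := u * s * u⁻¹ with hr
    have hrS : r ∈ S := conj_mem_of_mem hu hs.1
    have hrb : r • b = b := h.swap ▸ conj_smul_of_smul (g := u) hs.2.2
    have hr2 : orderOf r = 2 := by rw [hr, orderOf_conj, hs.2.1]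
    obtain ⟨w, hw, hw2, hwb, hwa, hwr⟩ := h.se.exists_swap_of_inv hrS hr2 ht.1 ht.2.1 h.mem_right
      h.mem_left (Ne.symm h.ne) hrb ht.2.2
    obtain ⟨d, hd, hdu⟩ := h.se.swap_conj h.mem_left h.mem_right h.ne hu hw hu2 hw2 h.swap hwa
    rw [(hall d hd).eq, mul_inv_cancel_right] at hdu
    refine hst ?_
    rw [← hwr, ← hdu, hr, inv_eq_of_orderOf_eq_two hu2,
      show u * (u * s * u) * u = u * u * s * (u * u) by group,
      mul_self_of_orderOf_eq_two hu2, one_mul, mul_one]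
  obtain ⟨hdS, hda, hdb⟩ := mem_pair.mp hd
  set j := u * (d * u * d⁻¹) with hj
  have hwb : u • b = a := swap_symm hu2 h.swap
  have hjP : j ∈ pair S a b := by
    refine mem_pair.mpr ⟨mul_mem hu (conj_mem_of_mem hdS hu), ?_, ?_⟩
    · rw [hj, mul_smul, mul_smul, mul_smul, inv_smul_eq_iff.mpr hda.symm, h.swap, hdb, hwb]
    · rw [hj, mul_smul, mul_smul, mul_smul, inv_smul_eq_iff.mpr hdb.symm, hwb, hda, h.swap]
  have hj1 : j ≠ 1 := by
    intro hj'
    refine hdu ?_
    have e : d * u * d⁻¹ = u⁻¹ := eq_inv_of_mul_eq_one_right hj'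
    rw [inv_eq_of_orderOf_eq_two hu2] at e
    exact mul_inv_eq_iff_eq_mul.mp e
  have hjinv : u * j * u⁻¹ = j⁻¹ := by
    have hv : (d * u * d⁻¹)⁻¹ = d * u * d⁻¹ := by
      rw [mul_inv_rev, mul_inv_rev, inv_inv, inv_eq_of_orderOf_eq_two hu2, mul_assoc]
    rw [hj, mul_inv_rev, hv, inv_eq_of_orderOf_eq_two hu2, ← mul_assoc, ← mul_assoc,
      mul_self_of_orderOf_eq_two hu2, one_mul]
  obtain ⟨r, hr, hrd⟩ := Nat.exists_prime_and_dvd (fun h1 : orderOf j = 1 => hj1
    (orderOf_eq_one_iff.mp h1))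
  refine ⟨j ^ (orderOf j / r), pow_mem hjP _, ?_, Set.eq_empty_iff_forall_notMem.mpr fun i hi => ?_⟩
  · rwa [orderOf_pow_orderOf_div (orderOf_pos j).ne' hrd]
  have h1 := H53.SE.eq_one_of_inverted_of_commute h.se h.mem_left h.mem_right h.ne hu hu2 h.swap
    (pow_mem hjP (orderOf j / r)) (by rw [← conj_pow, hjinv, inv_pow]) hi.1.1 hi.1.2.1 hi.1.2.2
    (hi.2 _ (mem_zpowers _)).symm
  have h2 := orderOf_pow_orderOf_div (orderOf_pos j).ne' hrd
  rw [h1, orderOf_one] at h2
  exact hr.ne_one h2.symm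

/-- END: with trivial odd core a normal complement is the regular `2`-group. -/
theorem regularTwo_of_complement (h : Setting S C a b u) (hcore : CoreFree S a) {Q : Subgroup G}
    (hQ : Q ≤ ptStab S a) (hn : ptStab S a ≤ normalizer (Q : Set G))
    (htrans : ∀ c ∈ C \ {a}, ∀ d ∈ C \ {a}, ∃ g ∈ Q, g • c = d)
    (hfree : ∀ g ∈ Q, ∀ c ∈ C \ {a}, g • c = c → g = 1)
    (hinv : ∀ t ∈ invAt S a, t ∈ Q) : ∃ T, RegularTwo S C a T := by
  haveI : Fact (Nat.Prime 2) := ⟨Nat.prime_two⟩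
  obtain ⟨x, hx, hxp, hxex⟩ := exists_prime_exact h
  haveI := Fact.mk hxp
  obtain ⟨hxS, hxa, hxb⟩ := mem_pair.mp hx
  have hbY : b ∈ C \ {a} := ⟨h.mem_right, Ne.symm h.ne⟩
  have hsm : ∀ g ∈ Q, g • b ∈ C \ {a} := fun g hg => by
    refine ⟨h.se.smul_mem (mem_ptStab.mp (hQ hg)).1 h.mem_right, fun hga => h.ne ?_⟩
    exact (MulAction.injective g
      ((Set.mem_singleton_iff.mp hga).trans (mem_ptStab.mp (hQ hg)).2.symm)).symm
  have h2 : IsPGroup 2 Q := isPGroup_two_of_fpf hQ hn hcore (fun g hg => hfree g hg b hbY) hsm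
    (mem_ptStab.mpr ⟨hxS, hxa⟩) hxp (fun c hc hxc => (fixedIn_of_exact h (zpowers_le.mpr hx)
      (IsPGroup.of_card (n := 1) (by rw [Nat.card_zpowers, pow_one])) hxex
      (fixedIn_zpowers hc.1 hxc)).resolve_left hc.2) hxb
  refine ⟨Q, hQ, hn, h2, fun c hc hca d hd hda => htrans c ⟨hc, hca⟩ d ⟨hd, hda⟩,
    fun g hg c hc hca hgc => hfree g hg c ⟨hc, hca⟩ hgc, hinv, ?_⟩
  -- the involutions are central
  obtain ⟨s, hs, -⟩ := invAt_nontrivial h
  haveI : Nontrivial Q := ⟨⟨s, hinv s hs⟩, 1, fun e => by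
    have := hs.2.1
    rw [show s = 1 from congrArg Subtype.val e, orderOf_one] at this
    exact absurd this (by norm_num)⟩
  haveI := IsPGroup.center_nontrivial h2
  obtain ⟨z, hz⟩ := exists_prime_orderOf_dvd_card' (G := center Q) 2 (by
    obtain ⟨n, hn'⟩ := IsPGroup.iff_card.mp (h2.to_subgroup (center Q))
    have h1 : 1 < Nat.card (center Q) := Finite.one_lt_card
    rw [hn'] at h1 ⊢
    exact dvd_pow_self 2 (fun h0 => by rw [h0, pow_zero] at h1; omega))
  have hzinv : ((z : Q) : G) ∈ invAt S a := ⟨(mem_ptStab.mp (hQ (z : Q).2)).1,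
    by rw [Subgroup.orderOf_coe, Subgroup.orderOf_coe]; exact hz,
    (mem_ptStab.mp (hQ (z : Q).2)).2⟩
  intro t ht g hg
  obtain ⟨d, hd, hdz⟩ := h.exists_conj_invAt hzinv ht
  have hdN : d ∈ ptStab S a := mem_ptStab.mpr ⟨(mem_pair.mp hd).1, (mem_pair.mp hd).2.1⟩
  have hgd : d⁻¹ * g * d ∈ Q := (Subgroup.mem_normalizer_iff''.mp (hn hdN) g).mp hg
  have hc : (z : Q) * ⟨_, hgd⟩ = ⟨_, hgd⟩ * (z : Q) :=
    (Subgroup.mem_center_iff.mp z.2 ⟨_, hgd⟩).symm
  have hc' : ((z : Q) : G) * (d⁻¹ * g * d) = d⁻¹ * g * d * ((z : Q) : G) :=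
    congrArg Subtype.val hc
  show t * g = g * t
  rw [← hdz]
  calc d * ((z : Q) : G) * d⁻¹ * g = d * (((z : Q) : G) * (d⁻¹ * g * d)) * d⁻¹ := by group
    _ = d * (d⁻¹ * g * d * ((z : Q) : G)) * d⁻¹ := by rw [hc']
    _ = g * (d * ((z : Q) : G) * d⁻¹) := by group

open scoped commutatorElement

/-- The centre of a Sylow `q`-subgroup of the base has a good element. -/
def CentralGood (q : ℕ) (S : Subgroup G) (a b : Ω) (M : Subgroup G) : Prop :=
  ∃ P, H29.Bender.IsSyl q (base M b) P ∧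
    ∃ z ∈ P, z ≠ 1 ∧ (∀ p ∈ P, Commute p z) ∧ IsGood S a (zpowers z)

/-- A harmless element of the derived subgroup of a big transitive subgroup lies in the derived
subgroup of the base. -/
theorem mem_commutator_base (h : Setting S C a b u) (hM : BigTrans S C a b M) {q : ℕ}
    [Fact q.Prime] {x : G} (hx : x ∈ base M b) {n : ℕ} (hxq : orderOf x = q ^ n)
    (hh : IsExact S a (zpowers x) ∨ GoodPow S a x ∨ CentralGood q S a b M) (hxc : x ∈ ⁅M, M⁆) :
    x ∈ ⁅base M b, base M b⁆ := by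
  by_cases hn : n = 0
  · rw [hn, pow_zero, orderOf_eq_one_iff] at hxq
    subst hxq
    exact one_mem _
  have hq : q ≠ 2 := by
    rintro rfl
    have hodd : Odd (orderOf x) :=
      (h.odd_pair).of_dvd_nat (Subgroup.orderOf_dvd_natCard _ (hM.base_le hx))
    rw [hxq] at hodd
    exact (Nat.not_even_iff_odd.mpr hodd) (Nat.even_pow.mpr ⟨even_two, hn⟩)
  refine mem_commutator_of_harmless (hM.mTrans h) hq hx ⟨n, hxq⟩ ?_ hxc
  rcases hh with hh | hh | ⟨P, hP, z, hzP, hz1, hzc, hzg⟩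
  · exact Or.inl (mild_of_harmless h hM hx (hxq ▸ (Fact.out : q.Prime).isPrimePow.pow hn)
      (Or.inl hh))
  · exact Or.inl (mild_of_harmless h hM hx (hxq ▸ (Fact.out : q.Prime).isPrimePow.pow hn)
      (Or.inr hh))
  · exact Or.inr ⟨P, hP, z, hzP, hzc, regTwo_of_good h hM (hM.base_le (hP.le hzP))
      (hP.pgroup.to_le (zpowers_le.mpr hzP)) hz1 hzg⟩

/-- A perfect big transitive subgroup with a non-trivial base has an element which is not
harmless; it is bad. -/
theorem exists_not_harmless (h : Setting S C a b u) (hM : BigTrans S C a b M)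
    (hperf : ⁅M, M⁆ = M) (hne : base M b ≠ ⊥) :
    ∃ q : ℕ, q.Prime ∧ ∃ x ∈ base M b, x ≠ 1 ∧ (∃ n, orderOf x = q ^ n) ∧
      IsBad S a (zpowers x) ∧ ¬ GoodPow S a x ∧ ¬ CentralGood q S a b M := by
  classical
  by_contra hall
  push Not at hall
  set D := base M b with hD
  have hle : ⁅D, D⁆ ≤ D := Subgroup.commutator_le_self D
  have hdvd : Nat.card D ∣ Nat.card (⁅D, D⁆ : Subgroup G) := by
    refine (Nat.dvd_iff_prime_pow_dvd_dvd _ _).mpr fun p k hp hpk => ?_
    haveI := Fact.mk hp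
    obtain ⟨P, hP⟩ := Sylow.exists_subgroup_card_pow_prime p hpk
    rw [← hP, ← card_map_of_injective D.subtype_injective]
    refine card_dvd_of_le fun x hx => ?_
    have hxD : x ∈ D := map_subtype_le _ hx
    obtain ⟨n, hn⟩ := IsPGroup.iff_orderOf.mp ((IsPGroup.of_card hP).map D.subtype) ⟨x, hx⟩
    rw [← Subgroup.orderOf_coe] at hn
    by_cases hx1 : x = 1
    · exact hx1 ▸ one_mem _
    refine mem_commutator_base h hM hxD hn ?_ (hperf.symm ▸ (mem_base.mp hxD).1)
    by_cases hex : IsExact S a (zpowers x)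
    · exact Or.inl hex
    by_cases hgp : GoodPow S a x
    · exact Or.inr (Or.inl hgp)
    refine Or.inr (Or.inr ?_)
    refine hall p hp x hxD hx1 ⟨n, hn⟩ ?_ hgp
    obtain ⟨t, ht⟩ := Set.nonempty_iff_ne_empty.mpr hex
    exact ⟨t, Set.eq_singleton_iff_unique_mem.mpr ⟨ht, fun s hs => by_contra fun hst =>
      hgp ⟨x, mem_zpowers x, hx1, s, hs, t, ht, hst⟩⟩⟩
  have heq : ⁅D, D⁆ = D :=
    Subgroup.eq_of_le_of_card_ge hle (Nat.le_of_dvd Nat.card_pos hdvd)
  haveI := h.isSolvable_pair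
  haveI : Group.IsSolvable D :=
    Group.isSolvable_of_isSolvable_injective (Subgroup.inclusion_injective hM.base_le)
  haveI : Nontrivial D := (Subgroup.nontrivial_iff_ne_bot D).mpr hne
  refine (Group.IsSolvable.commutator_lt_top_of_nontrivial (G := D)).ne ?_
  refine Subgroup.map_injective D.subtype_injective ?_
  rw [Subgroup.map_subtype_commutator, heq, ← MonoidHom.range_eq_map, Subgroup.range_subtype]

end Cfsg.Agent.Bridge
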