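import Cfsg.Agent.Bridge.CaseComm
import Cfsg.Agent.Bridge.Harmless

/-!
The induction of the bridge (notes/helper76_bridge.md): once the non-commuting case is excluded,
every core-free faithful rank-two action has a regular normal `2`-subgroup in each point
stabiliser.
-/

set_option autoImplicit false
set_option linter.style.haveILetI false

namespace Cfsg.Agent.Bridge

open Subgroup MulAction
open Cfsg.Agent.H39
open Cfsg.Agent.H73.Bender
open Cfsg.Agent.Cores.SE
open Cfsg.Agent.H53.SE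

universe u

/-- The non-commuting case is impossible. -/
def NonCommStep : Prop :=
  ∀ (G : Type u) [Group G] [Finite G] (Ω : Type u) [MulAction G Ω] [Finite Ω] (S : Subgroup G)
    (C : Set Ω) (a b : Ω) (u : G), Setting S C a b u → CoreFree S a → ¬ CommAt S a → False

/-- Point stabilisers are core free (the odd core theorem, all groups). -/
def CoreFreeAll : Prop :=
  ∀ (G : Type u) [Group G] [Finite G] (Ω : Type u) [MulAction G Ω] [Finite Ω] (S : Subgroup G)
    (C : Set Ω), SE S C → RankTwo S → Faithful S C → ∀ c ∈ C, CoreFree S c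

variable {G : Type u} [Group G] [Finite G] {Ω : Type u} [MulAction G Ω] [Finite Ω]
  {S : Subgroup G} {C : Set Ω} {a b : Ω} {u : G}

/-- The commuting case. -/
theorem exists_regularTwo_of_commAt (h : Setting S C a b u) (hcore : CoreFree S a)
    (hc : CommAt S a) : ∃ T, RegularTwo S C a T := by
  obtain ⟨Q, hQ, hn, hQD, htr, hinv, -, -⟩ := exists_complement_of_commAt h hc hcore
  have htrans : ∀ c ∈ C \ {a}, ∀ d ∈ C \ {a}, ∃ g ∈ Q, g • c = d := by
    rintro c ⟨hc, hca⟩ d ⟨hd, hda⟩
    obtain ⟨g, hg, rfl⟩ := htr c hc fun e => hca (Set.mem_singleton_iff.mpr e)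
    obtain ⟨k, hk, rfl⟩ := htr d hd fun e => hda (Set.mem_singleton_iff.mpr e)
    exact ⟨k * g⁻¹, mul_mem hk (inv_mem hg), by rw [mul_smul, inv_smul_smul]⟩
  refine regularTwo_of_complement h hcore hQ hn htrans ?_ fun t ht => hinv ht
  rintro g hg c ⟨hc, hca⟩ hgc
  obtain ⟨k, hk, rfl⟩ := htr c hc fun e => hca (Set.mem_singleton_iff.mpr e)
  have hfix : (k⁻¹ * g * k) • b = b := by rw [mul_smul, mul_smul, hgc, inv_smul_smul]
  have hmem : k⁻¹ * g * k ∈ Q := mul_mem (mul_mem (inv_mem hk) hg) hk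
  have h1 : k⁻¹ * g * k ∈ Q ⊓ pair S a b :=
    ⟨hmem, mem_pair.mpr ⟨(mem_ptStab.mp (hQ hmem)).1, (mem_ptStab.mp (hQ hmem)).2, hfix⟩⟩
  rw [hQD, mem_bot] at h1
  calc g = k * (k⁻¹ * g * k) * k⁻¹ := by group
    _ = 1 := by rw [h1]; group

/-- Core freeness from the relative statement of the odd core theorem. -/
theorem coreFreeAll_of_coreAt
    (hcore : ∀ (G : Type u) [Group G] [Finite G] (Ω : Type u) [MulAction G Ω] [Finite Ω]
      (S : Subgroup G) (C : Set Ω), CoreAt S C) : CoreFreeAll.{u} :=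
  fun G _ _ Ω _ _ S C hS hr hF c hc W hW hWodd hWn => eq_bot_iff.mpr
    ((hcore G Ω S C hS hr (H73.Bender.main G Ω S C hS hr).1 c hc W hW hWodd hWn).trans hF.le)

/-- The bridge from the two remaining inputs. -/
theorem regularAt_all (hcoreAll : CoreFreeAll.{u}) (hnc : NonCommStep.{u}) :
    ∀ (n : ℕ) (G : Type u) [Group G] [Finite G] (Ω : Type u) [MulAction G Ω] [Finite Ω]
      (S : Subgroup G) (C : Set Ω), Nat.card S = n → RegularAt S C := by
  intro n
  induction n using Nat.strong_induction_on with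
  | _ n ih =>
  intro G _ _ Ω _ _ S C hn hS hr hF hcore a ha
  obtain ⟨b, hb, hab⟩ : ∃ b ∈ C, a ≠ b := by
    obtain ⟨x, hx, y, hy, hxy⟩ := hS.exists_ne
    by_cases hax : a = x
    · exact ⟨y, hy, hax ▸ hxy⟩
    · exact ⟨x, hx, hax⟩
  obtain ⟨u, hu, hu2, hua⟩ := hS.exists_swap ha hb hab
  have h : Setting S C a b u :=
    ⟨hS, hr, hF, ha, hb, hab, hu, hu2, hua,
      fun G' _ _ Ω' _ _ T C' hlt => ih _ (hn ▸ hlt) G' Ω' T C' rfl,
      fun G' _ _ Ω' _ _ T C' _ => hcoreAll G' Ω' T C'⟩
  by_cases hc : CommAt S a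
  · exact exists_regularTwo_of_commAt h (hcore a ha) hc
  · exact (hnc G Ω S C a b u h (hcore a ha) hc).elim

/-- Every point stabiliser of a faithful rank-two action has a regular normal `2`-subgroup. -/
theorem exists_regularTwo (hcoreAll : CoreFreeAll.{u}) (hnc : NonCommStep.{u})
    (hS : SE S C) (hr : RankTwo S) (hF : Faithful S C) (ha : a ∈ C) :
    ∃ T, RegularTwo S C a T :=
  regularAt_all hcoreAll hnc _ G Ω S C rfl hS hr hF (hcoreAll G Ω S C hS hr hF) a ha

end Cfsg.Agent.Bridge
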