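import Cfsg.Agent.Bridge.Harmless

/-!
The opening of the non-commutative case: the subgroup generated by the involutions at `a` is
perfect, has trivial centraliser in the point stabiliser and is transitive on the other points;
some element of its base outside the derived subgroup of the base is bad and not harmless.
-/

set_option autoImplicit false
set_option linter.style.haveILetI false

namespace Cfsg.Agent.Bridge

open Subgroup MulAction
open Cfsg.Agent.H39
open Cfsg.Agent.H73.Bender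
open Cfsg.Agent.H29.Bender (IsSyl exists_isSyl_ge)
open Cfsg.Agent.Cores.SE (fixedIn)
open scoped commutatorElement

universe u

variable {G : Type u} [Group G] {Ω : Type u} [MulAction G Ω]
  {S : Subgroup G} {C : Set Ω} {a b : Ω} {u : G}

variable [Finite G] [Finite Ω]

/-- A central involution of the group generated by the involutions at `a` makes them commute. -/
theorem commAt_of_central (h : Setting S C a b u) {z : G} (hz : z ∈ invAt S a)
    (hzc : ∀ l ∈ invGen S a, Commute z l) : H53.SE.CommAt S a := by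
  intro s hs t ht hs2 ht2 hsa hta
  obtain ⟨d, hd, hds⟩ := h.exists_conj_invAt hz ⟨hs, hs2, hsa⟩
  have hdN := ptStab_le_normalizer_invGen (S := S) a
    (mem_ptStab.mpr ⟨(mem_pair.mp hd).1, (mem_pair.mp hd).2.1⟩)
  have htL : t ∈ invGen S a := subset_closure ⟨ht, ht2, hta⟩
  have hc := (hzc _ ((Subgroup.mem_normalizer_iff''.mp hdN t).mp htL)).eq
  show s * t = t * s
  rw [← hds]
  calc d * z * d⁻¹ * t = d * (z * (d⁻¹ * t * d)) * d⁻¹ := by group
    _ = d * (d⁻¹ * t * d * z) * d⁻¹ := by rw [hc]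
    _ = t * (d * z * d⁻¹) := by group

/-- An involution in a subgroup of the stabiliser of `a`. -/
theorem exists_invAt_of_even {W : Subgroup G} (hW : W ≤ ptStab S a)
    (heven : ¬ Odd (Nat.card W)) : ∃ z ∈ W, z ∈ invAt S a := by
  haveI : Fact (Nat.Prime 2) := ⟨Nat.prime_two⟩
  obtain ⟨z, hz⟩ := exists_prime_orderOf_dvd_card' 2
    (even_iff_two_dvd.mp (Nat.not_odd_iff_even.mp heven))
  exact ⟨z, z.2, (mem_ptStab.mp (hW z.2)).1, (Subgroup.orderOf_coe z).trans hz,
    (mem_ptStab.mp (hW z.2)).2⟩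

/-- (3) `C_H(L) = 1`. -/
theorem centralizer_invGen_eq_bot (h : Setting S C a b u) (hcore : CoreFree S a)
    (hnc : ¬ H53.SE.CommAt S a) :
    ptStab S a ⊓ centralizer (invGen S a : Set G) = ⊥ := by
  set W := ptStab S a ⊓ centralizer (invGen S a : Set G) with hW
  by_cases hodd : Odd (Nat.card W)
  · refine hcore W inf_le_left hodd fun g hg => ?_
    have key : ∀ g ∈ ptStab S a, ∀ w ∈ W, g * w * g⁻¹ ∈ W := by
      intro g hg w hw
      refine Subgroup.mem_inf.mpr ⟨mul_mem (mul_mem hg (Subgroup.mem_inf.mp hw).1) (inv_mem hg),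
        mem_centralizer_iff.mpr fun l hl => ?_⟩
      have hl' := (Subgroup.mem_normalizer_iff''.mp (ptStab_le_normalizer_invGen (S := S) a hg) l).mp hl
      have hc : g⁻¹ * l * g * w = w * (g⁻¹ * l * g) := mem_centralizer_iff.mp (Subgroup.mem_inf.mp hw).2 _ hl'
      calc l * (g * w * g⁻¹) = g * (g⁻¹ * l * g * w) * g⁻¹ := by group
        _ = g * (w * (g⁻¹ * l * g)) * g⁻¹ := by rw [hc]
        _ = g * w * g⁻¹ * l := by group
    refine Subgroup.mem_normalizer_iff.mpr fun w => ⟨key g hg w, fun hw => ?_⟩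
    simpa [mul_assoc] using key g⁻¹ (inv_mem hg) _ hw
  · obtain ⟨z, hzW, hz⟩ := exists_invAt_of_even inf_le_left hodd
    exact absurd (commAt_of_central h hz fun l hl => (mem_centralizer_iff.mp hzW.2 l hl).symm) hnc

/-- (3) `L` is perfect. -/
theorem commutator_invGen (h : Setting S C a b u) (hcore : CoreFree S a)
    (hnc : ¬ H53.SE.CommAt S a) : ⁅invGen S a, invGen S a⁆ = invGen S a := by
  set L := invGen S a with hL
  have hLa : L ≤ ptStab S a := invGen_le_ptStab a
  have hle : ⁅L, L⁆ ≤ L := Subgroup.commutator_le_self L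
  have hn : ptStab S a ≤ normalizer (⁅L, L⁆ : Subgroup G) := fun g hg =>
    Coprime.mem_normalizer_of_map_conj (by
      rw [Subgroup.map_commutator, hL, map_invGen (mem_ptStab.mp hg).1, (mem_ptStab.mp hg).2])
  by_cases hodd : Odd (Nat.card (⁅L, L⁆ : Subgroup G))
  · refine absurd ?_ hnc
    have hbot := hcore _ (hle.trans hLa) hodd hn
    intro s hs t ht hs2 ht2 hsa hta
    exact (Subgroup.mem_centralizer_iff.mp (Subgroup.commutator_eq_bot_iff_le_centralizer.mp hbot
      (subset_closure ⟨hs, hs2, hsa⟩)) t (subset_closure ⟨ht, ht2, hta⟩)).symm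
  · obtain ⟨z, hzL, hz⟩ := exists_invAt_of_even (hle.trans hLa) hodd
    refine le_antisymm hle ((Subgroup.closure_le _).mpr fun t ht => ?_)
    obtain ⟨d, hd, hdt⟩ := h.exists_conj_invAt hz (show t ∈ invAt S a from ht)
    rw [← hdt]
    exact (Subgroup.mem_normalizer_iff.mp
      (hn (mem_ptStab.mpr ⟨(mem_pair.mp hd).1, (mem_pair.mp hd).2.1⟩)) z).mp hzL

omit [Finite Ω] in
/-- A Sylow subgroup of the pair for a prime dividing the number of involutions is one of the
stabiliser of `a`. -/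
theorem isSyl_ptStab_of_pair (h : Setting S C a b u) (hG : Good S C) {p : ℕ} [Fact p.Prime]
    (hdvd : p ∣ invBar S C a) {R : Subgroup G} (hR : IsSyl p (pair S a b) R) :
    IsSyl p (ptStab S a) R := by
  have hRa : R ≤ ptStab S a := fun r hr =>
    mem_ptStab.mpr ⟨(mem_pair.mp (hR.le hr)).1, (mem_pair.mp (hR.le hr)).2.1⟩
  obtain ⟨R', hRR', hR'⟩ := exists_isSyl_ge (q := p) hRa hR.pgroup
  suffices R = R' from this ▸ hR'
  by_contra hne
  obtain ⟨g, hgR', hgR, hgN⟩ :=
    exists_mem_normalizer_not_mem hR'.pgroup (lt_of_le_of_ne hRR' hne)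
  obtain ⟨hgS, hga⟩ := mem_ptStab.mp (hR'.le hgR')
  have hgb : g • b = b := by
    refine (pairSylow_fixed_eq h.se hG h.mem_left hdvd h.mem_left h.mem_right h.ne
      (h.se.smul_mem hgS h.mem_right) hR fun r hr => ?_).resolve_left fun e =>
        h.ne (MulAction.injective g (hga.trans e.symm))
    have hr' := (Subgroup.mem_normalizer_iff''.mp hgN r).mp hr
    have hfix : (g⁻¹ * r * g) • b = b := (mem_pair.mp (hR.le hr')).2.2
    rwa [mul_smul, mul_smul, inv_smul_eq_iff] at hfix
  have hle : R ⊔ zpowers g ≤ pair S a b :=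
    sup_le hR.le (zpowers_le.mpr (mem_pair.mpr ⟨hgS, hga, hgb⟩))
  have heq := hR.eq_of_ge le_sup_left hle (hR'.pgroup.to_le (sup_le hRR' (zpowers_le.mpr hgR')))
  exact hgR (heq ▸ (mem_sup_right (mem_zpowers g) : g ∈ R ⊔ zpowers g))

/-- (3) a Sylow subgroup of `L` lies in the pair and is exact, and the Frattini argument makes `L`
transitive with `H = L D`. -/
theorem exists_exact_sylow (h : Setting S C a b u) (hnc : ¬ H53.SE.CommAt S a) :
    ∃ p : ℕ, p.Prime ∧ p ∣ invBar S C a ∧ ∃ P : Subgroup G, IsSyl p (invGen S a) P ∧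
      P ≤ pair S a b ∧ P ≠ ⊥ ∧ IsExact S a P := by
  obtain ⟨t, ht, -⟩ := invAt_nontrivial h
  have hLa : invGen S a ≤ ptStab S a := invGen_le_ptStab a
  have hLn : ptStab S a ≤ normalizer (invGen S a : Set G) := ptStab_le_normalizer_invGen a
  have hne1 : (centralizer ({t} : Set G)).relIndex (invGen S a) ≠ 1 := fun h1 =>
    hnc (commAt_of_central h ht fun l hl =>
      (mem_centralizer_singleton_iff.mp (relIndex_eq_one.mp h1 hl)).symm)
  obtain ⟨p, hp, hpd⟩ := Nat.exists_prime_and_dvd hne1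
  haveI : Fact p.Prime := ⟨hp⟩
  have hdvd : p ∣ invBar S C a := hpd.trans
    (Cores.SE.relIndex_dvd_invBar h.se h.faithful h.mem_left ht.1 ht.2.1 ht.2.2 hLa hLn)
  obtain ⟨R, -, hR⟩ := exists_isSyl_ge (q := p) (bot_le : ⊥ ≤ pair S a b) IsPGroup.of_bot
  have hRH := isSyl_ptStab_of_pair h h.good hdvd hR
  obtain ⟨P₀, -, hP₀⟩ := exists_isSyl_ge (q := p) (bot_le : ⊥ ≤ invGen S a) IsPGroup.of_bot
  obtain ⟨R₁, hPR₁, hR₁⟩ := exists_isSyl_ge (q := p) (hP₀.le.trans hLa) hP₀.pgroup
  obtain ⟨g, hg, hgR⟩ := hR₁.exists_conj hRH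
  set P := P₀.map (MulAut.conj g).toMonoidHom with hP
  have hPL : IsSyl p (invGen S a) P :=
    ⟨H29.Bender.map_conj_le hP₀.le (hLn hg), hP₀.pgroup.map _, fun X hX hXp => by
      rw [hP, card_map_of_injective (MulAut.conj g).injective]; exact hP₀.max X hX hXp⟩
  have hPD : P ≤ pair S a b := (hgR ▸ Subgroup.map_mono hPR₁ : P ≤ R).trans hR.le
  refine ⟨p, hp, hdvd, P, hPL, hPD, fun h0 => ?_, Set.eq_empty_iff_forall_notMem.mpr fun s hs => ?_⟩
  · have h1 : p ∣ Nat.card (invGen S a) := hpd.trans (Subgroup.relIndex_dvd_card _ _)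
    have h2 := hPL.card_eq
    rw [h0, Subgroup.card_bot] at h2
    have h3 := hp.factorization_pos_of_dvd Nat.card_pos.ne' h1
    exact hp.one_lt.ne' (pow_eq_one_iff.mp h2.symm |>.resolve_right h3.ne') 
  · -- `P` would lie in a centraliser whose index `p` divides
    obtain ⟨d, hd, hds⟩ := h.exists_conj_invAt ht hs.1
    set Cs := invGen S a ⊓ centralizer ({s} : Set G) with hCs
    have hPC : P ≤ Cs := le_inf hPL.le fun x hx =>
      mem_centralizer_singleton_iff.mpr (hs.2 x hx).eq.symm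
    have hcard : Nat.card Cs * (centralizer ({t} : Set G)).relIndex (invGen S a) =
        Nat.card (invGen S a) := by
      have hmap : (invGen S a ⊓ centralizer ({t} : Set G)).map (MulAut.conj d).toMonoidHom = Cs := by
        have hdN := hLn (mem_ptStab.mpr ⟨(mem_pair.mp hd).1, (mem_pair.mp hd).2.1⟩)
        ext x
        constructor
        · rintro ⟨y, ⟨hy, hyt⟩, rfl⟩
          refine ⟨(Subgroup.mem_normalizer_iff.mp hdN y).mp hy, mem_centralizer_singleton_iff.mpr ?_⟩
          simp only [MulEquiv.coe_toMonoidHom, MulAut.conj_apply, ← hds]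
          calc d * y * d⁻¹ * (d * t * d⁻¹) = d * (y * t) * d⁻¹ := by group
            _ = d * (t * y) * d⁻¹ := by rw [mem_centralizer_singleton_iff.mp hyt]
            _ = d * t * d⁻¹ * (d * y * d⁻¹) := by group
        · rintro ⟨hx, hxs⟩
          refine ⟨d⁻¹ * x * d, ⟨(Subgroup.mem_normalizer_iff''.mp hdN x).mp hx,
            mem_centralizer_singleton_iff.mpr ?_⟩, by simp [mul_assoc]⟩
          have hxs' := mem_centralizer_singleton_iff.mp hxs
          rw [← hds] at hxs'
          calc d⁻¹ * x * d * t = d⁻¹ * (x * (d * t * d⁻¹)) * d := by group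
            _ = d⁻¹ * (d * t * d⁻¹ * x) * d := by rw [hxs']
            _ = t * (d⁻¹ * x * d) := by group
      rw [← hmap, card_map_of_injective (MulAut.conj d).injective,
        ← inf_relIndex_left (invGen S a) (centralizer ({t} : Set G)),
        ← Subgroup.relIndex_bot_left (H := invGen S a ⊓ centralizer ({t} : Set G)),
        Subgroup.relIndex_mul_relIndex _ _ _ bot_le inf_le_left, Subgroup.relIndex_bot_left]
    have h1 : p ^ ((Nat.card (invGen S a)).factorization p + 1) ∣ Nat.card (invGen S a) := by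
      conv_rhs => rw [← hcard]
      rw [pow_succ]
      refine Nat.mul_dvd_mul ?_ hpd
      have h2 := Subgroup.card_dvd_of_le hPC
      rwa [hPL.card_eq] at h2
    exact Nat.pow_succ_factorization_not_dvd Nat.card_pos.ne' hp h1

/-- (3) `H = L D` and `L` is big and transitive. -/
theorem bigTrans_invGen (h : Setting S C a b u) (hnc : ¬ H53.SE.CommAt S a) :
    BigTrans S C a b (invGen S a) ∧
      (∀ g ∈ ptStab S a, ∃ l ∈ invGen S a, ∃ d ∈ pair S a b, g = l * d) ∧
      base (invGen S a) b ≠ ⊥ := by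
  set L := invGen S a with hL
  have hLa : L ≤ ptStab S a := invGen_le_ptStab a
  have hLn : ptStab S a ≤ normalizer (L : Set G) := ptStab_le_normalizer_invGen a
  obtain ⟨p, hp, -, P, hP, hPD, hP1, hPex⟩ := exists_exact_sylow h hnc
  haveI : Fact p.Prime := ⟨hp⟩
  have hLD : ∀ g ∈ ptStab S a, ∃ l ∈ L, ∃ d ∈ pair S a b, g = l * d := by
    intro g hg
    obtain ⟨l, hl, hlN⟩ := hP.exists_mul_mem_normalizer (hLn hg)
    obtain ⟨hS', ha'⟩ := mem_ptStab.mp (mul_mem (hLa hl) hg : l * g ∈ ptStab S a)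
    have hfix : (l * g) • b ∈ fixedIn C P := by
      refine ⟨h.se.smul_mem hS' h.mem_right, fun x hx => ?_⟩
      have hx' := (mem_pair.mp (hPD ((Subgroup.mem_normalizer_iff''.mp hlN x).mp hx))).2.2
      rwa [mul_smul ((l * g)⁻¹ * x), mul_smul, inv_smul_eq_iff] at hx'
    have hb' : (l * g) • b = b := (fixedIn_of_exact h hPD hP.pgroup hPex hfix).resolve_left
      fun e => h.ne (MulAction.injective (l * g) (ha'.trans e.symm))
    exact ⟨l⁻¹, inv_mem hl, l * g, mem_pair.mpr ⟨hS', ha', hb'⟩, (inv_mul_cancel_left l g).symm⟩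
  refine ⟨⟨hLa, fun g hg ⟨k, hk⟩ => ?_, fun c hc hca => ?_⟩, hLD, ?_⟩
  · set N := L.subgroupOf (ptStab S a) with hN
    haveI : N.Normal := normal_subgroupOf_of_le_normalizer hLn
    set D₀ := (pair S a b).subgroupOf (ptStab S a) with hD₀
    have hsup : D₀ ⊔ N = ⊤ := by
      refine eq_top_iff.mpr fun x _ => ?_
      obtain ⟨l, hl, d, hd, e⟩ := hLD x x.2
      have e' : x = ⟨l, hLa hl⟩ * ⟨d, mem_ptStab.mpr ⟨(mem_pair.mp hd).1, (mem_pair.mp hd).2.1⟩⟩ :=
        Subtype.ext e
      rw [e']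
      exact mul_mem (mem_sup_right (mem_subgroupOf.mpr hl)) (mem_sup_left (mem_subgroupOf.mpr hd))
    have hidx : N.index ∣ Nat.card (pair S a b) := by
      rw [← relIndex_top_right, ← hsup, relIndex_sup_right]
      exact (Subgroup.relIndex_dvd_card _ _).trans (dvd_of_eq (Nat.card_congr (subgroupOfEquivOfLe
        (fun x hx => mem_ptStab.mpr ⟨(mem_pair.mp hx).1, (mem_pair.mp hx).2.1⟩)).toEquiv))
    show (⟨g, hg⟩ : ptStab S a) ∈ N
    rw [← QuotientGroup.eq_one_iff, ← orderOf_eq_one_iff]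
    refine Nat.eq_one_of_dvd_coprimes
      (((h.odd_pair.of_dvd_nat hidx).coprime_two_left).pow_left k) ?_ ?_
    · refine (orderOf_map_dvd (QuotientGroup.mk' N) _).trans (dvd_of_eq ?_)
      rw [← Subgroup.orderOf_coe]
      exact hk
    · exact (_root_.orderOf_dvd_natCard _).trans (by rw [← Subgroup.index_eq_card])
  · obtain ⟨g, hg, hga, hgc⟩ := h.twoTrans a h.mem_left b h.mem_right c hc (Ne.symm h.ne) hca
    obtain ⟨l, hl, d, hd, rfl⟩ := hLD g (mem_ptStab.mpr ⟨hg, hga⟩)
    exact ⟨l, hl, by rw [← hgc, mul_smul, (mem_pair.mp hd).2.2]⟩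
  · intro h0
    refine hP1 ((Subgroup.eq_bot_iff_forall P).mpr fun x hx => ?_)
    exact (Subgroup.eq_bot_iff_forall _).mp h0 x
      (mem_base.mpr ⟨hP.le hx, (mem_pair.mp (hPD hx)).2.2⟩)

omit [Finite Ω] in
/-- A proper subgroup misses an element of prime power order. -/
theorem exists_primePow_not_mem {D K : Subgroup G} (hKD : K ≤ D) (hne : K ≠ D) :
    ∃ q n : ℕ, q.Prime ∧ ∃ x ∈ D, x ∉ K ∧ orderOf x = q ^ n := by
  by_contra hall
  push Not at hall
  refine hne (Subgroup.eq_of_le_of_card_ge hKD (Nat.le_of_dvd Nat.card_pos ?_))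
  refine (Nat.dvd_iff_prime_pow_dvd_dvd _ _).mpr fun p k hp hpk => ?_
  haveI := Fact.mk hp
  obtain ⟨P, hP⟩ := Sylow.exists_subgroup_card_pow_prime p hpk
  rw [← hP, ← card_map_of_injective D.subtype_injective]
  refine card_dvd_of_le fun x hx => ?_
  obtain ⟨n, hn⟩ := IsPGroup.iff_orderOf.mp ((IsPGroup.of_card hP).map D.subtype) ⟨x, hx⟩
  rw [← Subgroup.orderOf_coe] at hn
  by_contra hxK
  exact hall p n hp x (map_subtype_le _ hx) hxK hn

/-- The opening of case NC. -/
theorem nc_opening (h : Setting S C a b u) (hcore : CoreFree S a) (hnc : ¬ H53.SE.CommAt S a) :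
    ⁅invGen S a, invGen S a⁆ = invGen S a ∧
    ptStab S a ⊓ centralizer (invGen S a : Set G) = ⊥ ∧
    BigTrans S C a b (invGen S a) ∧
    base (invGen S a) b ≠ ⊥ ∧
    ∃ q : ℕ, q.Prime ∧ ¬ q ∣ invBar S C a ∧ ∃ y ∈ base (invGen S a) b,
      (∃ n, orderOf y = q ^ n) ∧ IsBad S a (zpowers y) ∧ ¬ GoodPow S a y ∧
      ¬ CentralGood q S a b (invGen S a) ∧
      y ∉ ⁅base (invGen S a) b, base (invGen S a) b⁆ := by
  obtain ⟨hM, -, hne⟩ := bigTrans_invGen h hnc
  have hperf := commutator_invGen h hcore hnc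
  refine ⟨hperf, centralizer_invGen_eq_bot h hcore hnc, hM, hne, ?_⟩
  set D := base (invGen S a) b with hD
  haveI := h.isSolvable_pair
  haveI : Group.IsSolvable D :=
    Group.isSolvable_of_isSolvable_injective (Subgroup.inclusion_injective hM.base_le)
  haveI : Nontrivial D := (Subgroup.nontrivial_iff_ne_bot D).mpr hne
  have hproper : ⁅D, D⁆ ≠ D := fun heq =>
    (Group.IsSolvable.commutator_lt_top_of_nontrivial (G := D)).ne (Subgroup.map_injective
      D.subtype_injective (by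
        rw [Subgroup.map_subtype_commutator, heq, ← MonoidHom.range_eq_map,
          Subgroup.range_subtype]))
  obtain ⟨q, n, hq, y, hy, hyD, hyn⟩ := exists_primePow_not_mem
    (Subgroup.commutator_le_self D) hproper
  haveI : Fact q.Prime := ⟨hq⟩
  have hnot : ¬ (IsExact S a (zpowers y) ∨ GoodPow S a y ∨ CentralGood q S a b (invGen S a)) :=
    fun hh => hyD (mem_commutator_base h hM hy hyn hh (hperf.symm ▸ (mem_base.mp hy).1))
  push Not at hnot
  obtain ⟨hex, hgp, hcg⟩ := hnot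
  obtain ⟨t, ht⟩ := Set.nonempty_iff_ne_empty.mpr hex
  have hy1 : y ≠ 1 := fun e => hyD (e ▸ one_mem _)
  have heq : invCent S a (zpowers y) = {t} :=
    Set.eq_singleton_iff_unique_mem.mpr ⟨ht, fun s hs => by_contra fun hst =>
      hgp ⟨y, mem_zpowers y, hy1, s, hs, t, ht, hst⟩⟩
  refine ⟨q, hq, fun hd => ?_, y, hy, ⟨n, hyn⟩, ⟨t, heq⟩, hgp, hcg, hyD⟩
  have h1 := ncard_invCent_modEq h (zpowers_le.mpr (hM.base_le hy))
    (q := q) (IsPGroup.of_card (n := n) (by rw [Nat.card_zpowers, hyn]))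
  rw [heq, Set.ncard_singleton] at h1
  exact hq.ne_one (Nat.eq_one_of_dvd_one
    (Nat.modEq_zero_iff_dvd.mp (h1.symm.trans ((Nat.modEq_zero_iff_dvd).mpr hd))))

end Cfsg.Agent.Bridge
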