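import Cfsg.Agent.CharInduce.Isometry
import Cfsg.Agent.CharInduce.Transport
import Cfsg.Agent.CharBasic.Kernel

/-!
# Bridge P5: the restriction lemma

`M` acts transitively on `I`, the abelian subgroup `F` is regular on `I` and is a trivial
intersection set.  The permutation character restricts to `F` as the regular character, so each
linear character of `F` is a weight of exactly one constituent.  Either all regular weights lie in
one constituent, or each constituent with a regular weight restricts to `F` as one orbit sum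
(notes/helper76_bridge.md, section 3(d)).
-/

namespace Cfsg.Agent.Bridge.Restriction

open Cfsg.Agent.CharBasic Cfsg.Agent.CharInduce Finset
open scoped ComplexConjugate

universe u v

variable {M : Type u} [Group M] (F : Subgroup M)

/-- A linear character as a complex valued function. -/
def lf (l : F →* ℂˣ) : F → ℂ := fun f => (l f : ℂ)

/-- Conjugate of a function on `F`. -/
noncomputable def twist (x : M) (φ : F → ℂ) : F → ℂ :=
  fun f => extendByZero F φ (x⁻¹ * (f : M) * x)

theorem ext_twist {x : M} (hx : x ∈ Subgroup.normalizer (F : Set M)) (φ : F → ℂ) (z : M) :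
    extendByZero F (twist F x φ) z = extendByZero F φ (x⁻¹ * z * x) := by
  by_cases hz : z ∈ F
  · rw [extendByZero_of_mem _ hz]
    rfl
  · rw [extendByZero_of_not_mem _ hz, extendByZero_of_not_mem]
    intro h
    apply hz
    have := (Subgroup.mem_normalizer_iff.1 hx (x⁻¹ * z * x)).1 h
    simpa [mul_assoc] using this

theorem twist_twist {x : M} (hx : x ∈ Subgroup.normalizer (F : Set M)) (y : M) (φ : F → ℂ) :
    twist F y (twist F x φ) = twist F (y * x) φ := by
  funext f
  show extendByZero F (twist F x φ) (y⁻¹ * (f : M) * y) = _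
  rw [ext_twist F hx]
  show _ = extendByZero F φ ((y * x)⁻¹ * (f : M) * (y * x))
  simp [mul_assoc]

theorem twist_one (φ : F → ℂ) : twist F 1 φ = φ := by
  funext f
  simp [twist, extendByZero_coe]

variable [IsMulCommutative F]

theorem comm (a b : F) : a * b = b * a := mul_comm' a b

theorem twist_of_mem {c : M} (hc : c ∈ F) (φ : F → ℂ) : twist F c φ = φ := by
  funext f
  show extendByZero F φ (c⁻¹ * (f : M) * c) = φ f
  have h : (f : M) * c = c * f := congrArg Subtype.val (comm F f ⟨c, hc⟩)
  rw [mul_assoc, h, ← mul_assoc, inv_mul_cancel, one_mul, extendByZero_coe]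

theorem twist_lf {x : M} (hx : x ∈ Subgroup.normalizer (F : Set M)) (l : F →* ℂˣ) :
    ∃ l' : F →* ℂˣ, twist F x (lf F l) = lf F l' := by
  have hmem : ∀ f : F, x⁻¹ * (f : M) * x ∈ F := fun f => by
    have h := (Subgroup.mem_normalizer_iff.1 ((Subgroup.normalizer _).inv_mem hx) (f : M)).1 f.2
    simpa using h
  refine ⟨l.comp (MonoidHom.mk' (fun f => ⟨x⁻¹ * (f : M) * x, hmem f⟩) fun a b => ?_), ?_⟩
  · apply Subtype.ext
    simp [mul_assoc]
  · funext f
    show extendByZero F (lf F l) (x⁻¹ * (f : M) * x) = _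
    rw [extendByZero_of_mem _ (hmem f)]
    rfl

theorem lf_injective : Function.Injective (lf F) := by
  intro a b h
  ext f
  exact congrFun h f

theorem isClassFunction (φ : F → ℂ) : IsClassFunction F φ := by
  intro g h
  rw [comm F h g, mul_inv_cancel_right]

variable [Fintype M]

/-- The orbit sum under `N(F)/F`. -/
noncomputable def orbSum (φ : F → ℂ) : F → ℂ := fun f =>
  letI := Classical.decPred (· ∈ Subgroup.normalizer (F : Set M))
  (Nat.card F : ℂ)⁻¹ *
    ∑ x ∈ univ.filter (· ∈ Subgroup.normalizer (F : Set M)), twist F x φ f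

/-- A linear character fixed only by `F` in `N(F)`. -/
def Regular (l : F →* ℂˣ) : Prop :=
  ∀ x ∈ Subgroup.normalizer (F : Set M), twist F x (lf F l) = lf F l → x ∈ F

/-- `ν` is a conjugate of `l` under `N(F)`. -/
def InOrbit (l ν : F →* ℂˣ) : Prop :=
  ∃ x ∈ Subgroup.normalizer (F : Set M), twist F x (lf F l) = lf F ν

omit [IsMulCommutative F] in
theorem orbSum_sub (φ ψ : F → ℂ) : orbSum F (φ - ψ) = orbSum F φ - orbSum F ψ := by
  funext f
  simp only [orbSum, Pi.sub_apply]
  rw [← mul_sub, ← sum_sub_distrib]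
  congr 1
  refine sum_congr rfl fun x _ => ?_
  by_cases h : x⁻¹ * (f : M) * x ∈ F
  · simp [twist, extendByZero_of_mem _ h]
  · simp [twist, extendByZero_of_not_mem _ h]

omit [IsMulCommutative F] in
/-- Inside the trivial intersection set, induction is the orbit sum. -/
theorem ind_apply (hTI : ∀ g : M, g ∉ Subgroup.normalizer (F : Set M) → ∀ f ∈ F,
      g * f * g⁻¹ ∈ F → f = 1) (φ : F → ℂ) (h1 : φ 1 = 0) (f : F) :
    indFun F φ f = orbSum F φ f := by
  classical
  rw [indFun_apply, orbSum]
  congr 1
  rw [sum_filter]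
  refine sum_congr rfl fun x _ => ?_
  split_ifs with hx
  · rfl
  · by_cases hz : x⁻¹ * (f : M) * x ∈ F
    · have hf : (f : M) = 1 := hTI x⁻¹ (fun h => hx (by
        simpa using (Subgroup.normalizer (F : Set M)).inv_mem h)) f f.2 (by simpa using hz)
      have : x⁻¹ * (f : M) * x = ((1 : F) : M) := by rw [hf]; simp
      rw [this, extendByZero_coe, h1]
    · rw [extendByZero_of_not_mem _ hz]

omit [IsMulCommutative F] in
theorem indFun_twist {x : M} (hx : x ∈ Subgroup.normalizer (F : Set M)) (φ : F → ℂ) :
    indFun F (twist F x φ) = indFun F φ := by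
  funext g
  simp only [indFun_apply, ext_twist F hx]
  congr 1
  refine Fintype.sum_equiv (Equiv.mulRight x) _ _ fun y => ?_
  simp [mul_assoc]

/-- Inner products of orbit sums. -/
theorem classInner_orbSum [Fintype F] {l ν : F →* ℂˣ} [Decidable (InOrbit F l ν)]
    (hl : Regular F l) :
    classInner (orbSum F (lf F l)) (lf F ν) = if InOrbit F l ν then 1 else 0 := by
  classical
  set S := univ.filter (· ∈ Subgroup.normalizer (F : Set M)) with hS
  have h1 : classInner (orbSum F (lf F l)) (lf F ν)
      = (Nat.card F : ℂ)⁻¹ * ∑ x ∈ S, classInner (twist F x (lf F l)) (lf F ν) := by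
    rw [← classInner_sum_left, ← classInner_smul_left]
    congr 1
    funext f
    simp [orbSum, hS, Finset.sum_apply]
  have h2 : ∀ x ∈ S, classInner (twist F x (lf F l)) (lf F ν)
      = if twist F x (lf F l) = lf F ν then 1 else 0 := by
    intro x hx
    obtain ⟨l', hl'⟩ := twist_lf F (mem_filter.1 hx).2 l
    rw [hl']
    exact classInner_irr (isIrrCharacter_hom l') (isIrrCharacter_hom ν)
  rw [h1, sum_congr rfl h2]
  split_ifs with hor
  · obtain ⟨x₀, hx₀, he⟩ := hor
    have hset : S.filter (fun x => twist F x (lf F l) = lf F ν)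
        = univ.filter (fun x => x₀⁻¹ * x ∈ F) := by
      ext x
      simp only [hS, mem_filter, mem_univ, true_and]
      constructor
      · rintro ⟨hx, hxe⟩
        refine hl _ ((Subgroup.normalizer _).mul_mem ((Subgroup.normalizer _).inv_mem hx₀) hx) ?_
        rw [← twist_twist F hx, hxe, ← he, twist_twist F hx₀, inv_mul_cancel, twist_one]
      · intro hx
        have hN : x ∈ Subgroup.normalizer (F : Set M) := by
          have := (Subgroup.normalizer (F : Set M)).mul_mem hx₀ (Subgroup.le_normalizer hx)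
          simpa using this
        refine ⟨hN, ?_⟩
        calc twist F x (lf F l) = twist F x₀ (twist F (x₀⁻¹ * x) (lf F l)) := by
              rw [twist_twist F (Subgroup.le_normalizer hx), mul_inv_cancel_left]
          _ = lf F ν := by rw [twist_of_mem F hx, he]
    rw [← sum_filter, sum_const, hset, nsmul_one]
    have hc : #(univ.filter fun x : M => x₀⁻¹ * x ∈ F) = Nat.card F := by
      rw [Nat.card_eq_fintype_card, Fintype.card_subtype]
      exact Finset.card_equiv (Equiv.mulLeft x₀⁻¹) fun x => by simp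
    rw [hc, inv_mul_cancel₀ (card_ne_zero_complex F)]
  · rw [sum_eq_zero, mul_zero]
    intro x hx
    rw [if_neg]
    exact fun h => hor ⟨x, (mem_filter.1 hx).2, h⟩

theorem inOrbit_self (l : F →* ℂˣ) : InOrbit F l l :=
  ⟨1, Subgroup.one_mem _, twist_one F _⟩

/-- The generalised character induced from a difference of two regular orbits has norm two. -/
theorem norm_ind_sub [Fintype F] (hTI : ∀ g : M, g ∉ Subgroup.normalizer (F : Set M) → ∀ f ∈ F,
      g * f * g⁻¹ ∈ F → f = 1) {l m : F →* ℂˣ} (hl : Regular F l) (hm : Regular F m)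
    (hlm : ¬ InOrbit F l m) (hml : ¬ InOrbit F m l) :
    classInner (indFun F (lf F l - lf F m)) (indFun F (lf F l - lf F m)) = 2 := by
  classical
  have h1 : (lf F l - lf F m) 1 = 0 := by simp [lf]
  rw [classInner_indFun_left F _ _ (isClassFunction_indFun F _)]
  rw [show (fun h : F => indFun F (lf F l - lf F m) (h : M)) = orbSum F (lf F l - lf F m) from
    funext fun f => ind_apply F hTI _ h1 f]
  rw [← classInner_conj_symm, orbSum_sub]
  simp [classInner_sub_left, classInner_sub_right, classInner_orbSum F hl, classInner_orbSum F hm,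
    inOrbit_self, hlm, hml]
  norm_num

section Action

variable {I : Type v} [MulAction M I]

/-- The permutation character. -/
noncomputable def permChar (M : Type u) [Group M] (I : Type v) [MulAction M I] : M → ℂ :=
  fun g => (Nat.card (MulAction.fixedBy I g) : ℂ)

/-- `l` is a weight of the constituent `χ` of the permutation character. -/
def Meets [Fintype F] (I : Type v) [MulAction M I] (χ : IrrCharacter M) (l : F →* ℂˣ) : Prop :=
  classInner (permChar M I) (χ : M → ℂ) ≠ 0 ∧
    classInner (fun f : F => (χ : M → ℂ) (f : M)) (lf F l) ≠ 0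

/-- The weight multiplicity. -/
noncomputable def wt [Fintype F] (χ : IrrCharacter M) (l : F →* ℂˣ) : ℕ :=
  Classical.choose (classInner_isChar_nat (IsChar.res (CharBasic.IsIrr.isCharacter χ.2) F)
    (isCharacter_hom l))

omit [IsMulCommutative F] in
theorem wt_spec [Fintype F] (χ : IrrCharacter M) (l : F →* ℂˣ) :
    classInner (fun f : F => (χ : M → ℂ) (f : M)) (lf F l) = (wt F χ l : ℂ) :=
  Classical.choose_spec (classInner_isChar_nat (IsChar.res (CharBasic.IsIrr.isCharacter χ.2) F)
    (isCharacter_hom l))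

omit [IsMulCommutative F] in
theorem classInner_ind_eq_wt [Fintype F] (χ : IrrCharacter M) (l : F →* ℂˣ) :
    classInner (indFun F (lf F l)) (χ : M → ℂ) = (wt F χ l : ℂ) := by
  rw [classInner_indFun_left F _ _ (CharBasic.IsIrr.isClassFunction χ.2),
    ← classInner_conj_symm, wt_spec, Complex.conj_natCast]

theorem wt_eq_of_inOrbit [Fintype F] {l m : F →* ℂˣ} (h : InOrbit F l m) (χ : IrrCharacter M) :
    wt F χ m = wt F χ l := by
  obtain ⟨x, hx, he⟩ := h
  have := classInner_ind_eq_wt F χ m
  rw [← he, indFun_twist F hx, classInner_ind_eq_wt] at this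
  exact_mod_cast this.symm

variable [Finite I]

omit [IsMulCommutative F] in
theorem pretransitive (hreg : ∀ x y : I, ∃! f : F, (f : M) • x = y) :
    MulAction.IsPretransitive M I :=
  ⟨fun x y => let ⟨f, hf, _⟩ := hreg x y; ⟨f, hf⟩⟩

omit [IsMulCommutative F] in
theorem isCharacter_permChar [Nonempty I] (hreg : ∀ x y : I, ∃! f : F, (f : M) • x = y) :
    IsCharacter M (permChar M I) := by
  haveI := pretransitive F hreg
  obtain ⟨x₀⟩ := ‹Nonempty I›
  unfold permChar
  rw [fixedBy_eq_indFun x₀]
  exact Cfsg.Agent.CharInduce.IsChar.ind _ IsChar.one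

omit [IsMulCommutative F] in
/-- On `F` the permutation character is the regular one. -/
theorem classInner_res_permChar [Fintype F] [Nonempty I]
    (hreg : ∀ x y : I, ∃! f : F, (f : M) • x = y) (l : F →* ℂˣ) :
    classInner (fun f : F => permChar M I (f : M)) (lf F l) = 1 := by
  classical
  obtain ⟨x₀⟩ := ‹Nonempty I›
  have hI : Nat.card I = Nat.card F := by
    refine (Nat.card_congr (Equiv.ofBijective (fun f : F => (f : M) • x₀) ⟨?_, ?_⟩)).symm
    · intro a b h
      exact (hreg x₀ _).unique h rfl
    · intro y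
      exact (hreg x₀ y).exists
  rw [classInner_def, Finset.sum_eq_single (1 : F)]
  · have h1 : permChar M I ((1 : F) : M) = (Nat.card F : ℂ) := by
      rw [← hI, permChar]
      congr 1
      exact Nat.card_congr (Equiv.subtypeUnivEquiv fun y => by simp)
    rw [h1]
    simp [lf, card_ne_zero_complex]
  · intro f _ hf
    have h0 : permChar M I (f : M) = 0 := by
      haveI : IsEmpty (MulAction.fixedBy I (f : M)) :=
        ⟨fun y => hf ((hreg y.1 y.1).unique y.2 (by simp))⟩
      simp [permChar]
    rw [h0, zero_mul]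
  · simp

omit [IsMulCommutative F] in
/-- Each linear character of `F` is a weight of exactly one constituent, once. -/
theorem exists_unique_meets [Fintype F] [Nonempty I]
    (hreg : ∀ x y : I, ∃! f : F, (f : M) • x = y) (l : F →* ℂˣ) :
    ∃ χ : IrrCharacter M, Meets F I χ l ∧ wt F χ l = 1 ∧
      classInner (permChar M I) (χ : M → ℂ) = 1 ∧ ∀ ψ, Meets F I ψ l → ψ = χ := by
  classical
  have hπ := isCharacter_permChar F hreg
  choose c hc using fun χ : IrrCharacter M =>
    classInner_isChar_nat hπ (CharBasic.IsIrr.isCharacter χ.2)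
  have hsum : ∑ χ : IrrCharacter M, c χ * wt F χ l = 1 := by
    have h := classInner_res_permChar F hreg l
    have he : (fun f : F => permChar M I (f : M))
        = ∑ χ : IrrCharacter M, (c χ : ℂ) • fun f : F => (χ : M → ℂ) (f : M) := by
      funext f
      have := congrFun (classFunction_expansion
        (CharBasic.IsChar.isClassFunction hπ)) (f : M)
      simpa [hc, Finset.sum_apply] using this
    rw [he, classInner_sum_left] at h
    simp only [classInner_smul_left, wt_spec] at h
    exact_mod_cast h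
  have hmeets : ∀ ψ, Meets F I ψ l ↔ c ψ * wt F ψ l ≠ 0 := by
    intro ψ
    rw [Meets, hc, wt_spec, Nat.cast_ne_zero, Nat.cast_ne_zero, mul_ne_zero_iff]
  obtain ⟨χ, -, hχ⟩ := Finset.exists_ne_zero_of_sum_ne_zero (by rw [hsum]; exact one_ne_zero)
  have h1 : c χ * wt F χ l = 1 := by
    have := Finset.single_le_sum (f := fun χ => c χ * wt F χ l) (fun _ _ => Nat.zero_le _)
      (mem_univ χ)
    simp only [hsum] at this
    omega
  refine ⟨χ, (hmeets χ).2 hχ, Nat.eq_one_of_mul_eq_one_left h1, ?_, fun ψ hψ => ?_⟩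
  · rw [hc, Nat.eq_one_of_mul_eq_one_right h1, Nat.cast_one]
  · by_contra hne
    have h2 : ∑ x ∈ ({ψ, χ} : Finset (IrrCharacter M)), c x * wt F x l ≤ 1 :=
      hsum ▸ Finset.sum_le_sum_of_subset (subset_univ _)
    rw [Finset.sum_pair hne, h1] at h2
    have := (hmeets ψ).1 hψ
    omega

/-- Two constituents with regular weights restrict to `F` as orbit sums. -/
theorem res_eq_orbSum_of_ne [Fintype F] [Nonempty I]
    (hreg : ∀ x y : I, ∃! f : F, (f : M) • x = y)
    (hTI : ∀ g : M, g ∉ Subgroup.normalizer (F : Set M) → ∀ f ∈ F, g * f * g⁻¹ ∈ F → f = 1)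
    {l m : F →* ℂˣ} (hl : Regular F l) (hm : Regular F m) {χ ψ : IrrCharacter M}
    (hχ : Meets F I χ l) (hψ : Meets F I ψ m) (hne : χ ≠ ψ) :
    (fun f : F => (χ : M → ℂ) (f : M)) = orbSum F (lf F l) := by
  classical
  -- weights of a constituent
  have hzero : ∀ {θ ρ : IrrCharacter M} {ν : F →* ℂˣ}, Meets F I θ ν → θ ≠ ρ →
      classInner (permChar M I) (ρ : M → ℂ) ≠ 0 → wt F ρ ν = 0 := by
    intro θ ρ ν hθ hθρ hρ
    obtain ⟨e, -, -, -, hu⟩ := exists_unique_meets F hreg ν
    by_contra hw
    exact hθρ ((hu θ hθ).trans (hu ρ ⟨hρ, by rw [wt_spec]; exact_mod_cast hw⟩).symm)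
  have hone : ∀ {θ : IrrCharacter M} {ν : F →* ℂˣ}, Meets F I θ ν → wt F θ ν = 1 := by
    intro θ ν hθ
    obtain ⟨e, -, hw, -, hu⟩ := exists_unique_meets F hreg ν
    rw [hu θ hθ, hw]
  have hcross : wt F χ m = 0 := hzero hψ (Ne.symm hne) hχ.1
  have hcross' : wt F ψ l = 0 := hzero hχ hne hψ.1
  have hlm : ¬ InOrbit F l m := fun h => by
    have := wt_eq_of_inOrbit F h χ
    rw [hcross, hone hχ] at this
    omega
  have hml : ¬ InOrbit F m l := fun h => by
    have := wt_eq_of_inOrbit F h χ
    rw [hcross, hone hχ] at this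
    omega
  -- the isometry
  have h1 : (lf F l - lf F m) 1 = 0 := by simp [lf]
  have hgen : IsGeneralizedCharacter M (indFun F (lf F l - lf F m)) :=
    Cfsg.Agent.CharInduce.IsGen.ind F ⟨_, _, isCharacter_hom l, isCharacter_hom m, rfl⟩
  obtain ⟨a, b, -, hα⟩ := Isometry.exists_eq_sub_of_norm_two hgen
    (by rw [indFun_one, h1, mul_zero]) (norm_ind_sub F hTI hl hm hlm hml)
  have hval : ∀ θ : IrrCharacter M, ((wt F θ l : ℂ) - (wt F θ m : ℂ))
      = (if a = θ then 1 else 0) - (if b = θ then 1 else 0) := by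
    intro θ
    rw [← classInner_irrCharacter a θ, ← classInner_irrCharacter b θ, ← classInner_sub_left, ← hα,
      indFun_sub, classInner_sub_left, classInner_ind_eq_wt, classInner_ind_eq_wt]
  have ha : a = χ := by
    have h := hval χ
    rw [hone hχ, hcross] at h
    by_contra hne'
    rw [if_neg hne'] at h
    split_ifs at h <;> norm_num at h
  have hb : b = ψ := by
    have h := hval ψ
    rw [hone hψ, hcross'] at h
    by_contra hne'
    rw [if_neg hne', if_neg (by rw [ha]; exact hne)] at h
    norm_num at h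
  have hdiff : ∀ f : F, (χ : M → ℂ) (f : M) - (ψ : M → ℂ) (f : M)
      = orbSum F (lf F l) f - orbSum F (lf F m) f := by
    intro f
    have h := ind_apply F hTI _ h1 f
    rw [hα, ha, hb, orbSum_sub] at h
    simpa using h
  refine classFunction_ext (isClassFunction F _) (isClassFunction F _) fun ρ => ?_
  obtain ⟨ν, hν⟩ := IsChar.exists_hom_of_degree_one (CharBasic.IsIrr.isCharacter ρ.2)
    (IsIrr.degree_one_of_comm (comm F) ρ.2)
  have hρ : (ρ : F → ℂ) = lf F ν := funext hν
  rw [hρ, wt_spec, classInner_orbSum F hl]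
  have hd : (wt F χ ν : ℂ) - wt F ψ ν
      = (if InOrbit F l ν then (1 : ℂ) else 0) - (if InOrbit F m ν then 1 else 0) := by
    rw [← wt_spec, ← wt_spec, ← classInner_sub_left, ← classInner_orbSum F hl,
      ← classInner_orbSum F hm, ← classInner_sub_left]
    congr 1
    funext f
    exact hdiff f
  by_cases hlν : InOrbit F l ν
  · rw [if_pos hlν, wt_eq_of_inOrbit F hlν χ, hone hχ, Nat.cast_one]
  · rw [if_neg hlν]
    by_cases hmν : InOrbit F m ν
    · rw [wt_eq_of_inOrbit F hmν χ, hcross, Nat.cast_zero]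
    · rw [if_neg hlν, if_neg hmν, sub_zero, sub_eq_zero] at hd
      have hd' : wt F χ ν = wt F ψ ν := by exact_mod_cast hd
      by_contra hw
      have hwχ : wt F χ ν ≠ 0 := by exact_mod_cast hw
      have hm1 : Meets F I χ ν := ⟨hχ.1, by rw [wt_spec]; exact_mod_cast hwχ⟩
      exact hwχ (hd'.trans (hzero hm1 hne hψ.1))

/-- **Restriction lemma**: either all regular weights lie in one constituent, or every constituent
with a regular weight restricts to `F` as the orbit sum of that weight. -/
theorem dichotomy [Fintype F] [Nonempty I]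
    (hreg : ∀ x y : I, ∃! f : F, (f : M) • x = y)
    (hTI : ∀ g : M, g ∉ Subgroup.normalizer (F : Set M) → ∀ f ∈ F, g * f * g⁻¹ ∈ F → f = 1) :
    (∀ (l m : F →* ℂˣ) (χ ψ : IrrCharacter M), Regular F l → Regular F m →
        Meets F I χ l → Meets F I ψ m → χ = ψ) ∨
      (∀ (l : F →* ℂˣ) (χ : IrrCharacter M), Regular F l → Meets F I χ l →
        (fun f : F => (χ : M → ℂ) (f : M)) = orbSum F (lf F l)) := by
  by_cases h : ∀ (l m : F →* ℂˣ) (χ ψ : IrrCharacter M), Regular F l → Regular F m →
      Meets F I χ l → Meets F I ψ m → χ = ψ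
  · exact Or.inl h
  · push Not at h
    obtain ⟨l₀, m₀, χ₀, ψ₀, hl₀, hm₀, hχ₀, hψ₀, hne⟩ := h
    refine Or.inr fun l χ hl hχ => ?_
    by_cases hc : χ = χ₀
    · exact res_eq_orbSum_of_ne F hreg hTI hl hm₀ hχ hψ₀ (hc ▸ hne)
    · exact res_eq_orbSum_of_ne F hreg hTI hl hl₀ hχ hχ₀ hc

/-- A constituent whose weights are trivial on `K` has `K` in its kernel. -/
theorem apply_eq_one_of_weights [Fintype F] (χ : IrrCharacter M) (K : Set M)
    (hw : ∀ l : F →* ℂˣ, classInner (fun f : F => (χ : M → ℂ) (f : M)) (lf F l) ≠ 0 →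
      ∀ k : F, (k : M) ∈ K → l k = 1)
    (k : F) (hk : (k : M) ∈ K) : (χ : M → ℂ) (k : M) = (χ : M → ℂ) 1 := by
  classical
  have hexp := classFunction_expansion (isClassFunction F fun f : F => (χ : M → ℂ) (f : M))
  have h1 := congrFun hexp k
  have h2 := congrFun hexp 1
  simp only [OneMemClass.coe_one] at h2
  simp only [Finset.sum_apply] at h1 h2
  rw [h1, h2]
  refine sum_congr rfl fun ρ _ => ?_
  obtain ⟨ν, hν⟩ := IsChar.exists_hom_of_degree_one (CharBasic.IsIrr.isCharacter ρ.2)
    (IsIrr.degree_one_of_comm (comm F) ρ.2)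
  have hρ : (ρ : F → ℂ) = lf F ν := funext hν
  rw [hρ]
  by_cases h0 : classInner (fun f : F => (χ : M → ℂ) (f : M)) (lf F ν) = 0
  · simp [h0]
  · simp [lf, hw ν h0 k hk]

end Action

omit [IsMulCommutative F] in
/-- A normal subgroup in the kernel of a constituent other than the principal one is not
transitive. -/
theorem not_pretransitive_of_constituent {I : Type v} [MulAction M I] [Finite I] [Nonempty I]
    (htr : MulAction.IsPretransitive M I) {χ : IrrCharacter M}
    (hχ : classInner (permChar M I) (χ : M → ℂ) ≠ 0) (hχ1 : (χ : M → ℂ) ≠ fun _ => 1)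
    (N : Subgroup M) (hN : ∀ n ∈ N, (χ : M → ℂ) n = (χ : M → ℂ) 1) :
    ¬ MulAction.IsPretransitive N I := by
  classical
  intro htrN
  haveI := htr
  letI := Fintype.ofFinite I
  have hmul : ∀ n ∈ N, ∀ g, (χ : M → ℂ) (n * g) = (χ : M → ℂ) g := fun n hn g =>
    CharBasic.IsChar.eq_one_mul (CharBasic.IsIrr.isCharacter χ.2) (hN n hn) g
  have htot : ∑ g : M, (χ : M → ℂ) g = 0 := by
    have h := classInner_irr_of_ne χ.2 isIrrCharacter_one hχ1
    simp only [classInner_def, map_one, mul_one] at h
    rcases mul_eq_zero.1 h with h | h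
    · exact absurd h (inv_ne_zero (card_ne_zero_complex M))
    · exact h
  -- every transporter sum vanishes
  have hfix : ∀ x : I, ∑ g ∈ univ.filter (fun g : M => g • x = x), (χ : M → ℂ) g = 0 := by
    intro x
    have heq : ∀ y : I, ∑ g ∈ univ.filter (fun g : M => g • x = y), (χ : M → ℂ) g
        = ∑ g ∈ univ.filter (fun g : M => g • x = x), (χ : M → ℂ) g := by
      intro y
      obtain ⟨⟨n, hn⟩, hny⟩ := MulAction.exists_smul_eq N x y
      replace hny : n • x = y := hny
      refine (Finset.sum_equiv (Equiv.mulLeft n) (fun g => ?_) fun g _ => ?_).symm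
      · simp [mul_smul, ← hny, smul_left_cancel_iff]
      · exact (hmul n hn g).symm
    have h := htot
    rw [← sum_fiberwise univ (fun g : M => g • x) fun g => (χ : M → ℂ) g,
      sum_congr rfl fun y _ => heq y, sum_const, nsmul_eq_mul] at h
    rcases mul_eq_zero.1 h with h | h
    · simp at h
    · exact h
  apply hχ
  rw [classInner_def]
  have hperm : ∀ g : M, permChar M I g = ∑ x : I, if g • x = x then (1 : ℂ) else 0 := by
    intro g
    rw [permChar, Nat.card_eq_fintype_card, Fintype.card_subtype, Finset.sum_boole]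
    simp
  simp only [hperm, sum_mul]
  rw [sum_comm, Finset.sum_eq_zero, mul_zero]
  intro x _
  have h := congrArg (starRingEnd ℂ) (hfix x)
  rw [map_sum, map_zero, sum_filter] at h
  refine Eq.trans ?_ h
  refine sum_congr rfl fun g _ => ?_
  split_ifs <;> simp

/-- **Block corollary**: a constituent other than the principal one whose weights are trivial on
`K` gives a normal subgroup containing `K` which is not transitive. -/
theorem exists_normal_not_pretransitive [Fintype F] {I : Type v} [MulAction M I] [Finite I]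
    [Nonempty I] (htr : MulAction.IsPretransitive M I) {χ : IrrCharacter M}
    (hχ : classInner (permChar M I) (χ : M → ℂ) ≠ 0) (hχ1 : (χ : M → ℂ) ≠ fun _ => 1)
    (K : Subgroup M) (hKF : K ≤ F)
    (hw : ∀ l : F →* ℂˣ, classInner (fun f : F => (χ : M → ℂ) (f : M)) (lf F l) ≠ 0 →
      ∀ k : F, (k : M) ∈ K → l k = 1) :
    ∃ N : Subgroup M, N.Normal ∧ K ≤ N ∧ ¬ MulAction.IsPretransitive N I := by
  obtain ⟨N, hN, hmem, -⟩ :=
    CharBasic.IsChar.exists_kernel (CharBasic.IsIrr.isCharacter χ.2)
  exact ⟨N, hN, fun k hk => (hmem k).2 (apply_eq_one_of_weights F χ K hw ⟨k, hKF hk⟩ hk),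
    not_pretransitive_of_constituent htr hχ hχ1 N fun n hn => (hmem n).1 hn⟩

end Cfsg.Agent.Bridge.Restriction
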