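import Cfsg.Agent.Bridge.Restriction
import Cfsg.Agent.H80.Glauberman

/-!
# Bridge P5: from the restriction lemma to the suborbits

Constituents of the permutation character are constant on the suborbits.  If each constituent
other than the principal one has a regular weight, then either a point stabiliser is transitive on
the other points, or its orbits are those of its intersection with `N(F)`.
-/

namespace Cfsg.Agent.Bridge.Restriction

open Cfsg.Agent.CharBasic Cfsg.Agent.CharInduce Finset
open scoped ComplexConjugate

universe u v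

variable {M : Type u} [Group M] [Fintype M] (F : Subgroup M)

theorem orbSum_twist {x : M} (hx : x ∈ Subgroup.normalizer (F : Set M)) (φ : F → ℂ) :
    orbSum F (twist F x φ) = orbSum F φ := by
  classical
  funext f
  rw [orbSum, orbSum]
  congr 1
  refine Finset.sum_equiv (Equiv.mulRight x) (fun y => ?_) fun y _ => ?_
  · simp only [mem_filter, mem_univ, true_and, Equiv.coe_mulRight]
    constructor
    · intro hy
      exact (Subgroup.normalizer (F : Set M)).mul_mem hy hx
    · intro hy
      have := (Subgroup.normalizer (F : Set M)).mul_mem hy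
        ((Subgroup.normalizer (F : Set M)).inv_mem hx)
      simpa using this
  · simp only [Equiv.coe_mulRight, twist_twist F hx]

variable {I : Type v} [MulAction M I] [Finite I]

/-- A constituent of the permutation character is constant on each suborbit. -/
theorem res_eq_of_suborbit [IsMulCommutative F] [Nonempty I] (hreg : ∀ x y : I, ∃! f : F, (f : M) • x = y) (t : I)
    (χ : IrrCharacter M) (hχ : classInner (permChar M I) (χ : M → ℂ) ≠ 0)
    {g : M} (hg : g • t = t) {f f' : F} (h : g • ((f : M) • t) = (f' : M) • t) :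
    (χ : M → ℂ) (f : M) = (χ : M → ℂ) (f' : M) := by
  classical
  haveI := pretransitive F hreg
  set S := univ.filter (fun u : M => u • t = t) with hS
  have hcl := CharBasic.IsIrr.isClassFunction χ.2
  have hcomm : ∀ a b : M, (χ : M → ℂ) (a * b) = (χ : M → ℂ) (b * a) := by
    intro a b
    have := hcl (b * a) a
    rw [show a * (b * a) * a⁻¹ = a * b by group] at this
    exact this
  have hsum : ∑ u ∈ S, (χ : M → ℂ) u ≠ 0 := by
    intro h0
    apply hχ
    unfold permChar
    rw [fixedBy_eq_indFun t, classInner_indFun_left _ _ _ hcl, classInner_def]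
    have : ∑ u : MulAction.stabilizer M t, (starRingEnd ℂ) ((χ : M → ℂ) (u : M))
        = (starRingEnd ℂ) (∑ u ∈ S, (χ : M → ℂ) u) := by
      rw [map_sum]
      exact (Finset.sum_subtype S (by simp [hS, MulAction.mem_stabilizer_iff])
        fun u => (starRingEnd ℂ) ((χ : M → ℂ) u)).symm
    simp [this, h0]
  have hT : ∀ a : F, (χ : M → ℂ) 1 * ∑ u ∈ S, (χ : M → ℂ) ((a : M) * u)
      = (χ : M → ℂ) (a : M) * ∑ u ∈ S, (χ : M → ℂ) u := by
    intro a
    have hconj : ∀ c : M, ∑ u ∈ S, (χ : M → ℂ) ((a : M) * (c * u * c⁻¹))
        = (∑ u ∈ S, (χ : M → ℂ) ((a : M) * u)) := by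
      intro c
      obtain ⟨b, hb, -⟩ := hreg t (c • t)
      set d := (b : M)⁻¹ * c with hd
      have hdt : d • t = t := by rw [hd, mul_smul, ← hb, inv_smul_smul]
      refine Finset.sum_equiv (MulAut.conj d).toEquiv (fun u => ?_) fun u _ => ?_
      · simp only [hS, mem_filter, mem_univ, true_and]
        show u • t = t ↔ (d * u * d⁻¹) • t = t
        have hdi : d⁻¹ • t = t := inv_smul_eq_iff.2 hdt.symm
        rw [mul_smul, mul_smul, hdi]
        constructor
        · intro hu
          rw [hu, hdt]
        · intro hu
          rwa [smul_eq_iff_eq_inv_smul, hdi] at hu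
      · have hab : (a : M) * b = b * a := congrArg Subtype.val (comm F a b)
        show (χ : M → ℂ) ((a : M) * (c * u * c⁻¹)) = (χ : M → ℂ) ((a : M) * (d * u * d⁻¹))
        rw [show (a : M) * (c * u * c⁻¹) = ((a : M) * b) * (d * u * d⁻¹) * (b : M)⁻¹ by
          rw [hd]; group, hab, hcomm]
        congr 1
        group
    have h2 : ∑ c : M, ∑ u ∈ S, (χ : M → ℂ) 1 * (χ : M → ℂ) ((a : M) * (c * u * c⁻¹))
        = ∑ u ∈ S, (Nat.card M : ℂ) * (χ : M → ℂ) (a : M) * (χ : M → ℂ) u := by
      rw [sum_comm]
      refine sum_congr rfl fun u _ => ?_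
      rw [← mul_sum, H80.sum_conj_mul]
    simp only [← mul_sum, hconj, sum_const, card_univ, nsmul_eq_mul, ← Nat.card_eq_fintype_card]
      at h2
    refine mul_left_cancel₀ (card_ne_zero_complex M) ?_
    rw [← mul_assoc]
    linear_combination h2
  -- the two transporter sums agree
  have heq : ∑ u ∈ S, (χ : M → ℂ) ((f' : M) * u) = ∑ u ∈ S, (χ : M → ℂ) ((f : M) * u) := by
    set k := (f' : M)⁻¹ * g * f with hk
    have hkt : k • t = t := by rw [hk, mul_smul, mul_smul, h, inv_smul_smul]
    have e1 : ∑ u ∈ S, (χ : M → ℂ) ((f' : M) * u)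
        = ∑ u ∈ S, (χ : M → ℂ) ((f' : M) * (k * u)) := by
      refine (Finset.sum_equiv (Equiv.mulLeft k) (fun u => ?_) fun u _ => rfl).symm
      simp only [hS, mem_filter, mem_univ, true_and, Equiv.coe_mulLeft, mul_smul]
      constructor
      · intro hu; rw [hu, hkt]
      · intro hu; exact smul_left_cancel k (hu.trans hkt.symm)
    rw [e1]
    refine Finset.sum_equiv (Equiv.mulRight g) (fun u => ?_) fun u _ => ?_
    · simp only [hS, mem_filter, mem_univ, true_and, Equiv.coe_mulRight, mul_smul, hg]
    · simp only [Equiv.coe_mulRight]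
      rw [hk, ← mul_assoc (f : M), hcomm (((f : M)) * u) g]
      congr 1
      group
  have h1 := hT f
  have h2 := hT f'
  rw [heq] at h2
  exact mul_right_cancel₀ hsum (h1.symm.trans h2)

/-- **Suborbits**: if each non-principal constituent has a regular weight, the stabiliser of `t`
is transitive on the other points or its orbits are those of its intersection with `N(F)`. -/
theorem suborbits [IsMulCommutative F] [Fintype F] [Nonempty I]
    (hreg : ∀ x y : I, ∃! f : F, (f : M) • x = y)
    (hTI : ∀ g : M, g ∉ Subgroup.normalizer (F : Set M) → ∀ f ∈ F, g * f * g⁻¹ ∈ F → f = 1)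
    (hsing : ∀ χ : IrrCharacter M, classInner (permChar M I) (χ : M → ℂ) ≠ 0 →
      (χ : M → ℂ) ≠ (fun _ => 1) → ∃ l : F →* ℂˣ, Regular F l ∧ Meets F I χ l) (t : I) :
    (∀ x y : I, x ≠ t → y ≠ t → ∃ g : M, g • t = t ∧ g • x = y) ∨
      (∀ (g : M) (x : I), g • t = t →
        ∃ b ∈ Subgroup.normalizer (F : Set M), b • t = t ∧ b • x = g • x) := by
  classical
  haveI := pretransitive F hreg
  rcases dichotomy F hreg hTI with h1 | h2
  · left
    -- at most two constituents
    have hπ := isCharacter_permChar F hreg
    have hsub : ∀ χ ψ : IrrCharacter M, classInner (permChar M I) (χ : M → ℂ) ≠ 0 →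
        (χ : M → ℂ) ≠ (fun _ => 1) → classInner (permChar M I) (ψ : M → ℂ) ≠ 0 →
        (ψ : M → ℂ) ≠ (fun _ => 1) → χ = ψ := by
      intro χ ψ hχ hχ1 hψ hψ1
      obtain ⟨l, hl, hlm⟩ := hsing χ hχ hχ1
      obtain ⟨m, hm, hmm⟩ := hsing ψ hψ hψ1
      exact h1 l m χ ψ hl hm hlm hmm
    have hmult : ∀ χ : IrrCharacter M, classInner (permChar M I) (χ : M → ℂ) = 0 ∨
        classInner (permChar M I) (χ : M → ℂ) = 1 := by
      intro χ
      by_cases hχ : classInner (permChar M I) (χ : M → ℂ) = 0
      · exact Or.inl hχ
      refine Or.inr ?_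
      by_cases hχ1 : (χ : M → ℂ) = fun _ => 1
      · obtain ⟨e, he, -, hc, -⟩ := exists_unique_meets F hreg (1 : F →* ℂˣ)
        have hχm : Meets F I χ (1 : F →* ℂˣ) := ⟨hχ, by
          simp [hχ1, classInner_def, lf, card_ne_zero_complex]⟩
        obtain ⟨e', -, -, hc', hu'⟩ := exists_unique_meets F hreg (1 : F →* ℂˣ)
        rw [hu' χ hχm]
        exact hc'
      · obtain ⟨l, -, hlm⟩ := hsing χ hχ hχ1
        obtain ⟨e', -, -, hc', hu'⟩ := exists_unique_meets F hreg l
        rw [hu' χ hlm]
        exact hc'
    have hnorm : ∃ n : ℕ, n ≤ 2 ∧ classInner (permChar M I) (permChar M I) = n := by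
      refine ⟨#(univ.filter fun χ : IrrCharacter M =>
        classInner (permChar M I) (χ : M → ℂ) ≠ 0), ?_, ?_⟩
      · have hle : (univ.filter fun χ : IrrCharacter M =>
            classInner (permChar M I) (χ : M → ℂ) ≠ 0)
            ⊆ (univ.filter fun χ : IrrCharacter M => (χ : M → ℂ) = fun _ => 1) ∪
              (univ.filter fun χ : IrrCharacter M =>
                classInner (permChar M I) (χ : M → ℂ) ≠ 0 ∧ (χ : M → ℂ) ≠ fun _ => 1) := by
          intro χ hχ
          simp only [mem_filter, mem_univ, true_and, mem_union] at hχ ⊢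
          tauto
        refine (card_le_card hle).trans ((card_union_le _ _).trans (Nat.add_le_add (card_le_one.2 ?_)
          (card_le_one.2 ?_)))
        · intro a ha b hb
          simp only [mem_filter, mem_univ, true_and] at ha hb
          exact Subtype.ext (ha.trans hb.symm)
        · intro a ha b hb
          simp only [mem_filter, mem_univ, true_and] at ha hb
          exact hsub a b ha.1 ha.2 hb.1 hb.2
      · rw [classInner_eq_sum (CharBasic.IsChar.isClassFunction hπ), ← sum_boole]
        refine sum_congr rfl fun χ _ => ?_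
        rcases hmult χ with h | h <;> simp [h]
    obtain ⟨n, hn2, hn⟩ := hnorm
    -- the number of suborbits
    have horb : Nat.card (MulAction.orbitRel.Quotient (MulAction.stabilizer M t) I) ≤ 2 := by
      letI := Fintype.ofFinite I
      have hb := MulAction.sum_card_fixedBy_eq_card_orbits_mul_card_group
        (MulAction.stabilizer M t) I
      have hn' := hn
      unfold permChar at hn'
      conv_lhs at hn' => arg 1; rw [fixedBy_eq_indFun t]
      rw [classInner_indFun_left _ _ _
        (CharBasic.IsChar.isClassFunction (G := M) (by unfold permChar at hπ; exact hπ)),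
        classInner_def, inv_mul_eq_iff_eq_mul₀ (card_ne_zero_complex _)] at hn'
      simp only [one_mul, Complex.conj_natCast] at hn'
      have hb' : (∑ a : MulAction.stabilizer M t,
          (Nat.card (MulAction.fixedBy I (a : M)) : ℂ))
          = ((Fintype.card (MulAction.orbitRel.Quotient (MulAction.stabilizer M t) I) *
            Fintype.card (MulAction.stabilizer M t) : ℕ) : ℂ) := by
        rw [← hb, Nat.cast_sum]
        refine sum_congr rfl fun a _ => ?_
        rw [← Nat.card_eq_fintype_card]
        rfl
      rw [hb', Nat.card_eq_fintype_card] at hn'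
      have hN : Fintype.card (MulAction.orbitRel.Quotient (MulAction.stabilizer M t) I) *
          Fintype.card (MulAction.stabilizer M t)
          = Fintype.card (MulAction.stabilizer M t) * n := by exact_mod_cast hn'
      rw [mul_comm _ n] at hN
      rw [Nat.card_eq_fintype_card, Nat.eq_of_mul_eq_mul_right Fintype.card_pos hN]
      exact hn2
    intro x y hx hy
    letI := Fintype.ofFinite I
    have hne : ∀ z : I, z ≠ t →
        (Quotient.mk'' z : MulAction.orbitRel.Quotient (MulAction.stabilizer M t) I)
          ≠ Quotient.mk'' t := by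
      intro z hz he
      obtain ⟨u, hu⟩ := Quotient.exact' he
      exact hz (hu.symm.trans (MulAction.mem_stabilizer_iff.1 u.2))
    have hxy : (Quotient.mk'' x : MulAction.orbitRel.Quotient (MulAction.stabilizer M t) I)
        = Quotient.mk'' y := by
      by_contra hne'
      have h3 : ({Quotient.mk'' x, Quotient.mk'' y, Quotient.mk'' t} :
          Finset (MulAction.orbitRel.Quotient (MulAction.stabilizer M t) I)).card = 3 :=
        card_eq_three.2 ⟨_, _, _, hne', hne x hx, hne y hy, rfl⟩
      have h4 := card_le_univ ({Quotient.mk'' x, Quotient.mk'' y, Quotient.mk'' t} :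
          Finset (MulAction.orbitRel.Quotient (MulAction.stabilizer M t) I))
      rw [Nat.card_eq_fintype_card] at horb
      omega
    obtain ⟨u, hu⟩ := Quotient.exact' hxy.symm
    exact ⟨u, MulAction.mem_stabilizer_iff.1 u.2, hu⟩
  · right
    intro g x hg
    obtain ⟨f, hf, -⟩ := hreg t x
    obtain ⟨f', hf', -⟩ := hreg t (g • x)
    have hχ : ∀ χ : IrrCharacter M, classInner (permChar M I) (χ : M → ℂ) ≠ 0 →
        (χ : M → ℂ) (f : M) = (χ : M → ℂ) (f' : M) := fun χ hc =>
      res_eq_of_suborbit F hreg t χ hc hg (by rw [hf, hf'])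
    have hall : ∀ l : F →* ℂˣ, orbSum F (lf F l) f = orbSum F (lf F l) f' := by
      intro l
      by_cases hl : l = 1
      · subst hl
        simp only [orbSum]
        congr 1
        refine sum_congr rfl fun x hx => ?_
        obtain ⟨l', hl'⟩ := twist_lf F (mem_filter.1 hx).2 (1 : F →* ℂˣ)
        have hone : ∀ a : F, twist F x (lf F (1 : F →* ℂˣ)) a = 1 := by
          intro a
          have hmem : x⁻¹ * (a : M) * x ∈ F := by
            have h := (Subgroup.mem_normalizer_iff.1
              ((Subgroup.normalizer _).inv_mem (mem_filter.1 hx).2) (a : M)).1 a.2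
            simpa using h
          simp [twist, extendByZero_of_mem _ hmem, lf]
        rw [hone, hone]
      · obtain ⟨χ, hm, -, -, -⟩ := exists_unique_meets F hreg l
        have hχ1 : (χ : M → ℂ) ≠ fun _ => 1 := by
          intro h
          apply hm.2
          rw [h]
          exact classInner_irr_of_ne isIrrCharacter_one (isIrrCharacter_hom l) (fun e => hl (by
            ext a
            simpa [lf] using (congrFun e a).symm))
        obtain ⟨l', hl', hm'⟩ := hsing χ hm.1 hχ1
        have hres := h2 l' χ hl' hm'
        have hor : InOrbit F l' l := by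
          by_contra hor
          apply hm.2
          rw [hres, classInner_orbSum F hl', if_neg hor]
        obtain ⟨x₀, hx₀, hx₀e⟩ := hor
        rw [← hx₀e, orbSum_twist F hx₀, ← hres]
        exact hχ χ hm.1
    -- separation by linear characters
    let Φ : F → F → ℂ := fun a z =>
      (#(univ.filter fun y : M => y ∈ Subgroup.normalizer (F : Set M) ∧
        y⁻¹ * (a : M) * y = (z : M)) : ℂ)
    have hinner : ∀ (a : F) (ν : F →* ℂˣ),
        classInner (Φ a) (lf F ν) = (starRingEnd ℂ) (orbSum F (lf F ν) a) := by
      intro a ν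
      simp only [classInner_def, orbSum, map_mul, map_inv₀, Complex.conj_natCast, map_sum, Φ]
      congr 1
      simp only [← sum_boole, sum_mul]
      rw [sum_comm, sum_filter]
      refine sum_congr rfl fun y _ => ?_
      by_cases hy : y ∈ Subgroup.normalizer (F : Set M)
      · rw [if_pos hy]
        have hmem : y⁻¹ * (a : M) * y ∈ F := by
          have h := (Subgroup.mem_normalizer_iff.1
            ((Subgroup.normalizer _).inv_mem hy) (a : M)).1 a.2
          simpa using h
        rw [Finset.sum_eq_single ⟨_, hmem⟩]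
        · simp [hy, twist, extendByZero_of_mem _ hmem]
        · intro z _ hz
          rw [if_neg, zero_mul]
          exact fun h => hz (Subtype.ext h.2.symm)
        · simp
      · simp [hy]
    have hΦ : Φ f = Φ f' := by
      refine classFunction_ext (isClassFunction F _) (isClassFunction F _) fun ρ => ?_
      obtain ⟨ν, hν⟩ := IsChar.exists_hom_of_degree_one (CharBasic.IsIrr.isCharacter ρ.2)
        (IsIrr.degree_one_of_comm (comm F) ρ.2)
      rw [show (ρ : F → ℂ) = lf F ν from funext hν, hinner, hinner, hall]
    have hpos : Φ f' f ≠ 0 := by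
      rw [← hΦ]
      simp only [Φ, Nat.cast_ne_zero, ← Nat.pos_iff_ne_zero, card_pos]
      exact ⟨1, by simp⟩
    simp only [Φ, Nat.cast_ne_zero, ← Nat.pos_iff_ne_zero, card_pos] at hpos
    obtain ⟨y, hy⟩ := hpos
    obtain ⟨hyN, hye⟩ := (mem_filter.1 hy).2
    obtain ⟨f₀, hf₀, -⟩ := hreg t (y • t)
    refine ⟨(f₀ : M)⁻¹ * y, (Subgroup.normalizer (F : Set M)).mul_mem
      ((Subgroup.normalizer _).inv_mem (Subgroup.le_normalizer f₀.2)) hyN, ?_, ?_⟩
    · rw [mul_smul, ← hf₀, inv_smul_smul]
    · have hc : (f₀ : M)⁻¹ * f' = f' * (f₀ : M)⁻¹ :=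
        congrArg Subtype.val (comm F f₀⁻¹ f')
      have e : (f₀ : M)⁻¹ * y * f = f' * ((f₀ : M)⁻¹ * y) := by
        rw [← mul_assoc (f' : M), ← hc, ← hye]
        group
      rw [← hf', ← hf, ← mul_smul, e, mul_smul, mul_smul, ← hf₀, inv_smul_smul]

end Cfsg.Agent.Bridge.Restriction
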