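import Cfsg.Agent.H73.Bender.ClosedLine
import Cfsg.Agent.H53.SE.PairStruct
import Cfsg.Agent.S0205

/-!
The bridge from the main theorem on strongly embedded actions to the rank-one set-up
(notes/helper76_bridge.md): the vocabulary, the inductive statement and the first consequences.
-/

set_option autoImplicit false
set_option linter.style.haveILetI false

namespace Cfsg.Agent.Bridge

open Subgroup MulAction
open Cfsg.Agent.H39
open Cfsg.Agent.H73.Bender
open Cfsg.Agent.Cores.SE

universe u v

section Defs

variable {G : Type u} [Group G] {Ω : Type v} [MulAction G Ω]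

/-- The involutions of `S` at the point `a`. -/
def invAt (S : Subgroup G) (a : Ω) : Set G := {t | t ∈ S ∧ orderOf t = 2 ∧ t • a = a}

/-- The involutions at `a` centralising `X`. -/
def invCent (S : Subgroup G) (a : Ω) (X : Subgroup G) : Set G :=
  {t | t ∈ invAt S a ∧ ∀ x ∈ X, Commute t x}

/-- No involution at `a` centralises `X`. -/
def IsExact (S : Subgroup G) (a : Ω) (X : Subgroup G) : Prop := invCent S a X = ∅

/-- At least two involutions at `a` centralise `X`. -/
def IsGood (S : Subgroup G) (a : Ω) (X : Subgroup G) : Prop := (invCent S a X).Nontrivial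

/-- Exactly one involution at `a` centralises `X`. -/
def IsBad (S : Subgroup G) (a : Ω) (X : Subgroup G) : Prop := ∃ t, invCent S a X = {t}

/-- A point stabiliser without non-trivial odd normal subgroup. -/
def CoreFree (S : Subgroup G) (a : Ω) : Prop :=
  ∀ W : Subgroup G, W ≤ ptStab S a → Odd (Nat.card W) →
    ptStab S a ≤ normalizer (W : Set G) → W = ⊥

/-- A normal `2`-subgroup `T` of the stabiliser of `a`, regular on the other points, in which the
involutions at `a` are central. -/
structure RegularTwo (S : Subgroup G) (C : Set Ω) (a : Ω) (T : Subgroup G) : Prop where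
  le : T ≤ ptStab S a
  normal : ptStab S a ≤ normalizer (T : Set G)
  isPGroup : IsPGroup 2 T
  trans : ∀ x ∈ C, x ≠ a → ∀ y ∈ C, y ≠ a → ∃ g ∈ T, g • x = y
  free : ∀ g ∈ T, ∀ x ∈ C, x ≠ a → g • x = x → g = 1
  inv_mem : ∀ t ∈ invAt S a, t ∈ T
  inv_comm : ∀ t ∈ invAt S a, ∀ g ∈ T, Commute t g

/-- The statement proved by induction on the group order. -/
def RegularAt (S : Subgroup G) (C : Set Ω) : Prop :=
  SE S C → RankTwo S → Faithful S C → (∀ c ∈ C, CoreFree S c) →
    ∀ a ∈ C, ∃ T, RegularTwo S C a T

/-- The line of a `q`-group `X` fixing `a` and another point, centralised by two involutions at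
`a`: a normal `2`-subgroup `T` of its centraliser at `a` which is regular on its other fixed
points and in which these involutions are central. -/
structure LineTwo (S : Subgroup G) (C : Set Ω) (a : Ω) (X T : Subgroup G) : Prop where
  le : T ≤ ptStab S a ⊓ centralizer (X : Set G)
  normal : ptStab S a ⊓ normalizer (X : Set G) ≤ normalizer (T : Set G)
  isPGroup : IsPGroup 2 T
  two_mem : ∀ g ∈ ptStab S a ⊓ centralizer (X : Set G), (∃ k, orderOf g = 2 ^ k) → g ∈ T
  trans : ∀ x ∈ fixedIn C X, x ≠ a → ∀ y ∈ fixedIn C X, y ≠ a → ∃ g ∈ T, g • x = y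
  free : ∀ g ∈ T, ∀ x ∈ fixedIn C X, x ≠ a → g • x = x → g = 1
  inv_comm : ∀ t ∈ invCent S a X, ∀ g ∈ T, Commute t g

end Defs

/-- `RegularAt` for all groups of order below `n`. -/
def RegularBelow (n : ℕ) : Prop :=
  ∀ (G' : Type u) [Group G'] [Finite G'] (Ω' : Type u) [MulAction G' Ω'] [Finite Ω']
    (T : Subgroup G') (C' : Set Ω'), Nat.card T < n → RegularAt T C'

/-- Point stabilisers are core free in every faithful rank-two action of a group of order below
`n` (the odd core theorem). -/
def CoreFreeBelow (n : ℕ) : Prop :=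
  ∀ (G' : Type u) [Group G'] [Finite G'] (Ω' : Type u) [MulAction G' Ω'] [Finite Ω']
    (T : Subgroup G') (C' : Set Ω'), Nat.card T < n → SE T C' → RankTwo T → Faithful T C' →
      ∀ c ∈ C', CoreFree T c

variable {G : Type u} [Group G] {Ω : Type u} [MulAction G Ω]

/-- The setting of the bridge: a faithful rank-two action, a pair `(a, b)` with swapper `u`, and
the inductive hypotheses. -/
structure Setting (S : Subgroup G) (C : Set Ω) (a b : Ω) (u : G) : Prop where
  se : SE S C
  rankTwo : RankTwo S
  faithful : Faithful S C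
  mem_left : a ∈ C
  mem_right : b ∈ C
  ne : a ≠ b
  swap_mem : u ∈ S
  swap_inv : orderOf u = 2
  swap : u • a = b
  below : RegularBelow.{u} (Nat.card S)
  coreBelow : CoreFreeBelow.{u} (Nat.card S)

variable {S : Subgroup G} {C : Set Ω} {a b : Ω} {u : G}

namespace Setting

variable (h : Setting S C a b u)
include h

theorem good [Finite G] [Finite Ω] : Good S C :=
  (H73.Bender.main G Ω S C h.se h.rankTwo).1

theorem twoTrans [Finite G] [Finite Ω] : TwoTrans S C :=
  (H73.Bender.main G Ω S C h.se h.rankTwo).2

theorem odd_pair [Finite G] : Odd (Nat.card (pair S a b)) :=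
  h.se.odd_pair h.mem_left h.mem_right h.ne

theorem isSolvable_pair [Finite G] : Group.IsSolvable (pair S a b) :=
  Cfsg.Agent.S0205.result h.odd_pair

/-- The pair stabiliser is transitive on the involutions at `a`. -/
theorem exists_conj_invAt [Finite G] {s t : G} (hs : s ∈ invAt S a) (ht : t ∈ invAt S a) :
    ∃ d ∈ pair S a b, d * s * d⁻¹ = t :=
  h.se.fix_conj h.mem_left h.mem_right h.ne hs.1 ht.1 hs.2.1 ht.2.1 hs.2.2 ht.2.2

/-- The swapper normalises the pair stabiliser. -/
theorem swap_mem_normalizer : u ∈ normalizer (pair S a b : Set G) := by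
  have key : ∀ d ∈ pair S a b, u * d * u⁻¹ ∈ pair S a b := fun d hd => by
    obtain ⟨hdS, hda, hdb⟩ := mem_pair.mp hd
    have hi : u⁻¹ = u := inv_eq_of_orderOf_eq_two h.swap_inv
    have hb := swap_symm h.swap_inv h.swap
    refine mem_pair.mpr ⟨conj_mem_of_mem h.swap_mem hdS, ?_, ?_⟩
    · rw [hi, mul_smul, mul_smul, h.swap, hdb, hb]
    · rw [hi, mul_smul, mul_smul, hb, hda, h.swap]
  refine Subgroup.mem_normalizer_iff.mpr fun d => ⟨key d, fun hd => ?_⟩
  have hd' := key _ hd
  have hi : u⁻¹ = u := inv_eq_of_orderOf_eq_two h.swap_inv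
  have e : u * (u * d * u⁻¹) * u⁻¹ = d := by
    rw [hi, show u * (u * d * u) * u = (u * u) * d * (u * u) by group,
      mul_self_of_orderOf_eq_two h.swap_inv, one_mul, mul_one]
  rwa [e] at hd'

end Setting

end Cfsg.Agent.Bridge
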