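import Cfsg.Agent.H72.FocalComplement
import Cfsg.Agent.H29.Bender.Sylow
import Cfsg.Agent.H51.Flavell.Act
import Mathlib.GroupTheory.Transfer

/-!
The transfer of a point stabiliser transitive on the other points, evaluated on elements whose
centralisers are transitive on their fixed points; the normal complement and its nilpotence.
-/

set_option autoImplicit false
set_option linter.style.haveILetI false

namespace Cfsg.Agent.Bridge

open Subgroup MulAction
open Cfsg.Agent.H29.Bender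
open scoped commutatorElement

variable {G : Type*} [Group G] {Ω : Type*} [MulAction G Ω]

/-- `M` preserves `Y` and is transitive on it; `b` is the chosen point of `Y`. -/
structure MTrans (M : Subgroup G) (Y : Set Ω) (b : Ω) : Prop where
  mem : b ∈ Y
  smul_mem : ∀ g ∈ M, ∀ c ∈ Y, g • c ∈ Y
  trans : ∀ c ∈ Y, ∃ g ∈ M, g • b = c

/-- The stabiliser in `M` of the chosen point. -/
def base (M : Subgroup G) (b : Ω) : Subgroup G := M ⊓ stabilizer G b

theorem mem_base {M : Subgroup G} {b : Ω} {g : G} : g ∈ base M b ↔ g ∈ M ∧ g • b = b := Iff.rfl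

/-- The fixed points of `y` in `Y`. -/
def fixIn (Y : Set Ω) (y : G) : Set Ω := {c | c ∈ Y ∧ y • c = c}

/-- `T` is a `2`-subgroup of `C_M(z)` normalised by `C_M(z)` and regular on the fixed points of
`z` in `Y`. -/
structure RegTwo (M : Subgroup G) (Y : Set Ω) (z : G) (T : Subgroup G) : Prop where
  le : T ≤ M
  pgroup : IsPGroup 2 T
  comm : ∀ t ∈ T, Commute t z
  conj : ∀ g ∈ M, Commute g z → ∀ t ∈ T, g * t * g⁻¹ ∈ T
  regular : ∀ c ∈ Y, z • c = c → ∀ d ∈ Y, z • d = d → ∃! t, t ∈ T ∧ t • c = d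

/-- `C_M(y)` is transitive on the fixed points of `y` in `Y`. -/
def FixTrans (M : Subgroup G) (Y : Set Ω) (b : Ω) (y : G) : Prop :=
  ∀ c ∈ fixIn Y y, ∃ h ∈ M, Commute h y ∧ h • b = c

/-- Every non-trivial power of `x` has only the fixed point `b` in `Y`, or has a power with a
regular `2`-group. -/
def Mild (M : Subgroup G) (Y : Set Ω) (b : Ω) (x : G) : Prop :=
  ∀ y ∈ zpowers x, y ≠ 1 →
    (∀ c ∈ fixIn Y y, c = b) ∨ ∃ z ∈ zpowers y, ∃ T, RegTwo M Y z T

/-- The centre of a Sylow `q`-subgroup of the base has an element with a regular `2`-group. -/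
def CentralRegTwo (q : ℕ) (M : Subgroup G) (Y : Set Ω) (b : Ω) : Prop :=
  ∃ P, IsSyl q (base M b) P ∧ ∃ z ∈ P, (∀ p ∈ P, Commute p z) ∧ ∃ T, RegTwo M Y z T

/-- A harmless `q`-element. -/
def Harmless (q : ℕ) (M : Subgroup G) (Y : Set Ω) (b : Ω) (x : G) : Prop :=
  Mild M Y b x ∨ CentralRegTwo q M Y b

variable {M : Subgroup G} {Y : Set Ω} {b : Ω}

theorem MTrans.base_smul_mem (hM : MTrans M Y b) {g : G} (hg : g ∈ base M b) {c : Ω} (hc : c ∈ Y) :
    g • c ∈ Y := hM.smul_mem g (mem_base.mp hg).1 c hc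

/-- An element of `M` commuting with `z` and fixing two fixed points of `z` commutes with the
element of `T` between them. -/
theorem RegTwo.commute_of_fix {z : G} {T : Subgroup G} (hT : RegTwo M Y z T) {g : G} (hg : g ∈ M)
    (hgz : Commute g z) {t : G} (ht : t ∈ T) {c : Ω} (hc : c ∈ Y) (htc : t • c ∈ Y)
    (hzc : z • c = c) (hgc : g • c = c) (hgd : g • t • c = t • c) : Commute g t := by
  have hzd : z • t • c = t • c := by
    rw [← mul_smul, ← (hT.comm t ht).eq, mul_smul, hzc]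
  have h := (hT.regular c hc hzc _ htc hzd).unique (y₁ := g * t * g⁻¹) (y₂ := t)
    ⟨hT.conj g hg hgz t ht, by
      have hgc' : g⁻¹ • c = c := by rw [inv_smul_eq_iff, hgc]
      rw [mul_smul, mul_smul, hgc', hgd]⟩ ⟨ht, rfl⟩
  exact mul_inv_eq_iff_eq_mul.mp h

/-- Conjugates of regular `2`-groups. -/
theorem RegTwo.map (hM : MTrans M Y b) {z : G} {T : Subgroup G} (hT : RegTwo M Y z T) {m : G}
    (hm : m ∈ M) : RegTwo M Y (m * z * m⁻¹) (T.map (MulAut.conj m).toMonoidHom) := by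
  refine ⟨?_, hT.pgroup.map _, ?_, ?_, ?_⟩
  · rintro _ ⟨t, ht, rfl⟩
    exact mul_mem (mul_mem hm (hT.le ht)) (inv_mem hm)
  · rintro _ ⟨t, ht, rfl⟩
    simpa using (hT.comm t ht).map (MulAut.conj m).toMonoidHom
  · rintro g hg hgz _ ⟨t, ht, rfl⟩
    refine ⟨_, hT.conj (m⁻¹ * g * m) (mul_mem (mul_mem (inv_mem hm) hg) hm) ?_ t ht, ?_⟩
    · have h := hgz.map (MulAut.conj m⁻¹).toMonoidHom
      simpa [mul_assoc] using h
    · simp [mul_assoc]
  · intro c hc hzc d hd hzd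
    have hinv : ∀ e : Ω, (m * z * m⁻¹) • e = e → z • m⁻¹ • e = m⁻¹ • e := fun e he => by
      rwa [mul_smul, mul_smul, ← eq_inv_smul_iff] at he
    obtain ⟨t, ⟨ht, htc⟩, huniq⟩ := hT.regular _ (hM.smul_mem _ (inv_mem hm) c hc) (hinv c hzc)
      _ (hM.smul_mem _ (inv_mem hm) d hd) (hinv d hzd)
    refine ⟨m * t * m⁻¹, ⟨⟨t, ht, rfl⟩, by rw [mul_smul, mul_smul, htc, smul_inv_smul]⟩, ?_⟩
    rintro _ ⟨⟨s, hs, rfl⟩, hsc⟩
    have hs' : (m * s * m⁻¹) • c = d := hsc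
    rw [mul_smul, mul_smul, ← eq_inv_smul_iff] at hs'
    have h := huniq s ⟨hs, hs'⟩
    subst h
    rfl

section TwoOrbit

variable {z : G} {T : Subgroup G} (hM : MTrans M Y b) (hT : RegTwo M Y z T) {y : G}
  (hy : y ∈ base M b) (hyz : Commute y z) (hzb : z • b = b)
  (hfix : ∀ c ∈ fixIn Y y, z • c = c)
include hM hT hy hyz hzb hfix

/-- The fixed points of `y` are the images of `b` under `C_T(y)`. -/
theorem exists_two_mover {c : Ω} (hc : c ∈ fixIn Y y) :
    ∃ t ∈ T, Commute t y ∧ t • b = c := by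
  obtain ⟨t, ⟨ht, htb⟩, -⟩ := hT.regular b hM.mem hzb c hc.1 (hfix c hc)
  refine ⟨t, ht, (hT.commute_of_fix (mem_base.mp hy).1 hyz ht hM.mem (htb ▸ hc.1) hzb
    (mem_base.mp hy).2 ?_).symm, htb⟩
  rw [htb, hc.2]

theorem card_fixIn_eq_two_pow [Finite G] : ∃ n, (fixIn Y y).ncard = 2 ^ n := by
  set C := T ⊓ centralizer {y}
  obtain ⟨n, hn⟩ := IsPGroup.iff_card.mp (hT.pgroup.to_le (inf_le_left : C ≤ T))
  refine ⟨n, ?_⟩
  rw [← hn, ← Nat.card_coe_set_eq]
  have hmem : ∀ t : C, (t : G) • b ∈ fixIn Y y := fun t => by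
    obtain ⟨ht, hty⟩ := Subgroup.mem_inf.mp t.2
    refine ⟨hM.smul_mem _ (hT.le ht) b hM.mem, ?_⟩
    rw [← mul_smul, ← mem_centralizer_singleton_iff.mp hty, mul_smul, (mem_base.mp hy).2]
  refine (Nat.card_congr (Equiv.ofBijective (fun t : C => (⟨_, hmem t⟩ : fixIn Y y)) ⟨?_, ?_⟩)).symm
  · intro s t hst
    obtain ⟨hs, -⟩ := Subgroup.mem_inf.mp s.2
    obtain ⟨ht, -⟩ := Subgroup.mem_inf.mp t.2
    refine Subtype.ext ((hT.regular b hM.mem hzb ((s : G) • b) (hmem s).1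
      (hfix _ (hmem s))).unique ⟨hs, rfl⟩ ⟨ht, (congrArg Subtype.val hst).symm⟩)
  · rintro ⟨c, hc⟩
    obtain ⟨t, ht, hty, htb⟩ := exists_two_mover hM hT hy hyz hzb hfix hc
    exact ⟨⟨t, ht, mem_centralizer_singleton_iff.mpr hty.eq⟩, Subtype.ext htb⟩

end TwoOrbit

/-- A mild element: a `2`-element commuting with it moves `b` to any other fixed point. -/
theorem Mild.exists_two_mover [Finite G] (hM : MTrans M Y b) {x : G} (hx : x ∈ base M b)
    (h : Mild M Y b x) {y : G} (hy : y ∈ zpowers x) (hy1 : y ≠ 1) :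
    (∀ c ∈ fixIn Y y, ∃ t ∈ M, (∃ n, orderOf t = 2 ^ n) ∧ Commute t y ∧ t • b = c) ∧
      ∃ n, (fixIn Y y).ncard = 2 ^ n := by
  have hyb : y ∈ base M b := zpowers_le.mpr hx hy
  rcases h y hy hy1 with hex | ⟨z, hz, T, hT⟩
  · refine ⟨fun c hc => ⟨1, one_mem M, ⟨0, orderOf_one⟩, Commute.one_left y, ?_⟩, 0, ?_⟩
    · rw [one_smul, hex c hc]
    · rw [pow_zero, Set.ncard_eq_one]
      exact ⟨b, Set.eq_singleton_iff_unique_mem.mpr ⟨⟨hM.mem, (mem_base.mp hyb).2⟩, hex⟩⟩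
  have hzb : z • b = b := (mem_base.mp (zpowers_le.mpr hyb hz)).2
  obtain ⟨k, rfl⟩ := hz
  have hyz : Commute y (y ^ k) := (Commute.refl y).zpow_right k
  have hfix : ∀ c ∈ fixIn Y y, (y ^ k) • c = c := fun c hc =>
    zpow_mem (show y ∈ stabilizer G c from hc.2) k
  refine ⟨fun c hc => ?_, card_fixIn_eq_two_pow hM hT hyb hyz hzb hfix⟩
  obtain ⟨t, ht, hty, htb⟩ := Bridge.exists_two_mover hM hT hyb hyz hzb hfix hc
  refine ⟨t, hT.le ht, ?_, hty, htb⟩
  obtain ⟨n, hn⟩ := (IsPGroup.iff_orderOf.mp hT.pgroup) ⟨t, ht⟩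
  exact ⟨n, (Subgroup.orderOf_mk t ht).symm.trans hn⟩

theorem Mild.fixTrans [Finite G] (hM : MTrans M Y b) {x : G} (hx : x ∈ base M b)
    (h : Mild M Y b x) {y : G} (hy : y ∈ zpowers x) : FixTrans M Y b y := by
  intro c hc
  by_cases hy1 : y = 1
  · obtain ⟨g, hg, hgc⟩ := hM.trans c hc.1
    exact ⟨g, hg, hy1 ▸ Commute.one_right g, hgc⟩
  obtain ⟨t, ht, -, hty, htb⟩ := (h.exists_two_mover hM hx hy hy1).1 c hc
  exact ⟨t, ht, hty, htb⟩

variable [Finite G] [Finite Ω] {q : ℕ} [Fact q.Prime]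

/-- The fixed points of a `q`-element of `M` count `|Y|` modulo `q`. -/
theorem ncard_modEq_fixIn (hM : MTrans M Y b) {x : G} (hxM : x ∈ M)
    (hx : ∃ n, orderOf x = q ^ n) : Y.ncard ≡ (fixIn Y x).ncard [MOD q] := by
  obtain ⟨n, hn⟩ := hx
  letI : MulAction (zpowers x) Y :=
    { smul := fun g c => ⟨(g : G) • c.1, hM.smul_mem _ (zpowers_le.mpr hxM g.2) c.1 c.2⟩
      one_smul := fun c => Subtype.ext (one_smul G c.1)
      mul_smul := fun g h c => Subtype.ext (mul_smul (g : G) (h : G) c.1) }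
  have hP : IsPGroup q (zpowers x) := IsPGroup.of_card (Nat.card_zpowers x ▸ hn)
  have h := hP.card_modEq_card_fixedPoints Y
  rw [Nat.card_coe_set_eq] at h
  refine h.trans (Eq.congr_right ?_ |>.mp rfl)
  rw [← Nat.card_coe_set_eq (fixIn Y x)]
  congr 1
  refine Nat.card_congr
    { toFun := fun c => ⟨c.1.1, c.1.2, congrArg Subtype.val (c.2 ⟨x, mem_zpowers x⟩)⟩
      invFun := fun c => ⟨⟨c.1, c.2.1⟩, fun g => Subtype.ext
        (zpowers_le.mpr (show x ∈ stabilizer G c.1 from c.2.2) g.2)⟩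
      left_inv := fun _ => rfl
      right_inv := fun _ => rfl }

theorem not_dvd_two_pow (hq : q ≠ 2) (n : ℕ) : ¬ q ∣ 2 ^ n := fun h =>
  hq ((Nat.prime_dvd_prime_iff_eq Fact.out Nat.prime_two).mp
    ((Fact.out : q.Prime).dvd_of_dvd_pow h))

theorem Mild.not_dvd (hM : MTrans M Y b) {x : G} (hx : x ∈ base M b) (hx1 : x ≠ 1)
    (hxq : ∃ n, orderOf x = q ^ n) (hq : q ≠ 2) (h : Mild M Y b x) : ¬ q ∣ Y.ncard := by
  obtain ⟨n, hn⟩ := (h.exists_two_mover hM hx (mem_zpowers x) hx1).2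
  intro hd
  have hmod := ncard_modEq_fixIn hM (mem_base.mp hx).1 hxq
  rw [hn] at hmod
  exact not_dvd_two_pow hq n (hmod.dvd_iff dvd_rfl |>.mp hd)

/-- The centralisers of all `q`-elements are transitive on their fixed points, which are not a
multiple of `q` in number, when a central element of a Sylow subgroup has a regular `2`-group. -/
theorem CentralRegTwo.fixTrans (hM : MTrans M Y b) (hq : q ≠ 2) (h : CentralRegTwo q M Y b)
    {x : G} (hx : x ∈ base M b) (hxq : ∃ n, orderOf x = q ^ n) :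
    FixTrans M Y b x ∧ ¬ q ∣ (fixIn Y x).ncard := by
  obtain ⟨P, hP, z, hzP, hzc, T, hT⟩ := h
  set C : Subgroup G := M ⊓ centralizer {x} with hC
  have hxM : x ∈ M := (mem_base.mp hx).1
  have hxC : x ∈ C := ⟨hxM, mem_centralizer_singleton_iff.mpr rfl⟩
  have key : ∀ c ∈ fixIn Y x, ∃ Pc : Subgroup G, IsSyl q C Pc ∧ (∀ p ∈ Pc, p • c = c) ∧
      x ∈ Pc ∧ ∀ d ∈ Y, (∀ p ∈ Pc, p • d = d) → ∃ t ∈ C, t • c = d := by
    intro c hc
    have hxCc : zpowers x ≤ C ⊓ stabilizer G c := zpowers_le.mpr ⟨hxC, hc.2⟩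
    obtain ⟨n, hn⟩ := hxq
    obtain ⟨Pc, hxPc, hPc⟩ := exists_isSyl_ge (q := q) hxCc
      (IsPGroup.of_card (Nat.card_zpowers x ▸ hn))
    have hxPc' : x ∈ Pc := hxPc (mem_zpowers x)
    obtain ⟨g, hg, hgc⟩ := hM.trans c hc.1
    have hle : Pc.map (MulAut.conj g⁻¹).toMonoidHom ≤ base M b := by
      rintro _ ⟨p, hp, rfl⟩
      obtain ⟨hpC, hpc⟩ := Subgroup.mem_inf.mp (hPc.le hp)
      refine mem_base.mpr ⟨mul_mem (mul_mem (inv_mem hg) (Subgroup.mem_inf.mp hpC).1)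
        (by simpa using hg), ?_⟩
      have hpc' : p • c = c := hpc
      simp [mul_smul, hgc, hpc', inv_smul_eq_iff]
    obtain ⟨P', hle', hP'⟩ := exists_isSyl_ge (q := q) hle (hPc.pgroup.map _)
    obtain ⟨d, hd, hdP⟩ := hP.exists_conj hP'
    obtain ⟨hdM, hdb⟩ := mem_base.mp hd
    set m := g * d with hm
    have hmM : m ∈ M := mul_mem hg hdM
    have hmb : m • b = c := by rw [hm, mul_smul, hdb, hgc]
    set P'' := P.map (MulAut.conj m).toMonoidHom with hP''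
    have hPcP : Pc ≤ P'' := by
      intro p hp
      obtain ⟨s, hs, hsp⟩ := hdP ▸ hle' (Subgroup.mem_map_of_mem _ hp)
      refine ⟨s, hs, ?_⟩
      simp only [MulEquiv.coe_toMonoidHom, MulAut.conj_apply, inv_inv] at hsp ⊢
      calc m * s * m⁻¹ = g * (d * s * d⁻¹) * g⁻¹ := by rw [hm]; group
        _ = p := by rw [hsp]; group
    set w := m * z * m⁻¹ with hw
    have hwc : ∀ p ∈ P'', Commute p w := by
      rintro _ ⟨p, hp, rfl⟩
      simpa [hw] using (hzc p hp).map (MulAut.conj m).toMonoidHom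
    have hwC : w ∈ C ⊓ stabilizer G c := by
      obtain ⟨hzM, hzb⟩ := mem_base.mp (hP.le hzP)
      refine Subgroup.mem_inf.mpr ⟨Subgroup.mem_inf.mpr ⟨mul_mem (mul_mem hmM hzM) (inv_mem hmM),
        mem_centralizer_singleton_iff.mpr (hwc x (hPcP hxPc')).eq.symm⟩, ?_⟩
      show w • c = c
      rw [hw, mul_smul, mul_smul, inv_smul_eq_iff.mpr hmb.symm, hzb, hmb]
    have hwPc : w ∈ Pc := by
      have e := hPc.eq_of_ge (P := P'' ⊓ (C ⊓ stabilizer G c)) (le_inf hPcP hPc.le) inf_le_right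
        ((hP.pgroup.map _).to_le inf_le_left)
      rw [← e]
      exact Subgroup.mem_inf.mpr ⟨Subgroup.mem_map.mpr ⟨z, hzP, rfl⟩, hwC⟩
    have hT' := hT.map hM hmM
    set T' := T.map (MulAut.conj m).toMonoidHom with hT'def
    have hPcM : ∀ p ∈ Pc, p ∈ M ∧ p • c = c := fun p hp =>
      ⟨(Subgroup.mem_inf.mp (Subgroup.mem_inf.mp (hPc.le hp)).1).1,
        (Subgroup.mem_inf.mp (hPc.le hp)).2⟩
    have hwc' : w • c = c := (hPcM w hwPc).2
    have hmove : ∀ d ∈ Y, (∀ p ∈ Pc, p • d = d) →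
        ∃ t ∈ T', (∀ p ∈ Pc, Commute p t) ∧ t • c = d := by
      intro d hdY hdfix
      obtain ⟨t, ⟨ht, htc⟩, -⟩ := hT'.regular c hc.1 hwc' d hdY (hdfix w hwPc)
      exact ⟨t, ht, fun p hp => hT'.commute_of_fix (hPcM p hp).1 (hwc p (hPcP hp)) ht hc.1
        (htc ▸ hdY) hwc' (hPcM p hp).2 (by rw [htc, hdfix p hp]), htc⟩
    have htC : ∀ t ∈ T', (∀ p ∈ Pc, Commute p t) → t ∈ C := fun t ht htp =>
      ⟨hT'.le ht, mem_centralizer_singleton_iff.mpr (htp x hxPc').eq.symm⟩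
    refine ⟨Pc, ?_, fun p hp => (hPcM p hp).2, hxPc', fun d hdY hdfix => ?_⟩
    swap
    · obtain ⟨t, ht, htp, htc⟩ := hmove d hdY hdfix
      exact ⟨t, htC t ht htp, htc⟩
    -- the orbit of `c` under `C` has size prime to `q`
    have hPcC : Pc ≤ C := hPc.le.trans inf_le_left
    letI : MulAction Pc (orbit C c) :=
      MulAction.compHom _ (Subgroup.inclusion hPcC)
    have hmod := hPc.pgroup.card_modEq_card_fixedPoints (orbit C c)
    have horbY : ∀ e ∈ orbit C c, e ∈ Y := by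
      rintro _ ⟨g, rfl⟩
      exact hM.smul_mem _ (Subgroup.mem_inf.mp g.2).1 c hc.1
    set U := T' ⊓ centralizer (Pc : Set G) with hU
    obtain ⟨e, he⟩ := IsPGroup.iff_card.mp (hT'.pgroup.to_le (inf_le_left : U ≤ T'))
    have hUmem : ∀ u : U, (u : G) ∈ C ∧ ∀ p ∈ Pc, p • ((u : G) • c) = (u : G) • c := fun u => by
      obtain ⟨hu, huc⟩ := Subgroup.mem_inf.mp u.2
      refine ⟨htC _ hu fun p hp => mem_centralizer_iff.mp huc p hp, fun p hp => ?_⟩
      rw [← mul_smul, mem_centralizer_iff.mp huc p hp, mul_smul, (hPcM p hp).2]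
    have hcardfix : Nat.card (fixedPoints Pc (orbit C c)) = 2 ^ e := by
      rw [← he]
      refine (Nat.card_congr (Equiv.ofBijective (fun u : U =>
        (⟨⟨(u : G) • c, ⟨⟨u, (hUmem u).1⟩, rfl⟩⟩, fun p => Subtype.ext ((hUmem u).2 p p.2)⟩ :
          fixedPoints Pc (orbit C c))) ⟨?_, ?_⟩)).symm
      · intro s t hst
        have hst' : (s : G) • c = (t : G) • c :=
          congrArg (fun v : fixedPoints Pc (orbit C c) => ((v : orbit C c) : Ω)) hst
        exact Subtype.ext ((hT'.regular c hc.1 hwc' ((s : G) • c)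
          (hM.smul_mem _ (Subgroup.mem_inf.mp (hUmem s).1).1 c hc.1) ((hUmem s).2 w hwPc)).unique
          ⟨(Subgroup.mem_inf.mp s.2).1, rfl⟩ ⟨(Subgroup.mem_inf.mp t.2).1, hst'.symm⟩)
      · rintro ⟨⟨d, hdo⟩, hdfix⟩
        obtain ⟨t, ht, htp, htc⟩ := hmove d (horbY d hdo) fun p hp =>
          congrArg Subtype.val (hdfix ⟨p, hp⟩)
        exact ⟨⟨t, ht, mem_centralizer_iff.mpr fun p hp => (htp p hp).eq⟩,
          Subtype.ext (Subtype.ext htc)⟩
    have hnd : ¬ q ∣ Nat.card (orbit C c) := fun hd => not_dvd_two_pow hq e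
      (hcardfix ▸ (hmod.dvd_iff dvd_rfl).mp hd)
    refine ⟨hPcC, hPc.pgroup, fun R hR hRq => ?_⟩
    obtain ⟨S, hRS, hS⟩ := exists_isSyl_ge (q := q) hR hRq
    refine (Subgroup.card_le_of_le hRS).trans (le_of_eq ?_)
    rw [hS.card_eq, hPc.card_eq]
    congr 1
    have hidx : Nat.card C = Nat.card (orbit C c) * Nat.card ↥(C ⊓ stabilizer G c) := by
      have he : stabilizer C c = (C ⊓ stabilizer G c).subgroupOf C := by
        ext g
        rw [mem_subgroupOf, Subgroup.mem_inf, MulAction.mem_stabilizer_iff]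
        exact ⟨fun h => ⟨g.2, h⟩, fun h => h.2⟩
      rw [Nat.card_congr (orbitEquivQuotientStabilizer C c), he,
        Nat.card_congr (subgroupOfEquivOfLe (inf_le_left : C ⊓ stabilizer G c ≤ C)).symm.toEquiv,
        ← Subgroup.card_eq_card_quotient_mul_card_subgroup]
    have hne : Nat.card (orbit C c) ≠ 0 := fun h0 => hnd (h0 ▸ dvd_zero q)
    rw [hidx, Nat.factorization_mul hne Nat.card_pos.ne']
    rw [Finsupp.add_apply, Nat.factorization_eq_zero_of_not_dvd hnd, zero_add]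
  have htrans : ∀ c ∈ fixIn Y x, ∀ d ∈ fixIn Y x, ∃ g ∈ C, g • c = d := by
    intro c hc d hd
    obtain ⟨Pc, hPc, hfc, -, -⟩ := key c hc
    obtain ⟨Pd, hPd, -, -, hmove⟩ := key d hd
    obtain ⟨k, hk, hkP⟩ := hPc.exists_conj hPd
    obtain ⟨t, ht, htd⟩ := hmove (k • c) (hM.smul_mem _ (Subgroup.mem_inf.mp hk).1 c hc.1) <| by
      intro p hp
      obtain ⟨s, hs, rfl⟩ := hkP ▸ hp
      simp [mul_smul, hfc s hs]
    refine ⟨t⁻¹ * k, mul_mem (inv_mem ht) hk, ?_⟩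
    rw [mul_smul, ← htd, inv_smul_smul]
  have hbfix : b ∈ fixIn Y x := ⟨hM.mem, (mem_base.mp hx).2⟩
  refine ⟨fun c hc => ?_, ?_⟩
  · obtain ⟨g, hg, hgb⟩ := htrans b hbfix c hc
    exact ⟨g, (Subgroup.mem_inf.mp hg).1,
      mem_centralizer_singleton_iff.mp (Subgroup.mem_inf.mp hg).2, hgb⟩
  · obtain ⟨Pb, hPb, hfb, -, -⟩ := key b hbfix
    have horb : orbit C b = fixIn Y x := by
      refine Set.Subset.antisymm ?_ fun c hc => ?_
      · rintro _ ⟨⟨g, hg⟩, rfl⟩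
        obtain ⟨hgM, hgx⟩ := Subgroup.mem_inf.mp hg
        refine ⟨hM.smul_mem g hgM b hM.mem, ?_⟩
        show x • g • b = g • b
        rw [← mul_smul, ← mem_centralizer_singleton_iff.mp hgx, mul_smul, hbfix.2]
      · obtain ⟨g, hg, hgb⟩ := htrans b hbfix c hc
        exact ⟨⟨g, hg⟩, hgb⟩
    rw [← horb, ← Nat.card_coe_set_eq, Nat.card_congr (orbitEquivQuotientStabilizer C b),
      ← Subgroup.index_eq_card]
    obtain ⟨R, hR⟩ := hPb.exists_sylow
    intro hdvd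
    refine R.not_dvd_index (hdvd.trans (index_dvd_of_le ?_))
    intro r hr
    exact hfb _ (hR ▸ Subgroup.mem_map_of_mem _ hr)

/-- The transfer of an element all of whose powers have centralisers transitive on their fixed
points is its `|Y|`-th power. -/
theorem mem_commutator_of_fixTrans (hM : MTrans M Y b) {x : G} (hx : x ∈ base M b)
    (hfus : ∀ k : ℕ, FixTrans M Y b (x ^ k)) (hcop : (orderOf x).Coprime Y.ncard)
    (hxc : x ∈ ⁅M, M⁆) : x ∈ ⁅base M b, base M b⁆ := by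
  classical
  set K : Subgroup M := (base M b).subgroupOf M with hK
  obtain ⟨hxM, hxb⟩ := mem_base.mp hx
  letI : MulAction M Y :=
    { smul := fun g c => ⟨(g : G) • c.1, hM.smul_mem _ g.2 c.1 c.2⟩
      one_smul := fun c => Subtype.ext (one_smul G c.1)
      mul_smul := fun g h c => Subtype.ext (mul_smul (g : G) (h : G) c.1) }
  have hidx : K.index = Y.ncard := by
    rw [← Nat.card_coe_set_eq Y, Subgroup.index_eq_card]
    have hKs : K = stabilizer M (⟨b, hM.mem⟩ : Y) := by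
      ext g
      rw [hK, mem_subgroupOf, mem_base, MulAction.mem_stabilizer_iff]
      exact ⟨fun h => Subtype.ext h.2, fun h => ⟨g.2, congrArg Subtype.val h⟩⟩
    rw [hKs, ← Nat.card_congr (orbitEquivQuotientStabilizer M (⟨b, hM.mem⟩ : Y))]
    refine Nat.card_congr ⟨fun c => c.1, fun c => ⟨c, ?_⟩, fun _ => rfl, fun _ => rfl⟩
    obtain ⟨g, hg, hgc⟩ := hM.trans c.1 c.2
    exact ⟨⟨g, hg⟩, Subtype.ext hgc⟩
  let ϕ : K →* Abelianization K := Abelianization.of
  have hxK : (⟨x, hxM⟩ : M) ∈ K := mem_subgroupOf.mpr hx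
  set xK : K := ⟨⟨x, hxM⟩, hxK⟩ with hxKdef
  have key : ∀ (k : ℕ) (g : M) (hk : g⁻¹ * (⟨x, hxM⟩ : M) ^ k * g ∈ K),
      ϕ ⟨_, hk⟩ = ϕ xK ^ k := by
    intro k g hk
    have hk' : ((g : G)⁻¹ * x ^ k * (g : G)) ∈ base M b := by simpa [hK, mem_subgroupOf] using hk
    have hfix : (x ^ k) • (g : G) • b = (g : G) • b := by
      have h := (mem_base.mp hk').2
      rwa [mul_smul, mul_smul, inv_smul_eq_iff] at h
    obtain ⟨h, hh, hhx, hhb⟩ := hfus k _ ⟨hM.smul_mem _ g.2 b hM.mem, hfix⟩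
    have hd : h⁻¹ * (g : G) ∈ base M b :=
      mem_base.mpr ⟨mul_mem (inv_mem hh) g.2, by rw [mul_smul, ← hhb, inv_smul_smul]⟩
    let dK : K := ⟨⟨h⁻¹ * g, mul_mem (inv_mem hh) g.2⟩, mem_subgroupOf.mpr hd⟩
    have e : (⟨_, hk⟩ : K) = dK⁻¹ * xK ^ k * dK := Subtype.ext (Subtype.ext (by
      simp only [hxKdef, dK, Subgroup.coe_mul, Subgroup.coe_inv, SubgroupClass.coe_pow, mul_inv_rev,
        inv_inv]
      calc (g : G)⁻¹ * x ^ k * g = (g : G)⁻¹ * (h * x ^ k * h⁻¹) * g := by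
            rw [hhx.eq, mul_inv_cancel_right]
        _ = _ := by simp [mul_assoc]))
    rw [e, map_mul, map_mul, map_inv, map_pow, mul_comm (ϕ dK)⁻¹, mul_assoc, inv_mul_cancel,
      mul_one]
  letI := Fintype.ofFinite (Quotient (orbitRel (zpowers (⟨x, hxM⟩ : M)) (M ⧸ K)))
  letI := Fintype.ofFinite (M ⧸ K)
  have htr : MonoidHom.transfer ϕ (⟨x, hxM⟩ : M) = ϕ xK ^ Y.ncard := by
    rw [MonoidHom.transfer_eq_prod_quotient_orbitRel_zpowers_quot, Finset.prod_congr rfl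
      fun q _ => key _ _ _, Finset.prod_pow_eq_pow_sum, ← hidx,
      index_eq_sum_minimalPeriod K (⟨x, hxM⟩ : M)]
  have hker : MonoidHom.transfer ϕ (⟨x, hxM⟩ : M) = 1 := by
    rw [← Subgroup.map_subtype_commutator] at hxc
    obtain ⟨y, hy, hyx⟩ := hxc
    have hyx' : y = ⟨x, hxM⟩ := Subtype.ext hyx
    subst hyx'
    exact Abelianization.commutator_subset_ker _ hy
  have hone : ϕ xK = 1 := by
    refine orderOf_eq_one_iff.mp (Nat.eq_one_of_dvd_coprimes hcop ?_ ?_)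
    · refine (orderOf_map_dvd ϕ xK).trans (dvd_of_eq ?_)
      rw [← Subgroup.orderOf_coe, ← Subgroup.orderOf_coe]
    · exact orderOf_dvd_of_pow_eq_one (htr ▸ hker)
  have hmem : xK ∈ commutator K := by rwa [← Abelianization.ker_of, MonoidHom.mem_ker]
  have h := Subgroup.mem_map_of_mem M.subtype (Subgroup.mem_map_of_mem K.subtype hmem)
  have hKmap : K.map M.subtype = base M b := by
    rw [hK, subgroupOf_map_subtype, inf_eq_left.mpr (show base M b ≤ M from inf_le_left)]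
  rw [Subgroup.map_subtype_commutator, Subgroup.map_commutator, hKmap] at h
  exact h

/-- A harmless element of `[M, M]` lies in the derived subgroup of the point stabiliser. -/
theorem mem_commutator_of_harmless (hM : MTrans M Y b) (hq : q ≠ 2) {x : G} (hx : x ∈ base M b)
    (hxq : ∃ n, orderOf x = q ^ n) (h : Harmless q M Y b x) (hxc : x ∈ ⁅M, M⁆) :
    x ∈ ⁅base M b, base M b⁆ := by
  by_cases hx1 : x = 1
  · subst hx1; exact one_mem _
  have hnd : ¬ q ∣ Y.ncard := by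
    rcases h with h | h
    · exact h.not_dvd hM hx hx1 hxq hq
    · exact fun hd => (h.fixTrans hM hq hx hxq).2
        (((ncard_modEq_fixIn hM (mem_base.mp hx).1 hxq).dvd_iff dvd_rfl).mp hd)
  refine mem_commutator_of_fixTrans hM hx (fun k => ?_) ?_ hxc
  · rcases h with h | h
    · exact h.fixTrans hM hx (pow_mem (mem_zpowers x) k)
    · obtain ⟨n, hn⟩ := hxq
      obtain ⟨i, -, hi⟩ := (Nat.dvd_prime_pow Fact.out).mp (hn ▸ orderOf_pow_dvd (x := x) k)
      exact (h.fixTrans hM hq (pow_mem hx k) ⟨i, hi⟩).1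
  · obtain ⟨n, hn⟩ := hxq
    rw [hn]
    exact ((Fact.out : q.Prime).coprime_iff_not_dvd.mpr hnd).pow_left n

end Cfsg.Agent.Bridge
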